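import Cfsg.Agent.KSG55.Om.Fam
import Cfsg.Agent.KSG55.Lin.RootSys

set_option autoImplicit false

/-! The relations, and the two stabilisers they give. -/

namespace Cfsg.Agent.KSG55.Om

open Matrix Cfsg.Agent.CharB.PSLMult Cfsg.Agent.KSG55.Lin

variable {F : Type*} [Field F]

/-- A finite field is additively generated by the squares of units. -/
theorem sq_ind [Finite F] {P : F → Prop} (h0 : P 0) (hadd : ∀ x y, P x → P y → P (x + y))
    (hneg : ∀ x, P x → P (-x)) (hsq : ∀ y : Fˣ, P ((y : F) ^ 2)) : ∀ x, P x := by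
  have hsq' : ∀ y : F, P (y ^ 2) := fun y => by
    rcases eq_or_ne y 0 with rfl | hy
    · simpa using h0
    · simpa using hsq (Units.mk0 y hy)
  intro x
  by_cases h2 : ringChar F = 2
  · obtain ⟨y, hy⟩ := FiniteField.isSquare_of_char_two h2 x
    rw [hy, ← sq]; exact hsq' y
  · have hne : (2 : F) ≠ 0 := Ring.two_ne_zero h2
    have e : x = ((x + 1) / 2) ^ 2 + -(((x - 1) / 2) ^ 2) := by field_simp; ring
    rw [e]; exact hadd _ _ (hsq' _) (hneg _ (hsq' _))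

section E2

variable {n : ℕ}

/-- The inclusion of two coordinates. -/
def incl (F : Type*) [Field F] (p q : Fin n) : Matrix (Fin n) (Fin 2) F := (1 : Matrix (Fin n) (Fin n) F).submatrix id ![p, q]

theorem incl_gram {p q : Fin n} (h : p ≠ q) : (incl F p q)ᵀ * incl F p q = (1 : Matrix (Fin 2) (Fin 2) F) := by
  rw [incl, transpose_submatrix, transpose_one, ← submatrix_mul _ _ _ id _ Function.bijective_id, Matrix.one_mul,
    submatrix_one]
  intro a b e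
  fin_cases a <;> fin_cases b <;> simp [h, h.symm] at e ⊢

/-- The copy of `SL₂` at two coordinates. -/
def e2 {p q : Fin n} (h : p ≠ q) : SpecialLinearGroup (Fin 2) F →* SpecialLinearGroup (Fin n) F where
  toFun M := ⟨1 + incl F p q * ((M.1 - 1) * (incl F p q)ᵀ), by
    rw [det_one_add_mul_comm, Matrix.mul_assoc, incl_gram h, Matrix.mul_one, add_sub_cancel]; exact M.2⟩
  map_one' := Subtype.ext (by simp)
  map_mul' M N := Subtype.ext (by
    show 1 + incl F p q * ((M.1 * N.1 - 1) * (incl F p q)ᵀ) =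
      (1 + incl F p q * ((M.1 - 1) * (incl F p q)ᵀ)) * (1 + incl F p q * ((N.1 - 1) * (incl F p q)ᵀ))
    rw [add_mul, one_mul, mul_add, mul_one, show M.1 * N.1 - 1 = (M.1 - 1) + (N.1 - 1) + (M.1 - 1) * (N.1 - 1) by
      simp only [sub_mul, mul_sub, one_mul, mul_one]; abel]
    have e : incl F p q * ((M.1 - 1) * (incl F p q)ᵀ) * (incl F p q * ((N.1 - 1) * (incl F p q)ᵀ)) =
        incl F p q * ((M.1 - 1) * (N.1 - 1) * (incl F p q)ᵀ) := by
      rw [Matrix.mul_assoc, Matrix.mul_assoc (M.1 - 1), ← Matrix.mul_assoc (incl F p q)ᵀ, incl_gram h, Matrix.one_mul,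
        ← Matrix.mul_assoc (M.1 - 1)]
    rw [e, Matrix.add_mul, Matrix.add_mul, Matrix.mul_add, Matrix.mul_add]
    abel)

theorem incl_single {p q : Fin n} (a b : Fin 2) (t : F) :
    incl F p q * (Matrix.single a b t * (incl F p q)ᵀ) = Matrix.single (![p, q] a) (![p, q] b) t := by
  ext i j
  rw [mul_apply, Finset.sum_eq_single a (fun k _ hk => by simp [mul_apply, single_apply, Ne.symm hk]) (by simp),
    mul_apply, Finset.sum_eq_single b (fun k _ hk => by simp [single_apply, Ne.symm hk]) (by simp)]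
  simp only [incl, single_apply, one_apply, transpose_apply, submatrix_apply, id]
  by_cases h1 : ![p, q] a = i <;> by_cases h2 : ![p, q] b = j
  · simp [← h1, ← h2]
  · simp [← h1, h2, Ne.symm h2]
  · simp [h1, Ne.symm h1]
  · simp [h1, Ne.symm h1]

theorem e2_mU {p q : Fin n} (h : p ≠ q) (t : F) : e2 h (mU t) = T p q t := by
  apply Subtype.ext
  show 1 + incl F p q * (((mU t).1 - 1) * (incl F p q)ᵀ) = _
  rw [T_coe h, show (mU t).1 - 1 = Matrix.single (0 : Fin 2) 1 t by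
    ext i j; fin_cases i <;> fin_cases j <;> simp, incl_single]
  rfl

theorem e2_mL {p q : Fin n} (h : p ≠ q) (t : F) : e2 h (mL t) = T q p t := by
  apply Subtype.ext
  show 1 + incl F p q * (((mL t).1 - 1) * (incl F p q)ᵀ) = _
  rw [T_coe h.symm, show (mL t).1 - 1 = Matrix.single (1 : Fin 2) 0 t by
    ext i j; fin_cases i <;> fin_cases j <;> simp, incl_single]
  rfl

theorem e2_mT {p q : Fin n} (h : p ≠ q) : (e2 h mT : SpecialLinearGroup (Fin n) F) = W p q := by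
  rw [mT_eq, map_mul, map_mul, e2_mU, e2_mL]; rfl

end E2

variable {m : ℕ}

local notation "SL" => SpecialLinearGroup (Fin (m + 4)) F

/-- The inverse transpose. -/
def τ : SL →* SL where
  toFun A := ⟨(A⁻¹).1ᵀ, by rw [det_transpose]; exact (A⁻¹).2⟩
  map_one' := Subtype.ext (by simp)
  map_mul' A B := Subtype.ext (by
    show ((A * B)⁻¹).1ᵀ = (A⁻¹).1ᵀ * (B⁻¹).1ᵀ
    rw [_root_.mul_inv_rev]
    exact transpose_mul (B⁻¹).1 (A⁻¹).1)

theorem τ_T {i j : Fin (m + 4)} (h : i ≠ j) (t : F) : τ (T i j t : SL) = T j i (-t) := by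
  apply Subtype.ext
  show ((T i j t : SL)⁻¹).1ᵀ = _
  rw [← T_neg, T_coe h, T_coe h.symm, transpose_add, transpose_one, transpose_single]

/-- The Weyl element exchanging the base pairs. -/
def wE : SL := W 2 0

/-- The conjugate root element. -/
def Ve {G : Type*} [Group G] (θ : SL → G) (z : G) (t : F) : G := z * θ (T 2 0 t) * z⁻¹

theorem negone_ne : (-1 : F) ≠ 0 := neg_ne_zero.mpr one_ne_zero

/-- Both indices in the first block, or neither. -/
def SameBlk (i j : Fin (m + 4)) : Prop := (i = 0 ∨ i = 1) ↔ (j = 0 ∨ j = 1)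

/-- The relations. -/
structure Rels {G : Type*} [Group G] (θ : SL → G) (z : G) : Prop where
  comm : ∀ i j, i ≠ j → SameBlk i j → ∀ t, Commute z (θ (T i j t))
  sq : z * z = θ (dg 0 1 negone_ne)
  braid : z * θ wE * z = θ wE * z * θ wE
  seedA : Commute (Ve θ z 1) (θ (T 1 2 1))
  seedB : Commute (Ve θ z 1) (θ (T 0 3 1))

/-- Basic transvections generating a stabiliser. -/
theorem gen_of_basic {K : Subgroup SL} (h01 : ∀ t, T 0 1 t ∈ K) (h10 : ∀ t, T 1 0 t ∈ K) (h12 : ∀ t, T 1 2 t ∈ K)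
    (h23 : ∀ t, T 2 3 t ∈ K) (h32 : ∀ t, T 3 2 t ∈ K)
    (h33 : ∀ i j, i ≠ j → i ≠ 0 → i ≠ 1 → i ≠ 2 → j ≠ 0 → j ≠ 1 → j ≠ 2 → ∀ t, T i j t ∈ K)
    (i j : Fin (m + 4)) (hij : i ≠ j) (hj : (j ≠ 0 ∧ j ≠ 1) ∨ (i = 0 ∧ j = 1) ∨ (i = 1 ∧ j = 0)) (t : F) :
    T i j t ∈ K := by
  have comm : ∀ {a b c : Fin (m + 4)}, a ≠ b → b ≠ c → a ≠ c → (∀ t, T a b t ∈ K) → (∀ t, T b c t ∈ K) →
      ∀ t, T a c t ∈ K := by
    intro a b c hab hbc hac h1 h2 t
    have e := T_comm hab hbc hac t (1 : F)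
    rw [mul_one] at e
    rw [← e, commutatorElement_def]
    exact mul_mem (mul_mem (mul_mem (h1 _) (h2 _)) (inv_mem (h1 _))) (inv_mem (h2 _))
  have h2j : ∀ j, j ≠ 0 → j ≠ 1 → j ≠ 2 → ∀ t, T 2 j t ∈ K := fun j j0 j1 j2 => by
    by_cases j3 : j = 3
    · subst j3; exact h23
    · exact comm ne23 (Ne.symm j3) (Ne.symm j2) h23
        (h33 3 j (Ne.symm j3) ne03.symm ne13.symm ne23.symm j0 j1 j2)
  have hi2 : ∀ i, i ≠ 0 → i ≠ 1 → i ≠ 2 → ∀ t, T i 2 t ∈ K := fun i i0 i1 i2 => by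
    by_cases i3 : i = 3
    · subst i3; exact h32
    · exact comm i3 ne23.symm i2 (h33 i 3 i3 i0 i1 i2 ne03.symm ne13.symm ne23.symm) h32
  have h1j : ∀ j, j ≠ 0 → j ≠ 1 → ∀ t, T 1 j t ∈ K := fun j j0 j1 => by
    by_cases j2 : j = 2
    · subst j2; exact h12
    · exact comm ne12 (Ne.symm j2) (Ne.symm j1) h12 (h2j j j0 j1 j2)
  rcases hj with ⟨j0, j1⟩ | ⟨rfl, rfl⟩ | ⟨rfl, rfl⟩
  · by_cases i0 : i = 0
    · subst i0; exact comm ne01 (Ne.symm j1) (Ne.symm j0) h01 (h1j j j0 j1) t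
    by_cases i1 : i = 1
    · subst i1; exact h1j j j0 j1 t
    by_cases i2 : i = 2
    · subst i2; exact h2j j j0 j1 (Ne.symm hij) t
    by_cases j2 : j = 2
    · subst j2; exact hi2 i i0 i1 i2 t
    · exact h33 i j hij i0 i1 i2 j0 j1 j2 t
  · exact h01 t
  · exact h10 t

/-- The data. -/
structure Data (F : Type*) [Field F] (m : ℕ) (G : Type*) [Group G] where
  θ : SpecialLinearGroup (Fin (m + 4)) F →* G
  z : G
  rels : Rels ⇑θ z

namespace Data

variable {G : Type*} [Group G] (D : Data F m G)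

/-- The elements commuting with `z`. -/
def Kz : Subgroup SL := (Subgroup.centralizer {D.z}).comap D.θ

theorem mem_Kz {A : SL} : A ∈ D.Kz ↔ Commute D.z (D.θ A) := by
  rw [Kz, Subgroup.mem_comap, Subgroup.mem_centralizer_singleton_iff]
  exact ⟨fun h => h.symm, fun h => h.symm⟩

theorem T_Kz {i j : Fin (m + 4)} (h : SameBlk i j) (t : F) : T i j t ∈ D.Kz := by
  by_cases e : i = j
  · rw [T, dif_pos e]; exact one_mem _
  · exact D.mem_Kz.mpr (D.rels.comm i j e h t)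

theorem dg_Kz {i j : Fin (m + 4)} (hne : i ≠ j) (h : SameBlk i j) {a : F} (ha : a ≠ 0) : dg i j ha ∈ D.Kz :=
  dg_mem hne (fun t => D.T_Kz h t) (fun t => D.T_Kz h.symm t) ha

theorem W_Kz {i j : Fin (m + 4)} (h : SameBlk i j) : W i j ∈ D.Kz :=
  W_mem (fun t => D.T_Kz h t) (fun t => D.T_Kz h.symm t)

/-- The square. -/
def hE : SL := dg 0 1 negone_ne

theorem hE_Kz : (hE : SL) ∈ D.Kz := D.dg_Kz ne01 (by simp [SameBlk]) _

theorem z_inv : D.z⁻¹ = (D.θ hE)⁻¹ * D.z := by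
  rw [eq_inv_mul_iff_mul_eq, hE, ← D.rels.sq, mul_inv_cancel_right]

/-- The conjugate Weyl element. -/
def nE : G := D.z * D.θ wE * D.z⁻¹

theorem nE_eq : D.nE = (D.θ wE)⁻¹ * D.z * D.θ wE := by
  rw [nE, mul_inv_eq_iff_eq_mul, mul_assoc ((D.θ wE)⁻¹ * D.z), mul_assoc ((D.θ wE)⁻¹), eq_inv_mul_iff_mul_eq,
    ← mul_assoc, ← mul_assoc, ← D.rels.braid]

theorem comm_nE {A : SL} (h : wE * A * wE⁻¹ ∈ D.Kz) : Commute D.nE (D.θ A) := by
  have h' := D.mem_Kz.mp h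
  rw [map_mul, map_mul, map_inv] at h'
  rw [nE_eq, Commute, SemiconjBy]
  calc (D.θ wE)⁻¹ * D.z * D.θ wE * D.θ A
      = (D.θ wE)⁻¹ * (D.z * (D.θ wE * D.θ A * (D.θ wE)⁻¹)) * D.θ wE := by group
    _ = D.θ A * ((D.θ wE)⁻¹ * D.z * D.θ wE) := by rw [h'.eq]; group

/-- The base root element. -/
def V0 (t : F) : G := Ve (⇑D.θ) D.z t

theorem V0_eq (t : F) : D.V0 t = D.z * D.θ (T 2 0 t) * D.z⁻¹ := rfl

/-- The opposite root element. -/
def W0 (t : F) : G := D.z * D.θ (T 0 2 (-t)) * D.z⁻¹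

theorem W0_eq (t : F) : D.W0 t = D.nE * D.V0 t * D.nE⁻¹ := by
  have e : wE * T 2 0 t * wE⁻¹ = (T 0 2 (-t) : SL) := by
    rw [wE, (W_mono ne02.symm).conj_T ne02.symm, Equiv.swap_apply_left, Equiv.swap_apply_right]
    simp [ne02]
  rw [W0, ← e, map_mul, map_mul, map_inv, nE, V0_eq]
  group

theorem V0_conj_comm {A : SL} (t : F) (hz : A ∈ D.Kz) (hc : A * T 2 0 t * A⁻¹ = T 2 0 t) :
    Commute (D.V0 t) (D.θ A) := by
  have h1 : Commute (D.θ (T 2 0 t)) (D.θ A) := by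
    have : T 2 0 t * A = A * (T 2 0 t : SL) := (mul_inv_eq_iff_eq_mul.mp hc).symm
    show _ * _ = _ * _
    rw [← map_mul, ← map_mul, this]
  exact (((D.mem_Kz.mp hz).symm.mul_right h1.symm).mul_right (D.mem_Kz.mp hz).symm.inv_right).symm

/-- The centraliser of the base root element. -/
def C1 : Subgroup SL := (Subgroup.centralizer {D.V0 1}).comap D.θ

theorem mem_C1 {A : SL} : A ∈ D.C1 ↔ Commute (D.V0 1) (D.θ A) := by
  rw [C1, Subgroup.mem_comap, Subgroup.mem_centralizer_singleton_iff]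
  exact ⟨fun h => h.symm, fun h => h.symm⟩

theorem C1_of_Kz {i j : Fin (m + 4)} (h : SameBlk i j) (hi : i ≠ 0) (hj : j ≠ 2) (t : F) : T i j t ∈ D.C1 :=
  D.mem_C1.mpr (D.V0_conj_comm 1 (D.T_Kz h t) (by rw [(T_commute hj hi.symm t 1).eq, mul_inv_cancel_right]))

theorem hc_C1 {c : F} (hc : c ≠ 0) : dg 0 1 hc * dg 2 3 hc ∈ D.C1 := by
  refine D.mem_C1.mpr (D.V0_conj_comm 1 (mul_mem (D.dg_Kz ne01 (by simp [SameBlk]) _)
    (D.dg_Kz ne23 (by simp [SameBlk, ne02.symm, ne12.symm, ne03.symm, ne13.symm]) _)) ?_)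
  rw [show dg 0 1 hc * dg 2 3 hc * T 2 0 1 * (dg 0 1 hc * dg 2 3 hc : SL)⁻¹ =
    dg 0 1 hc * (dg 2 3 hc * T 2 0 1 * (dg 2 3 hc)⁻¹) * (dg 0 1 hc)⁻¹ by group, dg_conj, dg_conj]
  congr 1
  simp [dvec, ne01, ne02, ne03, ne23, ne02.symm, ne12.symm, hc]

variable [Finite F]

theorem C1_scale {i j : Fin (m + 4)} (h1 : T i j 1 ∈ D.C1)
    (hs : ∀ y : F, y ≠ 0 → ∃ c : F, c ≠ 0 ∧
      dvec 0 1 c i * (dvec 0 1 c j)⁻¹ * (dvec 2 3 c i * (dvec 2 3 c j)⁻¹) = y ^ 2) (t : F) : T i j t ∈ D.C1 := by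
  revert t
  refine sq_ind (by rw [T_zero]; exact one_mem _) (fun x y hx hy => by rw [T_add]; exact mul_mem hx hy)
    (fun x hx => by rw [T_neg]; exact inv_mem hx) fun y => ?_
  obtain ⟨c, hc, e⟩ := hs (y : F) y.ne_zero
  have := mul_mem (mul_mem (D.hc_C1 hc) h1) (inv_mem (D.hc_C1 hc))
  rw [show dg 0 1 hc * dg 2 3 hc * T i j 1 * (dg 0 1 hc * dg 2 3 hc : SL)⁻¹ =
    dg 0 1 hc * (dg 2 3 hc * T i j 1 * (dg 2 3 hc)⁻¹) * (dg 0 1 hc)⁻¹ by group, dg_conj, dg_conj, mul_one] at this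
  rwa [e] at this

theorem C1_T12 (t : F) : T 1 2 t ∈ D.C1 := by
  refine D.C1_scale (D.mem_C1.mpr D.rels.seedA) (fun y hy => ⟨y⁻¹, inv_ne_zero hy, ?_⟩) t
  simp [dvec, ne02.symm, ne12, ne12.symm, ne13, ne01.symm, ne23]
  ring

theorem C1_T03 (t : F) : T 0 3 t ∈ D.C1 := by
  refine D.C1_scale (D.mem_C1.mpr D.rels.seedB) (fun y hy => ⟨y, hy, ?_⟩) t
  simp [dvec, ne03, ne03.symm, ne13.symm, ne02, ne01, ne23.symm]
  ring

theorem V0_scale {u : F} (hu : u ≠ 0) (t : F) :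
    D.θ (dg 2 3 hu) * D.V0 t * (D.θ (dg 2 3 hu))⁻¹ = D.V0 (u * t) := by
  have hz : dg 2 3 hu ∈ D.Kz := D.dg_Kz ne23 (by simp [SameBlk, ne02.symm, ne12.symm, ne03.symm, ne13.symm]) _
  have e : dg 2 3 hu * T 2 0 t * (dg 2 3 hu : SL)⁻¹ = T 2 0 (u * t) := by
    rw [dg_conj]; congr 1; simp [dvec, ne02, ne03, ne23]
  rw [V0_eq, V0_eq, ← e, map_mul, map_mul, map_inv,
    show D.θ (dg 2 3 hu) * (D.z * D.θ (T 2 0 t) * D.z⁻¹) * (D.θ (dg 2 3 hu))⁻¹ =
      (D.θ (dg 2 3 hu) * D.z) * D.θ (T 2 0 t) * (D.θ (dg 2 3 hu) * D.z)⁻¹ by group, ← (D.mem_Kz.mp hz).eq]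
  group

theorem V0_zero : D.V0 0 = 1 := by rw [V0_eq, T_zero, map_one, mul_one, mul_inv_cancel]

theorem V0_T03 (u t : F) : Commute (D.V0 u) (D.θ (T 0 3 t)) := by
  rcases eq_or_ne u 0 with rfl | hu
  · rw [D.V0_zero]; exact Commute.one_left _
  set k := dvec (2 : Fin (m + 4)) 3 u 0 * (dvec (2 : Fin (m + 4)) 3 u 3)⁻¹ with hk
  have hne : k ≠ 0 := by simp [hk, dvec, hu, ne02, ne03, ne12, ne13, ne02.symm, ne03.symm, ne12.symm, ne13.symm, ne23, ne23.symm]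
  have h := D.mem_C1.mp (D.C1_T03 (k⁻¹ * t))
  have := (Commute.conj_iff (D.θ (dg 2 3 hu))).mpr h
  rw [D.V0_scale hu, mul_one, ← map_inv, ← map_mul, ← map_mul, dg_conj, ← hk, mul_inv_cancel_left₀ hne] at this
  exact this

theorem V0_T12 (u t : F) : Commute (D.V0 u) (D.θ (T 1 2 t)) := by
  rcases eq_or_ne u 0 with rfl | hu
  · rw [D.V0_zero]; exact Commute.one_left _
  set k := dvec (2 : Fin (m + 4)) 3 u 1 * (dvec (2 : Fin (m + 4)) 3 u 2)⁻¹ with hk
  have hne : k ≠ 0 := by simp [hk, dvec, hu, ne02, ne03, ne12, ne13, ne02.symm, ne03.symm, ne12.symm, ne13.symm, ne23, ne23.symm]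
  have h := D.mem_C1.mp (D.C1_T12 (k⁻¹ * t))
  have := (Commute.conj_iff (D.θ (dg 2 3 hu))).mpr h
  rw [D.V0_scale hu, mul_one, ← map_inv, ← map_mul, ← map_mul, dg_conj, ← hk, mul_inv_cancel_left₀ hne] at this
  exact this

/-- Transport through `z`: a root element moved by a monomial element commuting with `z`. -/
theorem flip {A : SL} {σ : Equiv.Perm (Fin (m + 4))} {c : Fin (m + 4) → F} (hA : Mono A σ c) (hz : A ∈ D.Kz)
    (seed : ∀ u t, Commute (D.V0 u) (D.θ (T (σ⁻¹ 0) (σ⁻¹ 2) t)))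
    (hn : ∀ t, wE * T (σ 2) (σ 0) t * wE⁻¹ ∈ D.Kz) (s : F) : T (σ 2) (σ 0) s ∈ D.C1 := by
  set s' := s * c 0 / c 2 with hs'
  have eA : A * T 2 0 s' * A⁻¹ = T (σ 2) (σ 0) s := by
    rw [hA.conj_T ne02.symm]; congr 1; rw [hs']
    have := hA.ne_zero 0; have := hA.ne_zero 2
    field_simp
  have h1 : Commute (D.V0 s') (D.θ (A⁻¹ * (hE * T 0 2 (-1) * hE⁻¹) * A)) := by
    rw [hE, dg_conj]
    have e := hA.inv.conj_T (F := F) ne02 (dvec 0 1 (-1 : F) 0 * (dvec 0 1 (-1 : F) 2)⁻¹ * -1)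
    rw [inv_inv] at e
    exact Eq.mpr (congrArg (fun x => Commute (D.V0 s') (D.θ x)) e) (seed _ _)
  -- undo the Weyl element
  have hW : Commute (D.z * D.θ (T (σ 2) (σ 0) s) * D.z⁻¹) (D.z * D.z * D.θ (T 0 2 (-1)) * (D.z * D.z)⁻¹) := by
    have := (Commute.conj_iff (D.θ A)).mpr h1
    rw [map_mul, map_mul, map_inv, show D.θ A * ((D.θ A)⁻¹ * D.θ (hE * T 0 2 (-1) * hE⁻¹) * D.θ A) * (D.θ A)⁻¹ =
      D.θ (hE * T 0 2 (-1) * hE⁻¹) by group, V0_eq,
      show D.θ A * (D.z * D.θ (T 2 0 s') * D.z⁻¹) * (D.θ A)⁻¹ =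
        (D.θ A * D.z) * D.θ (T 2 0 s') * (D.θ A * D.z)⁻¹ by group, ← (D.mem_Kz.mp hz).eq,
      show D.z * D.θ A * D.θ (T 2 0 s') * (D.z * D.θ A)⁻¹ = D.z * (D.θ A * D.θ (T 2 0 s') * (D.θ A)⁻¹) * D.z⁻¹ by
        group, ← map_inv, ← map_mul, ← map_mul, eA, map_mul, map_mul, map_inv, hE, ← D.rels.sq] at this
    exact this
  rw [show D.z * D.z * D.θ (T 0 2 (-1)) * (D.z * D.z)⁻¹ = D.z * D.W0 1 * D.z⁻¹ by rw [W0]; group,
    Commute.conj_iff, D.W0_eq] at hW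
  have := (Commute.conj_iff D.nE⁻¹).mpr hW
  rw [inv_inv, show D.nE⁻¹ * (D.nE * D.V0 1 * D.nE⁻¹) * D.nE = D.V0 1 by group,
    show D.nE⁻¹ * D.θ (T (σ 2) (σ 0) s) * D.nE = D.θ (T (σ 2) (σ 0) s) by
      rw [mul_assoc, ← (D.comm_nE (hn s)).eq, inv_mul_cancel_left]] at this
  exact D.mem_C1.mpr this.symm

theorem wE_conj {i j : Fin (m + 4)} (h : i ≠ j) (t : F) : ∃ t', wE * T i j t * wE⁻¹ =
    (T (Equiv.swap 2 0 i) (Equiv.swap 2 0 j) t' : SL) :=
  ⟨_, (W_mono ne02.symm).conj_T h t⟩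

theorem C1_T30 (t : F) : T 3 0 t ∈ D.C1 := by
  have hsw0 : Equiv.swap (2 : Fin (m + 4)) 3 0 = 0 := Equiv.swap_apply_of_ne_of_ne ne02 ne03
  have := D.flip (W_mono ne23) (D.W_Kz (by simp [SameBlk, ne02.symm, ne12.symm, ne03.symm, ne13.symm]))
    (fun u t => by rw [Equiv.swap_inv, hsw0, Equiv.swap_apply_left]; exact D.V0_T03 u t)
    (fun t => by
      rw [hsw0, Equiv.swap_apply_left]
      obtain ⟨t', e⟩ := wE_conj ne03.symm t
      rw [e, Equiv.swap_apply_right, Equiv.swap_apply_of_ne_of_ne ne23.symm ne03.symm]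
      exact D.T_Kz (by simp [SameBlk, ne02.symm, ne12.symm, ne03.symm, ne13.symm]) t') t
  rwa [hsw0, Equiv.swap_apply_left] at this

theorem C1_T21 (t : F) : T 2 1 t ∈ D.C1 := by
  have hsw2 : Equiv.swap (0 : Fin (m + 4)) 1 2 = 2 := Equiv.swap_apply_of_ne_of_ne ne02.symm ne12.symm
  have := D.flip (W_mono ne01) (D.W_Kz (by simp [SameBlk]))
    (fun u t => by rw [Equiv.swap_inv, hsw2, Equiv.swap_apply_left]; exact D.V0_T12 u t)
    (fun t => by
      rw [hsw2, Equiv.swap_apply_left]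
      obtain ⟨t', e⟩ := wE_conj ne12.symm t
      rw [e, Equiv.swap_apply_left, Equiv.swap_apply_of_ne_of_ne ne12 ne01.symm]
      exact D.T_Kz (by simp [SameBlk]) t') t
  rwa [hsw2, Equiv.swap_apply_left] at this

/-- The base root element in standard position. -/
def V01 (t : F) : G := D.θ wE * D.V0 t * (D.θ wE)⁻¹

/-- The opposite one. -/
def W01 (t : F) : G := D.θ wE * D.W0 t * (D.θ wE)⁻¹

theorem wE_mono : Mono (wE : SL) (Equiv.swap 2 0) (fun k => if k = 2 then -1 else 1) := W_mono ne02.symm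

theorem transfer {g : G} {i j : Fin (m + 4)} (h : i ≠ j)
    (hg : ∀ t, Commute g (D.θ (T (Equiv.swap 2 0 i) (Equiv.swap 2 0 j) t))) (t : F) :
    Commute (D.θ (T i j t)) (D.θ wE * g * (D.θ wE)⁻¹) := by
  have hs : Equiv.swap (2 : Fin (m + 4)) 0 i ≠ Equiv.swap 2 0 j := fun e => h ((Equiv.swap 2 0).injective e)
  set c : Fin (m + 4) → F := fun k => if k = 2 then -1 else 1
  have hcne : ∀ k, c k ≠ 0 := wE_mono.ne_zero
  have e := wE_mono.conj_T (F := F) hs (t * c (Equiv.swap 2 0 j) / c (Equiv.swap 2 0 i))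
  rw [Equiv.swap_apply_self, Equiv.swap_apply_self] at e
  have e2 : c (Equiv.swap 2 0 i) * (t * c (Equiv.swap 2 0 j) / c (Equiv.swap 2 0 i)) / c (Equiv.swap 2 0 j) = t := by
    have := hcne (Equiv.swap 2 0 i); have := hcne (Equiv.swap 2 0 j)
    field_simp
  rw [e2] at e
  have := (Commute.conj_iff (D.θ wE)).mpr (hg (t * c (Equiv.swap 2 0 j) / c (Equiv.swap 2 0 i))).symm
  rwa [← map_inv, ← map_mul, ← map_mul, e, map_inv] at this

theorem sw_rest {k : Fin (m + 4)} (h0 : k ≠ 0) (h2 : k ≠ 2) : Equiv.swap (2 : Fin (m + 4)) 0 k = k :=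
  Equiv.swap_apply_of_ne_of_ne h2 h0

theorem sameBlk_of_rest {i j : Fin (m + 4)} (i0 : i ≠ 0) (i1 : i ≠ 1) (j0 : j ≠ 0) (j1 : j ≠ 1) : SameBlk i j := by
  simp [SameBlk, i0, i1, j0, j1]

/-- The positive family. -/
def famV : Fam F m G where
  θ := D.θ
  g0 := D.V01 1
  gen i j hij hj t := by
    have key := gen_of_basic (K := (Subgroup.centralizer {D.V01 1}).comap D.θ)
    refine (Subgroup.mem_centralizer_singleton_iff.mp (key ?_ ?_ ?_ ?_ ?_ ?_ i j hij hj t) : _)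
    all_goals
      intros
      rw [Subgroup.mem_comap, Subgroup.mem_centralizer_singleton_iff]
      refine (D.transfer (g := D.V0 1) (by first | exact ne01 | exact ne01.symm | exact ne12 | exact ne23 | exact ne23.symm | assumption)
        (fun t => D.mem_C1.mp ?_) _).eq
    · rw [Equiv.swap_apply_right, sw_rest ne01.symm ne12]; exact D.C1_T21 t
    · rw [Equiv.swap_apply_right, sw_rest ne01.symm ne12]; exact D.C1_T12 t
    · rw [Equiv.swap_apply_left, sw_rest ne01.symm ne12]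
      exact D.C1_of_Kz (by simp [SameBlk]) ne01.symm ne02 t
    · rw [Equiv.swap_apply_left, sw_rest ne03.symm ne23.symm]; exact D.C1_T03 t
    · rw [Equiv.swap_apply_left, sw_rest ne03.symm ne23.symm]; exact D.C1_T30 t
    · rename_i i j hij i0 i1 i2 j0 j1 j2 _
      rw [sw_rest i0 i2, sw_rest j0 j2]
      exact D.C1_of_Kz (sameBlk_of_rest i0 i1 j0 j1) i0 j2 t

theorem W0_comm_C1 {i j : Fin (m + 4)} (h : i ≠ j) (hw : SameBlk (Equiv.swap 2 0 i) (Equiv.swap 2 0 j))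
    (hC : ∀ t, T i j t ∈ D.C1) (t : F) : Commute (D.W0 1) (D.θ (T i j t)) := by
  have hn : Commute D.nE (D.θ (T i j t)) := D.comm_nE (by
    obtain ⟨t', e⟩ := wE_conj h t
    rw [e]; exact D.T_Kz hw t')
  rw [D.W0_eq]
  exact (hn.mul_left (D.mem_C1.mp (hC t))).mul_left hn.inv_left

/-- The negative family. -/
def famW : Fam F m G where
  θ := D.θ.comp τ
  g0 := D.W01 1
  gen i j hij hj t := by
    have key := gen_of_basic (K := ((Subgroup.centralizer {D.W01 1}).comap D.θ).comap τ)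
    refine (Subgroup.mem_centralizer_singleton_iff.mp (key ?_ ?_ ?_ ?_ ?_ ?_ i j hij hj t) : _)
    all_goals
      intros
      rw [Subgroup.mem_comap, Subgroup.mem_comap, τ_T (by first | exact ne01 | exact ne01.symm | exact ne12 | exact ne23 | exact ne23.symm | assumption),
        Subgroup.mem_centralizer_singleton_iff]
      refine (D.transfer (g := D.W0 1) (by first | exact ne01 | exact ne01.symm | exact ne12.symm | exact ne23 | exact ne23.symm | exact Ne.symm ‹_›)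
        (fun t => ?_) _).eq
    · rw [Equiv.swap_apply_right, sw_rest ne01.symm ne12]
      exact D.W0_comm_C1 ne12 (by rw [Equiv.swap_apply_left, sw_rest ne01.symm ne12]; simp [SameBlk]) D.C1_T12 t
    · rw [Equiv.swap_apply_right, sw_rest ne01.symm ne12]
      exact D.W0_comm_C1 ne12.symm (by rw [Equiv.swap_apply_left, sw_rest ne01.symm ne12]; simp [SameBlk]) D.C1_T21 t
    · rw [Equiv.swap_apply_left, sw_rest ne01.symm ne12]
      have hz := D.mem_Kz.mp (D.T_Kz (i := 0) (j := 1) (by simp [SameBlk]) t)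
      rw [W0]
      refine ((hz.mul_left ?_).mul_left hz.inv_left)
      show _ * _ = _ * _
      rw [← map_mul, ← map_mul, (T_commute ne02.symm ne01.symm (-1) t).eq]
    · rw [Equiv.swap_apply_left, sw_rest ne03.symm ne23.symm]
      exact D.W0_comm_C1 ne03.symm (by
        rw [Equiv.swap_apply_right, sw_rest ne03.symm ne23.symm]
        exact sameBlk_of_rest ne03.symm ne13.symm ne02.symm ne12.symm) D.C1_T30 t
    · rw [Equiv.swap_apply_left, sw_rest ne03.symm ne23.symm]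
      exact D.W0_comm_C1 ne03 (by
        rw [Equiv.swap_apply_right, sw_rest ne03.symm ne23.symm]
        exact sameBlk_of_rest ne02.symm ne12.symm ne03.symm ne13.symm) D.C1_T03 t
    · rename_i i j hij i0 i1 i2 j0 j1 j2 _
      rw [sw_rest i0 i2, sw_rest j0 j2]
      exact D.W0_comm_C1 (Ne.symm hij) (by rw [sw_rest j0 j2, sw_rest i0 i2]; exact sameBlk_of_rest j0 j1 i0 i1)
        (fun t => D.C1_of_Kz (sameBlk_of_rest j0 j1 i0 i1) j0 i2 t) t

/-- The root `SL₂` in standard position. -/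
def κ : SpecialLinearGroup (Fin 2) F →* G :=
  ((MulAut.conj (D.θ wE)).toMonoidHom.comp (MulAut.conj D.z).toMonoidHom).comp (D.θ.comp (e2 ne02.symm))

theorem κ_mU (t : F) : D.κ (mU t) = D.V01 t := by
  show D.θ wE * (D.z * D.θ (e2 _ (mU t)) * D.z⁻¹) * (D.θ wE)⁻¹ = _
  rw [e2_mU]; rfl

theorem κ_mL (t : F) : D.κ (mL t) = D.W01 (-t) := by
  show D.θ wE * (D.z * D.θ (e2 _ (mL t)) * D.z⁻¹) * (D.θ wE)⁻¹ = _
  rw [e2_mL, W01, W0, neg_neg]

theorem κ_mT : D.κ mT = D.z := by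
  show D.θ wE * (D.z * D.θ (e2 _ mT) * D.z⁻¹) * (D.θ wE)⁻¹ = _
  rw [e2_mT]
  show D.θ wE * D.nE * (D.θ wE)⁻¹ = _
  rw [nE_eq]; group

end Data

end Cfsg.Agent.KSG55.Om
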