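import Cfsg.Agent.KSG55.Om.Weyl

set_option autoImplicit false

/-! The Bruhat decomposition and the injectivity of the model. -/

namespace Cfsg.Agent.KSG55.Om

open Matrix Cfsg.Agent.CharB.PSLMult Cfsg.Agent.KSG55.Lin Cfsg.Agent.ClassMult Cfsg.Agent.UnitaryOrthogonal

variable {F : Type*} [Field F] {m : ℕ}

local notation "SL" => SpecialLinearGroup (Fin (m + 4)) F
local notation "Ix" => Fin (m + 4)

theorem mono_conj_entry {A : SL} {σ : Equiv.Perm Ix} {c : Ix → F} (hA : Mono A σ c) (B : SL) (i j : Ix) :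
    (A * B * A⁻¹).1 (σ i) (σ j) = c i * B.1 i j * (c j)⁻¹ := by
  have h : ((A * B * A⁻¹).1 *ᵥ ev (σ j)) (σ i) = c i * B.1 i j * (c j)⁻¹ := by
    rw [sl_mulVec_mul, hA.inv (σ j), mulVec_smul, sl_mulVec_mul, Pi.smul_apply, mono_mulVec hA, mulVec_single_one]
    simp [mul_comm]
  rwa [mulVec_single_one] at h

theorem IsLow.one : IsLow (1 : SL) := fun i j _ => by simp [Matrix.one_apply]

theorem IsLow.mul {A B : SL} (hA : IsLow A) (hB : IsLow B) : IsLow (A * B) := by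
  intro i j hij
  show (A.1 * B.1) i j = _
  rw [Matrix.mul_apply, Finset.sum_eq_single i (fun k _ hk => ?_) (by simp), hA i i le_rfl, if_pos rfl, one_mul,
    hB i j hij]
  rcases lt_or_gt_of_ne hk with h | h
  · rw [hB k j (h.le.trans hij), if_neg (ne_of_lt (h.trans_le hij)), mul_zero]
  · rw [hA i k h.le, if_neg (Ne.symm hk), zero_mul]

theorem IsLow.T {i j : Ix} (h : j < i) (t : F) : IsLow (T i j t : SL) := by
  intro a b hab
  rw [T_coe h.ne', Matrix.add_apply, Matrix.one_apply, single_apply,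
    if_neg (show ¬(i = a ∧ j = b) by rintro ⟨rfl, rfl⟩; exact absurd hab (not_le.mpr h)), add_zero]

/-- The lower unitriangular subgroup. -/
def LT : Subgroup SL := Subgroup.closure {A | ∃ i j : Ix, j < i ∧ ∃ t, A = T i j t}

theorem T_LT {i j : Ix} (h : j < i) (t : F) : (T i j t : SL) ∈ LT := Subgroup.subset_closure ⟨i, j, h, t, rfl⟩

theorem LT_low {A : SL} (hA : A ∈ LT) : IsLow A := by
  induction hA using Subgroup.closure_induction_left with
  | one => exact IsLow.one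
  | mul_left g hg y _ hy => obtain ⟨i, j, h, t, rfl⟩ := hg; exact (IsLow.T h t).mul hy
  | inv_mul_cancel g hg y _ hy => obtain ⟨i, j, h, t, rfl⟩ := hg; rw [← T_neg]; exact (IsLow.T h _).mul hy

theorem low_LT {A : SL} (hA : IsLow A) : A ∈ LT := low_mem (fun _ _ h t => T_LT h t) A hA

/-- Positive roots. -/
def Pos : Lbl m → Lbl m → Prop
  | .inl i, .inl j => j < i
  | .inr i, .inr j => i < j
  | .inl _, .inr _ => True
  | .inr _, .inl _ => False

theorem pos_or {a b : Lbl m} (h : a ≠ b) : Pos a b ∨ Pos b a := by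
  rcases a with i | i <;> rcases b with j | j <;> simp [Pos]
  · exact fun e => h (by rw [e])
  · exact fun e => h (by rw [e])

theorem two_le {k : Ix} (h0 : k ≠ 0) (h1 : k ≠ 1) : 2 ≤ k.1 := by
  have a : k.1 ≠ 0 := fun e => h0 (Fin.ext (by simpa using e))
  have b : k.1 ≠ 1 := fun e => h1 (Fin.ext (by simpa using e))
  omega

theorem Valid.symm {a b : Lbl m} (h : Valid a b) : Valid b a :=
  ⟨Ne.symm h.1, fun e => h.2 (by rw [e]; simp)⟩

namespace Data

variable {G : Type*} [Group G] (D : Data F m G) [Finite F]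

/-- The positive unipotent subgroup. -/
def UU : Subgroup G where
  carrier := {g | ∃ L ∈ (LT : Subgroup SL), ∃ X, g = D.θ L * D.sg X}
  one_mem' := ⟨1, one_mem _, 0, by rw [map_one, D.sg_zero, mul_one]⟩
  mul_mem' := fun {a b} ⟨L, hL, X, ha⟩ ⟨L', hL', Y, hb⟩ => ⟨L * L', mul_mem hL hL', cg L'⁻¹ X + Y, by
    rw [ha, hb, D.sg_add, ← D.sg_conj, map_mul, map_inv]; group⟩
  inv_mem' := fun {a} ⟨L, hL, X, ha⟩ => ⟨L⁻¹, inv_mem hL, cg L (-X), by
    rw [ha, ← D.sg_conj, D.sg_neg, map_inv]; group⟩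

theorem θ_UU {L : SL} (h : L ∈ LT) : D.θ L ∈ D.UU := ⟨L, h, 0, by rw [D.sg_zero, mul_one]⟩

theorem sg_UU (X : altM Ix F) : D.sg X ∈ D.UU := ⟨1, one_mem _, X, by rw [map_one, one_mul]⟩

theorem X_UU {a b : Lbl m} (hv : Valid a b) (hp : Pos a b) : D.X a b ≤ D.UU := by
  rcases a with i | i <;> rcases b with j | j <;> simp only [Pos] at hp
  · show D.XT i j ≤ _
    rw [XT, Subgroup.closure_le]; rintro _ ⟨t, rfl⟩; exact D.θ_UU (T_LT hp t)
  · show D.XV i j ≤ _
    rw [XV, Subgroup.closure_le]; rintro _ ⟨t, rfl⟩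
    dsimp only
    rw [← D.sg_xA (fun e => hv.2 (by rw [e]; rfl))]
    exact D.sg_UU _
  · show D.XT j i ≤ _
    rw [XT, Subgroup.closure_le]; rintro _ ⟨t, rfl⟩; exact D.θ_UU (T_LT hp t)

/-- A permutation of the roots realised by `g`. -/
def RP (g : G) (p : Equiv.Perm (Lbl m)) : Prop :=
  (∀ a, p (bar a) = bar (p a)) ∧ ∀ a b, Valid a b → Moves g (D.X a b) (D.X (p a) (p b))

theorem RP.valid {g : G} {p : Equiv.Perm (Lbl m)} (h : D.RP g p) {a b : Lbl m} (hv : Valid a b) :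
    Valid (p a) (p b) :=
  ⟨fun e => hv.1 (p.injective e), fun e => hv.2 (p.injective (by rw [h.1]; exact e))⟩

theorem RP.mul {g g' : G} {p q : Equiv.Perm (Lbl m)} (h : D.RP g p) (h' : D.RP g' q) : D.RP (g * g') (p * q) := by
  refine ⟨fun a => by simp [h'.1, h.1], fun a b hv x hx => ?_⟩
  rw [show g * g' * x * (g * g')⁻¹ = g * (g' * x * g'⁻¹) * g⁻¹ by group]
  exact h.2 _ _ (RP.valid D h' hv) _ (h'.2 a b hv x hx)

theorem sc_bar (σ : Equiv.Perm Ix) (a : Lbl m) : sc σ (bar a) = bar (sc σ a) := by cases a <;> rfl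

theorem RP.θ {A : SL} {σ : Equiv.Perm Ix} {c : Ix → F} (hA : Mono A σ c) : D.RP (D.θ A) (sc σ) :=
  ⟨sc_bar σ, fun _ _ hv => D.mono_moves hA hv⟩

theorem zPerm_bar (a : Lbl m) : zPerm (bar a) = bar (zPerm a) := by
  rcases a with k | k <;> rcases blk_cases k with hk | ⟨hk0, hk1⟩
  · show zPerm (Sum.inr k : Lbl m) = _; rw [(zPerm_blk hk).1, (zPerm_blk hk).2]; rfl
  · show zPerm (Sum.inr k : Lbl m) = _; rw [(zPerm_rest hk0 hk1).1, (zPerm_rest hk0 hk1).2]; rfl
  · show zPerm (Sum.inl k : Lbl m) = _; rw [(zPerm_blk hk).1, (zPerm_blk hk).2]; rfl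
  · show zPerm (Sum.inl k : Lbl m) = _; rw [(zPerm_rest hk0 hk1).1, (zPerm_rest hk0 hk1).2]; rfl

theorem RP.z : D.RP D.z zPerm := ⟨zPerm_bar, fun _ _ hv => D.z_moves hv⟩

theorem exists_RP {n : G} (hn : n ∈ D.NN) : ∃ p, D.RP n p := by
  induction hn using Subgroup.closure_induction_left with
  | one => exact ⟨1, fun a => rfl, fun a b _ x hx => by simpa using hx⟩
  | mul_left g hg y _ hy =>
    obtain ⟨q, hq⟩ := hy
    rcases hg with ⟨A, ⟨σ, c, hA⟩, rfl⟩ | rfl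
    exacts [⟨_, RP.mul D (RP.θ D hA) hq⟩, ⟨_, RP.mul D (RP.z D) hq⟩]
  | inv_mul_cancel g hg y _ hy =>
    obtain ⟨q, hq⟩ := hy
    rcases hg with ⟨A, ⟨σ, c, hA⟩, rfl⟩ | rfl
    · rw [← map_inv]; exact ⟨_, RP.mul D (RP.θ D hA.inv) hq⟩
    · rw [D.z_inv, ← map_inv]
      exact ⟨_, RP.mul D (RP.mul D (RP.θ D (dg_mono 0 1 negone_ne).inv) (RP.z D)) hq⟩

/-- A simple root. -/
structure SR where
  f : SpecialLinearGroup (Fin 2) F →* G
  a : Lbl m
  b : Lbl m
  valid : Valid a b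
  fU : ∀ t, f (mU t) ∈ D.X a b
  fL : ∀ t, f (mL t) ∈ D.X b a
  posU : ∀ t, f (mU t) ∈ D.UU
  fT : f mT ∈ D.NN
  fH : ∀ c, f (mH c) ∈ D.NN
  split : ∀ u ∈ D.UU, ∃ (t : F) (w : G), u = w * f (mU t) ∧ f mT * w * (f mT)⁻¹ ∈ D.UU

/-- The cells. -/
def OO : Set G := {g | ∃ u ∈ D.UU, ∃ n ∈ D.NN, ∃ u' ∈ D.UU, g = u * n * u'}

theorem mT_mU' {t : F} (ht : t ≠ 0) :
    (mT * mU t : SpecialLinearGroup (Fin 2) F) = mU (-t⁻¹) * mH (Units.mk0 _ (neg_ne_zero.mpr (inv_ne_zero ht))) * mL t⁻¹ := by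
  apply Subtype.ext
  simp
  field_simp
  simp

theorem step (S : D.SR) {g : G} (hg : g ∈ D.OO) : S.f mT * g ∈ D.OO := by
  obtain ⟨u, hu, n, hn, u', hu', rfl⟩ := hg
  obtain ⟨t, w, rfl, hw⟩ := S.split u hu
  obtain ⟨p, hp⟩ := D.exists_RP (inv_mem hn)
  have hv := RP.valid D hp S.valid
  by_cases ht : Pos (p S.a) (p S.b)
  · have hc : n⁻¹ * S.f (mU t) * n ∈ D.UU := by
      have := hp.2 _ _ S.valid _ (S.fU t)
      rw [inv_inv] at this
      exact D.X_UU hv ht this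
    exact ⟨_, hw, S.f mT * n, mul_mem S.fT hn, _, mul_mem hc hu', by group⟩
  rcases eq_or_ne t 0 with rfl | ht0
  · exact ⟨_, hw, S.f mT * n, mul_mem S.fT hn, _, hu', by rw [mU_zero, map_one]; group⟩
  have hpos : Pos (p S.b) (p S.a) := (pos_or hv.1).resolve_left ht
  have hc : n⁻¹ * S.f (mL t⁻¹) * n ∈ D.UU := by
    have := hp.2 _ _ S.valid.symm _ (S.fL t⁻¹)
    rw [inv_inv] at this
    exact D.X_UU hv.symm hpos this
  refine ⟨_, mul_mem hw (S.posU (-t⁻¹)), _, mul_mem (S.fH (Units.mk0 _ (neg_ne_zero.mpr (inv_ne_zero ht0)))) hn,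
    _, mul_mem hc hu', ?_⟩
  have e : S.f mT * S.f (mU t) = S.f (mU (-t⁻¹)) *
      S.f (mH (Units.mk0 _ (neg_ne_zero.mpr (inv_ne_zero ht0)))) * S.f (mL t⁻¹) := by
    rw [← map_mul, mT_mU' ht0, map_mul, map_mul]
  calc S.f mT * (w * S.f (mU t) * n * u')
      = (S.f mT * w * (S.f mT)⁻¹) * (S.f mT * S.f (mU t)) * n * u' := by group
    _ = _ := by rw [e]; group

theorem lt_succ' {i j : Ix} (h : i.1 = j.1 + 1) : j < i := Fin.lt_def.mpr (by omega)

/-- The simple roots in the Levi part. -/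
def srL {p q : Ix} (h : p.1 = q.1 + 1) : D.SR where
  f := D.θ.comp (e2 (lt_succ' h).ne')
  a := Sum.inl p
  b := Sum.inl q
  valid := ⟨fun e => (lt_succ' h).ne' (Sum.inl_injective e), fun e => by simp at e⟩
  fU t := by show D.θ _ ∈ _; rw [e2_mU]; exact D.T_mem _ _ _
  fL t := by show D.θ _ ∈ _; rw [e2_mL]; exact D.T_mem _ _ _
  posU t := by show D.θ _ ∈ _; rw [e2_mU]; exact D.θ_UU (T_LT (lt_succ' h) t)
  fT := by show D.θ _ ∈ _; rw [e2_mT]; exact D.θ_NN (W_mono (lt_succ' h).ne')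
  fH c := by show D.θ _ ∈ _; rw [e2_mH]; exact D.θ_NN (dg_mono _ _ _)
  split u hu := by
    obtain ⟨L, hL, X, rfl⟩ := hu
    have hlt := lt_succ' h
    refine ⟨L.1 p q, D.sg (cg L X) * D.θ (L * T p q (-(L.1 p q))), ?_, ?_⟩
    · show _ = _ * D.θ _
      rw [e2_mU, ← D.sg_conj, mul_assoc (D.θ L * D.sg X * (D.θ L)⁻¹), ← map_mul, mul_assoc L, ← T_add,
        neg_add_cancel, T_zero, mul_one, inv_mul_cancel_right]
    show D.θ _ * _ * (D.θ _)⁻¹ ∈ _
    rw [e2_mT, ← conj_mul, ← map_inv, ← map_mul, ← map_mul, map_inv, D.sg_conj]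
    refine mul_mem (D.sg_UU _) (D.θ_UU (low_LT fun i j hij => ?_))
    have hLow : IsLow (L * T p q (-(L.1 p q))) := (LT_low hL).mul (IsLow.T hlt _)
    have h0 : (L * T p q (-(L.1 p q))).1 p q = 0 := by
      show (L.1 * (T p q (-(L.1 p q)) : SL).1) p q = 0
      rw [T_coe hlt.ne', Matrix.mul_add, Matrix.mul_one, Matrix.add_apply, Matrix.mul_single_apply_same,
        LT_low hL p p le_rfl, if_pos rfl, one_mul, add_neg_cancel]
    obtain ⟨i, rfl⟩ := (Equiv.swap p q).surjective i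
    obtain ⟨j, rfl⟩ := (Equiv.swap p q).surjective j
    rw [mono_conj_entry (W_mono hlt.ne')]
    have hc := (W_mono (F := F) hlt.ne').ne_zero
    by_cases hij' : i ≤ j
    · rw [hLow i j hij']
      by_cases e : i = j
      · subst e; rw [if_pos rfl, if_pos rfl, mul_one, mul_inv_cancel₀ (hc i)]
      · rw [if_neg e, if_neg (fun e' => e ((Equiv.swap p q).injective e')), mul_zero, zero_mul]
    · have hji : j < i := not_le.mp hij'
      have : i = p ∧ j = q := by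
        simp only [Equiv.swap_apply_def, Fin.le_def] at hij
        simp only [Fin.lt_def, Fin.ext_iff] at hji ⊢
        split_ifs at hij <;> simp_all [Fin.ext_iff] <;> omega
      rw [this.1, this.2, h0, mul_zero, zero_mul, if_neg]
      rw [Equiv.swap_apply_left, Equiv.swap_apply_right]
      exact hlt.ne

theorem XV01 (t : F) : D.V01 t ∈ D.X (.inl 0) (.inr 1) := by rw [D.V01_scale]; exact D.V_mem _ _ _

theorem z_LT {L : SL} (hL : L ∈ LT) : D.z * D.θ L * D.z⁻¹ ∈ D.UU := by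
  have : LT ≤ D.UU.comap ((MulAut.conj D.z).toMonoidHom.comp D.θ) := by
    rw [LT, Subgroup.closure_le]
    rintro _ ⟨i, j, hji, t, rfl⟩
    show D.z * D.θ (T i j t) * D.z⁻¹ ∈ D.UU
    have hv : Valid (Sum.inl i : Lbl m) (Sum.inl j) := ⟨fun e => hji.ne' (Sum.inl_injective e), fun e => by simp at e⟩
    refine D.X_UU (RP.valid D (RP.z D) hv) ?_ (D.z_moves hv _ (D.T_mem i j t))
    rcases blk_cases i with hi | ⟨hi0, hi1⟩ <;> rcases blk_cases j with hj | ⟨hj0, hj1⟩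
    · rw [(zPerm_blk hi).1, (zPerm_blk hj).1]
      rcases hi with rfl | rfl <;> rcases hj with rfl | rfl <;> simp_all [Pos, Fin.lt_def]
    · exfalso
      have h2 := two_le hj0 hj1
      have hl := Fin.lt_def.mp hji
      rcases hi with rfl | rfl <;> simp at hl <;> omega
    · rw [(zPerm_rest hi0 hi1).1, (zPerm_blk hj).1]; trivial
    · rw [(zPerm_rest hi0 hi1).1, (zPerm_rest hj0 hj1).1]; exact hji
  exact this hL

/-- Deleting the entry of the crossed root. -/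
def cut (X : altM Ix F) : altM Ix F := X - xA 0 1 (X.1 0 1)

theorem cut_add (X Y : altM Ix F) : cut (X + Y) = cut X + cut Y := by
  rw [cut, cut, cut, show (X + Y).1 0 1 = X.1 0 1 + Y.1 0 1 from rfl, xA_add]; abel

theorem z_sg (X : altM Ix F) : D.z * D.sg (cut X) * D.z⁻¹ ∈ D.UU := by
  let H : AddSubgroup (altM Ix F) :=
    { carrier := {X | D.z * D.sg (cut X) * D.z⁻¹ ∈ D.UU}
      zero_mem' := by
        show D.z * D.sg (cut 0) * D.z⁻¹ ∈ D.UU
        rw [cut, show (0 : altM Ix F).1 0 1 = 0 from rfl, xA_zero, sub_zero, D.sg_zero, mul_one, mul_inv_cancel]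
        exact one_mem _
      add_mem' := fun {A B} hA hB => by
        show D.z * D.sg (cut (A + B)) * D.z⁻¹ ∈ D.UU
        rw [cut_add, D.sg_add, ← conj_mul]; exact mul_mem hA hB
      neg_mem' := fun {A} hA => by
        show D.z * D.sg (cut (-A)) * D.z⁻¹ ∈ D.UU
        rw [show cut (-A) = -cut A by rw [cut, cut, show (-A).1 0 1 = -(A.1 0 1) from rfl, xA_neg]; abel, D.sg_neg,
          ← conj_inv]
        exact inv_mem hA }
  refine mem_of_xA_mem (H := H) (fun i j hij a => ?_) X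
  show D.z * D.sg (cut (xA i j a)) * D.z⁻¹ ∈ D.UU
  by_cases hblk : (i = 0 ∨ i = 1) ∧ (j = 0 ∨ j = 1)
  · have : cut (xA i j a) = 0 := by
      obtain ⟨hi, hj⟩ := hblk
      rcases hi with rfl | rfl <;> rcases hj with rfl | rfl <;> first | exact absurd rfl hij | skip
      · simp [cut, xA, xm, ne01, ne01.symm]
      · rw [cut, xA_swap 0 1 a]; simp [xA, xm, ne01, ne01.symm]
    rw [this, D.sg_zero, mul_one, mul_inv_cancel]; exact one_mem _
  have h01 : (xA i j a).1 0 1 = 0 := by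
    simp only [xA, xm, Matrix.sub_apply, single_apply]
    rw [if_neg (fun e => hblk ⟨Or.inl e.1, Or.inr e.2⟩), if_neg (fun e => hblk ⟨Or.inr e.2, Or.inl e.1⟩), sub_zero]
  rw [cut, h01, xA_zero, sub_zero, D.sg_xA hij]
  have hv : Valid (Sum.inl i : Lbl m) (Sum.inr j) := ⟨fun e => (Sum.inl_ne_inr e).elim, fun e => hij (Sum.inl_injective e)⟩
  rcases blk_cases i with hi | ⟨hi0, hi1⟩ <;> rcases blk_cases j with hj | ⟨hj0, hj1⟩
  · exact absurd ⟨hi, hj⟩ hblk
  · refine D.X_UU (RP.valid D (RP.z D) hv) ?_ (D.z_moves hv _ (D.V_mem i j a))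
    rw [(zPerm_blk hi).1, (zPerm_rest hj0 hj1).2]
    have h2 := two_le hj0 hj1
    show _ < _
    refine Fin.lt_def.mpr ?_
    rcases hi with rfl | rfl <;> simp only [Equiv.swap_apply_left, Equiv.swap_apply_right] <;> simp <;> first | omega | exact Fin.pos_iff_ne_zero.mpr hj0
  · refine D.X_UU (RP.valid D (RP.z D) hv) ?_ (D.z_moves hv _ (D.V_mem i j a))
    rw [(zPerm_rest hi0 hi1).1, (zPerm_blk hj).2]
    have h2 := two_le hi0 hi1
    show _ < _
    refine Fin.lt_def.mpr ?_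
    rcases hj with rfl | rfl <;> simp only [Equiv.swap_apply_left, Equiv.swap_apply_right] <;> simp <;> first | omega | exact Fin.pos_iff_ne_zero.mpr hi0
  · refine D.X_UU (RP.valid D (RP.z D) hv) ?_ (D.z_moves hv _ (D.V_mem i j a))
    rw [(zPerm_rest hi0 hi1).1, (zPerm_rest hj0 hj1).2]; trivial

/-- The crossed simple root. -/
def srK : D.SR where
  f := D.κ
  a := Sum.inl 0
  b := Sum.inr 1
  valid := ⟨Sum.inl_ne_inr, fun e => ne01 (Sum.inl_injective e)⟩
  fU t := by rw [D.κ_mU]; exact D.XV01 t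
  fL t := by
    rw [D.κ_mL, D.W01_scale]
    show _ ∈ D.XW 1 0
    rw [D.XW_symm]; exact D.W_mem' _ _ _
  posU t := by rw [D.κ_mU, D.V01_scale, ← D.sg_xA ne01]; exact D.sg_UU _
  fT := by rw [D.κ_mT]; exact D.z_NN
  fH c := D.HT_le (D.κH_HT c)
  split u hu := by
    obtain ⟨L, hL, X, rfl⟩ := hu
    refine ⟨X.1 0 1, D.θ L * D.sg (cut X), ?_, ?_⟩
    · rw [D.κ_mU, D.V01_scale, ← D.sg_xA ne01, mul_assoc, ← D.sg_add, cut, sub_add_cancel]
    · rw [D.κ_mT, ← conj_mul]; exact mul_mem (D.z_LT hL) (D.z_sg X)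

theorem mT_four : (mT * mT * mT * mT : SpecialLinearGroup (Fin 2) F) = 1 := by
  rw [mul_assoc (mT * mT), mT_sq]
  apply Subtype.ext; simp [Matrix.one_fin_two]

theorem step_inv (S : D.SR) {g : G} (hg : g ∈ D.OO) : (S.f mT)⁻¹ * g ∈ D.OO := by
  have e : (S.f mT)⁻¹ = S.f mT * S.f mT * S.f mT := inv_eq_of_mul_eq_one_right (by
    rw [← map_mul, ← map_mul, ← map_mul, ← mul_assoc, ← mul_assoc, mT_four, map_one])
  rw [e, mul_assoc, mul_assoc]
  exact D.step S (D.step S (D.step S hg))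

/-- Every element lies in a cell. -/
theorem mem_OO (hgen : Subgroup.closure (Set.range D.θ ∪ {D.z}) = ⊤) (g : G) : g ∈ D.OO := by
  set S : Set G := ((D.θ '' (LT : Subgroup SL)) ∪ {x | ∃ s : D.SR, x = s.f mT}) with hS
  have htop : Subgroup.closure S = ⊤ := by
    rw [eq_top_iff, ← hgen, Subgroup.closure_le]
    rintro x (⟨A, rfl⟩ | rfl)
    · have : (⊤ : Subgroup SL) ≤ (Subgroup.closure S).comap D.θ := le_of_eq (Eq.symm (eq_top_of_low
        (fun i j h t => Subgroup.subset_closure (Or.inl ⟨_, T_LT h t, rfl⟩))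
        (fun i j h => Subgroup.subset_closure (Or.inr ⟨D.srL h, by show _ = D.θ _; rw [e2_mT]⟩))))
      exact this (Subgroup.mem_top A)
    · exact Subgroup.subset_closure (Or.inr ⟨D.srK, D.κ_mT.symm⟩)
  have hg : g ∈ Subgroup.closure S := htop ▸ Subgroup.mem_top g
  induction hg using Subgroup.closure_induction_left with
  | one => exact ⟨1, one_mem _, 1, one_mem _, 1, one_mem _, by simp⟩
  | mul_left x hx y _ hy =>
    rcases hx with ⟨L, hL, rfl⟩ | ⟨s, rfl⟩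
    · obtain ⟨u, hu, n, hn, u', hu', rfl⟩ := hy
      exact ⟨_, mul_mem (D.θ_UU hL) hu, n, hn, u', hu', by group⟩
    · exact D.step s hy
  | inv_mul_cancel x hx y _ hy =>
    rcases hx with ⟨L, hL, rfl⟩ | ⟨s, rfl⟩
    · obtain ⟨u, hu, n, hn, u', hu', rfl⟩ := hy
      exact ⟨_, mul_mem (inv_mem (D.θ_UU hL)) hu, n, hn, u', hu', by group⟩
    · exact D.step_inv s hy

end Data

namespace Mdl

variable {G : Type*} [Group G] {D : Data F m G} (M : Mdl D) [Finite F]

theorem φ_UU {v : G} (hv : v ∈ D.UU) {p : Equiv.Perm (Lbl m)}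
    (h : ∀ a, ∃ c : F, (M.φ v).1 (eb a) = c • eb (p a)) : v = 1 := by
  obtain ⟨L, hL, X, rfl⟩ := hv
  have happ : ∀ x y, (M.φ (D.θ L * D.sg X)).1 ((x, y), 0) =
      ((L.1 *ᵥ (x + X.1 *ᵥ y), (L⁻¹).1ᵀ *ᵥ y), 0) := fun x y => by
    rw [map_mul, coe_mul_apply, M.hθ, M.φ_sg, sgP_apply, levP_apply]
  have hL1 : L = 1 := sl_ext fun k => by
    obtain ⟨c, hc⟩ := h (Sum.inl k)
    have e := happ (ev k) 0
    rw [mulVec_zero, add_zero, mulVec_zero] at e
    have e1 : ((L.1 *ᵥ ev k, (0 : Fin (m + 4) → F)), (0 : Fin 0 → F)) = c • eb (p (Sum.inl k)) := e.symm.trans hc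
    show _ = (1 : Matrix _ _ F) *ᵥ _
    rw [one_mulVec]
    have hk : (L.1 *ᵥ ev k) k = 1 := by
      rw [mulVec_single_one]; exact (LT_low hL k k le_rfl).trans (if_pos rfl)
    generalize L.1 *ᵥ ev k = w at hk e1 ⊢
    rcases hp : p (Sum.inl k) with l | l <;> rw [hp] at e1 <;> simp [eb, Prod.smul_mk] at e1
    · by_cases hlk : k = l
      · subst hlk
        rw [e1] at hk ⊢
        simp at hk
        rw [hk, one_smul]
      · exfalso
        rw [e1] at hk
        simp [Ne.symm hlk, hlk] at hk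
    · exfalso
      rw [e1.1] at hk; simp at hk
  subst hL1
  have hX : X = 0 := by
    refine Subtype.ext (Matrix.ext_of_mulVec_single fun k => ?_)
    obtain ⟨c, hc⟩ := h (Sum.inr k)
    have e := happ 0 (ev k)
    rw [zero_add] at e
    have e1 := e.symm.trans hc
    show X.1 *ᵥ ev k = (0 : Matrix _ _ F) *ᵥ _
    rw [zero_mulVec]
    rcases hp : p (Sum.inr k) with l | l <;> rw [hp] at e1 <;> simp [eb, Prod.smul_mk] at e1
    · have := congrFun e1.2 k
      simp at this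
    · rw [mulVec_single_one]; exact e1.1
  rw [hX, map_one, D.sg_zero, mul_one]

theorem injective (hgen : Subgroup.closure (Set.range D.θ ∪ {D.z}) = ⊤) : Function.Injective M.φ := by
  refine (injective_iff_map_eq_one M.φ).mpr fun g hg => ?_
  obtain ⟨u, hu, n, hn, u', hu', rfl⟩ := D.mem_OO hgen g
  have hv : u⁻¹ * u'⁻¹ ∈ D.UU := mul_mem (inv_mem hu) (inv_mem hu')
  have e : M.φ n = M.φ (u⁻¹ * u'⁻¹) := by
    rw [map_mul, map_mul] at hg
    rw [map_mul, map_inv, map_inv, eq_mul_inv_iff_mul_eq, eq_inv_iff_mul_eq_one]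
    rw [mul_assoc] at hg
    exact mul_eq_one_comm.mp hg
  obtain ⟨p, hp⟩ := M.exists_perms hn
  have hv1 := M.φ_UU hv (p := p) (fun a => by rw [← e]; exact hp a)
  have hn1 : n = 1 := M.NN_inj hn (by rw [e, hv1, map_one])
  have huu : u * u' ∈ D.UU := mul_mem hu hu'
  rw [hn1, mul_one] at hg ⊢
  exact M.φ_UU huu (p := 1) (fun a => ⟨1, by rw [hg, coe_one_apply, one_smul]; rfl⟩)

end Mdl

end Cfsg.Agent.KSG55.Om
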