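import Cfsg.Agent.KSG55.Om.Mono

set_option autoImplicit false

/-! Families of conjugates indexed by pairs of vectors. -/

namespace Cfsg.Agent.KSG55.Om

open Matrix Cfsg.Agent.CharB.PSLMult

variable {F : Type*} [Field F] {m : ℕ}

local notation "SL" => SpecialLinearGroup (Fin (m + 4)) F
local notation "Vn" => Fin (m + 4) → F

theorem ne01 : (0 : Fin (m + 4)) ≠ 1 := by simp [Fin.ext_iff]
theorem ne02 : (0 : Fin (m + 4)) ≠ 2 := by simp [Fin.ext_iff, Fin.val_ofNat, Nat.mod_eq_of_lt]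
theorem ne12 : (1 : Fin (m + 4)) ≠ 2 := by simp [Fin.ext_iff, Fin.val_ofNat, Nat.mod_eq_of_lt]
theorem ne03 : (0 : Fin (m + 4)) ≠ 3 := by simp [Fin.ext_iff, Fin.val_ofNat, Nat.mod_eq_of_lt]
theorem ne13 : (1 : Fin (m + 4)) ≠ 3 := by simp [Fin.ext_iff, Fin.val_ofNat, Nat.mod_eq_of_lt]
theorem ne23 : (2 : Fin (m + 4)) ≠ 3 := by simp [Fin.ext_iff, Fin.val_ofNat, Nat.mod_eq_of_lt]

theorem dg_eq_diag2n {p q : Fin (m + 4)} (h : p ≠ q) {a : F} (ha : a ≠ 0) :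
    (dg p q ha : SL) = SpecialLinearGroup.diag2n h a ha := by
  apply Subtype.ext
  show Matrix.diagonal (dvec p q a) = _
  rw [SpecialLinearGroup.diag2n_coe]
  congr 1
  funext k
  unfold dvec
  by_cases h1 : k = p
  · subst h1; simp [h]
  · simp [h1]

theorem dg_mem {K : Subgroup SL} {p q : Fin (m + 4)} (h : p ≠ q) (h1 : ∀ t, T p q t ∈ K) (h2 : ∀ t, T q p t ∈ K)
    {a : F} (ha : a ≠ 0) : dg p q ha ∈ K := by
  rw [dg_eq_diag2n h ha, LinearGroup.diag2n_eq_prod_transvection h a ha]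
  simp only [← T_of_ne h, ← T_of_ne h.symm]
  exact mul_mem (mul_mem (mul_mem (mul_mem (mul_mem (h1 _) (h2 _)) (h1 _)) (h1 _)) (h2 _)) (h1 _)

theorem exists_pair {v w : Vn} (hv : v ≠ 0) (h : ∀ c : F, w ≠ c • v) :
    ∃ A : SL, A.1 *ᵥ ev 0 = v ∧ A.1 *ᵥ ev 1 = w := by
  obtain ⟨j, hj⟩ := Function.ne_iff.mp hv
  obtain ⟨g, -, hg, -⟩ := exists_move (K := (⊤ : Subgroup SL)) ∅ (k := 0) (l := 1) (by simp) (by simp) ne01
    ⟨j, by simp, hj⟩ (fun _ _ _ _ _ => trivial)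
  have hj' : ∃ j, j ∉ ({0} : Finset (Fin (m + 4))) ∧ ((g⁻¹).1 *ᵥ w) j ≠ 0 := by
    by_contra hc
    push Not at hc
    refine h (((g⁻¹).1 *ᵥ w) 0) ?_
    conv_lhs => rw [← sl_mulVec_inv g w]
    rw [← hg, ← mulVec_smul]
    congr 1
    funext x
    by_cases hx : x = 0
    · subst hx; simp
    · rw [hc x (by simp [hx])]; simp [hx]
  obtain ⟨g', -, hg', hf⟩ := exists_move (K := (⊤ : Subgroup SL)) {0} (k := 1) (l := 2) (by simp [ne01.symm])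
    (by simp [ne02.symm]) ne12 hj' (fun _ _ _ _ _ => trivial)
  exact ⟨g * g', by rw [sl_mulVec_mul, hf 0 (by simp), hg], by rw [sl_mulVec_mul, hg', sl_mulVec_inv]⟩

theorem exists_triple {v v' w : Vn} {A : SL} (hv : A.1 *ᵥ ev 0 = v) (hw : A.1 *ᵥ ev 1 = w)
    (h : ∀ a b : F, v' ≠ a • v + b • w) :
    ∃ B : SL, B.1 *ᵥ ev 2 = v ∧ B.1 *ᵥ ev 3 = v' ∧ B.1 *ᵥ ev 1 = w := by
  have h20 : (2 : Fin (m + 4)) ≠ 0 := ne02.symm
  let σ : Equiv.Perm (Fin (m + 4)) := Equiv.swap 2 3 * Equiv.swap 0 3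
  have s2 : σ.symm 2 = 0 ∧ σ.symm 3 = 2 ∧ σ.symm 1 = 1 := by
    refine ⟨?_, ?_, ?_⟩ <;> rw [Equiv.symm_apply_eq] <;>
      simp [σ, Equiv.swap_apply_def, ne01, ne02, ne03, ne12, ne13, ne23, ne01.symm, ne02.symm, ne03.symm,
        ne12.symm, ne13.symm, ne23.symm]
  obtain ⟨P, -, c, hP⟩ := exists_mono (K := (⊤ : Subgroup SL)) ∅ (fun _ _ _ _ _ => trivial) σ⁻¹ (by simp)
  have hvne : v ≠ 0 := fun e => by
    rw [← hv] at e
    exact ev_ne_zero (F := F) (0 : Fin (m + 4)) (by rw [← sl_inv_mulVec A (ev 0), e, mulVec_zero])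
  have hc := hP.ne_zero
  obtain ⟨A', hA0, hA1⟩ : ∃ A' : SL, A'.1 *ᵥ ev 0 = (c 2)⁻¹ • v ∧ A'.1 *ᵥ ev 1 = (c 1)⁻¹ • w := by
    refine exists_pair (smul_ne_zero (inv_ne_zero (hc 2)) hvne) fun d e => ?_
    have e' : A.1 *ᵥ ev 1 = (c 1 * d * (c 2)⁻¹) • (A.1 *ᵥ ev 0) := by
      rw [hv, hw, mul_assoc, mul_smul, mul_smul, ← e, smul_inv_smul₀ (hc 1)]
    have := congrArg (fun x => ((A⁻¹).1 *ᵥ x) 1) e'
    simp only [mulVec_smul, sl_inv_mulVec] at this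
    simp [ne01.symm] at this
  set u := (A'⁻¹).1 *ᵥ ((c 3)⁻¹ • v') with hu
  have hj : ∃ j, j ∉ ({0, 1} : Finset (Fin (m + 4))) ∧ u j ≠ 0 := by
    by_contra hcon
    push Not at hcon
    refine h (c 3 * u 0 * (c 2)⁻¹) (c 3 * u 1 * (c 1)⁻¹) ?_
    have e : u = u 0 • ev 0 + u 1 • ev 1 := by
      funext x
      by_cases h0 : x = 0
      · subst h0; simp [ne01]
      · by_cases h1 : x = 1
        · subst h1; simp [ne01.symm]
        · simp [h0, h1, hcon x (by simp [h0, h1])]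
    have e2 : (c 3)⁻¹ • v' = u 0 • ((c 2)⁻¹ • v) + u 1 • ((c 1)⁻¹ • w) := by
      rw [← hA0, ← hA1, ← mulVec_smul, ← mulVec_smul, ← mulVec_add, ← e, hu, sl_mulVec_inv]
    have e3 := congrArg (fun x => c 3 • x) e2
    simp only [smul_inv_smul₀ (hc 3), smul_add, smul_smul] at e3
    simpa [mul_assoc] using e3
  obtain ⟨g, -, hg, hgf⟩ := exists_move (K := (⊤ : Subgroup SL)) {0, 1} (k := 2) (l := 3)
    (by simp [h20, ne12.symm]) (by simp [ne03.symm, ne13.symm]) ne23 hj (fun _ _ _ _ _ => trivial)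
  refine ⟨A' * g * P, ?_, ?_, ?_⟩
  · rw [sl_mulVec_mul, hP, mulVec_smul, show σ⁻¹ 2 = 0 from s2.1, sl_mulVec_mul, hgf 0 (by simp), hA0,
      smul_inv_smul₀ (hc 2)]
  · rw [sl_mulVec_mul, hP, mulVec_smul, show σ⁻¹ 3 = 2 from s2.2.1, sl_mulVec_mul, hg, hu, sl_mulVec_inv,
      smul_inv_smul₀ (hc 3)]
  · rw [sl_mulVec_mul, hP, mulVec_smul, show σ⁻¹ 1 = 1 from s2.2.2, sl_mulVec_mul, hgf 1 (by simp), hA1,
      smul_inv_smul₀ (hc 1)]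

/-- An element centralised by the stabiliser of two basis vectors and their `SL₂`. -/
structure Fam (F : Type*) [Field F] (m : ℕ) (G : Type*) [Group G] where
  θ : SpecialLinearGroup (Fin (m + 4)) F →* G
  g0 : G
  gen : ∀ i j : Fin (m + 4), i ≠ j → (j ≠ 0 ∧ j ≠ 1) ∨ (i = 0 ∧ j = 1) ∨ (i = 1 ∧ j = 0) →
    ∀ t : F, Commute (θ (T i j t)) g0

namespace Fam

variable {G : Type*} [Group G] (D : Fam F m G)

theorem comm_fix {A : SL} (h0 : A.1 *ᵥ ev 0 = ev 0) (h1 : A.1 *ᵥ ev 1 = ev 1) : Commute (D.θ A) D.g0 := by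
  have := fix_mem (K := (Subgroup.centralizer {D.g0}).comap D.θ) {0, 1} (fun i j hij hj t => by
    rw [Subgroup.mem_comap, Subgroup.mem_centralizer_singleton_iff]
    simp only [Finset.mem_insert, Finset.mem_singleton, not_or] at hj
    exact (D.gen i j hij (Or.inl hj) t).eq) A (fun s hs => by
      simp only [Finset.mem_insert, Finset.mem_singleton] at hs
      rcases hs with rfl | rfl
      exacts [h0, h1])
  rw [Subgroup.mem_comap, Subgroup.mem_centralizer_singleton_iff] at this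
  exact this

theorem comm_W : Commute (D.θ (W 0 1)) D.g0 := by
  have h : W 0 1 ∈ (Subgroup.centralizer {D.g0}).comap D.θ := W_mem
    (fun t => by rw [Subgroup.mem_comap, Subgroup.mem_centralizer_singleton_iff]
                 exact (D.gen 0 1 ne01 (Or.inr (Or.inl ⟨rfl, rfl⟩)) t).eq)
    (fun t => by rw [Subgroup.mem_comap, Subgroup.mem_centralizer_singleton_iff]
                 exact (D.gen 1 0 ne01.symm (Or.inr (Or.inr ⟨rfl, rfl⟩)) t).eq)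
  rw [Subgroup.mem_comap, Subgroup.mem_centralizer_singleton_iff] at h
  exact h

theorem comm_dg {a : F} (ha : a ≠ 0) : Commute (D.θ (dg 0 1 ha)) D.g0 := by
  have h : dg (0 : Fin (m + 4)) 1 ha ∈ (Subgroup.centralizer {D.g0}).comap D.θ := dg_mem ne01
    (fun t => by rw [Subgroup.mem_comap, Subgroup.mem_centralizer_singleton_iff]
                 exact (D.gen 0 1 ne01 (Or.inr (Or.inl ⟨rfl, rfl⟩)) t).eq)
    (fun t => by rw [Subgroup.mem_comap, Subgroup.mem_centralizer_singleton_iff]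
                 exact (D.gen 1 0 ne01.symm (Or.inr (Or.inr ⟨rfl, rfl⟩)) t).eq) ha
  rw [Subgroup.mem_comap, Subgroup.mem_centralizer_singleton_iff] at h
  exact h

open Classical in
/-- The member at a pair. -/
noncomputable def B (v w : Vn) : G :=
  if h : ∃ A : SL, A.1 *ᵥ ev 0 = v ∧ A.1 *ᵥ ev 1 = w then D.θ h.choose * D.g0 * (D.θ h.choose)⁻¹ else 1

theorem B_eq {A : SL} {v w : Vn} (h0 : A.1 *ᵥ ev 0 = v) (h1 : A.1 *ᵥ ev 1 = w) :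
    D.B v w = D.θ A * D.g0 * (D.θ A)⁻¹ := by
  have h : ∃ A : SL, A.1 *ᵥ ev 0 = v ∧ A.1 *ᵥ ev 1 = w := ⟨A, h0, h1⟩
  rw [B, dif_pos h]
  obtain ⟨e0, e1⟩ := h.choose_spec
  have hc := D.comm_fix (A := A⁻¹ * h.choose) (by rw [sl_mulVec_mul, e0, ← h0, sl_inv_mulVec])
    (by rw [sl_mulVec_mul, e1, ← h1, sl_inv_mulVec])
  rw [map_mul, map_inv] at hc
  calc D.θ h.choose * D.g0 * (D.θ h.choose)⁻¹
      = D.θ A * (((D.θ A)⁻¹ * D.θ h.choose) * D.g0 * ((D.θ A)⁻¹ * D.θ h.choose)⁻¹) * (D.θ A)⁻¹ := by group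
    _ = D.θ A * D.g0 * (D.θ A)⁻¹ := by rw [hc.eq, mul_inv_cancel_right]

theorem B_none {v w : Vn} (h : ¬ ∃ A : SL, A.1 *ᵥ ev 0 = v ∧ A.1 *ᵥ ev 1 = w) : D.B v w = 1 := by
  rw [B, dif_neg h]

theorem B_base : D.B (ev 0) (ev 1) = D.g0 := by
  rw [D.B_eq (A := 1) (one_mulVec _) (one_mulVec _), map_one, one_mul, inv_one, mul_one]

theorem B_conj (A : SL) (v w : Vn) : D.θ A * D.B v w * (D.θ A)⁻¹ = D.B (A.1 *ᵥ v) (A.1 *ᵥ w) := by
  by_cases h : ∃ C : SL, C.1 *ᵥ ev 0 = v ∧ C.1 *ᵥ ev 1 = w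
  · obtain ⟨C, c0, c1⟩ := h
    rw [D.B_eq c0 c1, D.B_eq (A := A * C) (by rw [sl_mulVec_mul, c0]) (by rw [sl_mulVec_mul, c1]), map_mul]
    group
  · rw [D.B_none h, D.B_none, mul_one, mul_inv_cancel]
    rintro ⟨C, c0, c1⟩
    exact h ⟨A⁻¹ * C, by rw [sl_mulVec_mul, c0, sl_inv_mulVec], by rw [sl_mulVec_mul, c1, sl_inv_mulVec]⟩

theorem B_scale {c : F} (hc : c ≠ 0) (v w : Vn) : D.B (c • v) (c⁻¹ • w) = D.B v w := by
  have key : ∀ (c : F) (_ : c ≠ 0) (C : SL) (v w : Vn), C.1 *ᵥ ev 0 = v → C.1 *ᵥ ev 1 = w →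
      ∃ C' : SL, C'.1 *ᵥ ev 0 = c • v ∧ C'.1 *ᵥ ev 1 = c⁻¹ • w ∧
        D.θ C' * D.g0 * (D.θ C')⁻¹ = D.θ C * D.g0 * (D.θ C)⁻¹ := by
    intro c hc C v w c0 c1
    refine ⟨C * dg 0 1 hc, ?_, ?_, ?_⟩
    · rw [sl_mulVec_mul, dg_mono, Equiv.Perm.one_apply, mulVec_smul, c0]
      simp [dvec, ne01]
    · rw [sl_mulVec_mul, dg_mono, Equiv.Perm.one_apply, mulVec_smul, c1]
      simp [dvec, ne01.symm]
    · rw [map_mul, show D.θ C * D.θ (dg 0 1 hc) * D.g0 * (D.θ C * D.θ (dg 0 1 hc))⁻¹ =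
        D.θ C * (D.θ (dg 0 1 hc) * D.g0 * (D.θ (dg 0 1 hc))⁻¹) * (D.θ C)⁻¹ by group, (D.comm_dg hc).eq,
        mul_inv_cancel_right]
  by_cases h : ∃ C : SL, C.1 *ᵥ ev 0 = v ∧ C.1 *ᵥ ev 1 = w
  · obtain ⟨C, c0, c1⟩ := h
    obtain ⟨C', d0, d1, e⟩ := key c hc C v w c0 c1
    rw [D.B_eq c0 c1, D.B_eq d0 d1, e]
  · rw [D.B_none h, D.B_none]
    rintro ⟨C, c0, c1⟩
    obtain ⟨C', d0, d1, -⟩ := key c⁻¹ (inv_ne_zero hc) C _ _ c0 c1
    exact h ⟨C', by rw [d0, inv_smul_smul₀ hc], by rw [d1, inv_inv, smul_inv_smul₀ hc]⟩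

theorem B_swap (v w : Vn) : D.B w (-v) = D.B v w := by
  have key : ∀ (C : SL) (v w : Vn), C.1 *ᵥ ev 0 = v → C.1 *ᵥ ev 1 = w →
      ∃ C' : SL, C'.1 *ᵥ ev 0 = -w ∧ C'.1 *ᵥ ev 1 = v ∧
        D.θ C' * D.g0 * (D.θ C')⁻¹ = D.θ C * D.g0 * (D.θ C)⁻¹ := by
    intro C v w c0 c1
    refine ⟨C * W 0 1, ?_, ?_, ?_⟩
    · rw [sl_mulVec_mul, W_mono ne01, Equiv.swap_apply_left, mulVec_smul, c1]
      simp
    · rw [sl_mulVec_mul, W_mono ne01, Equiv.swap_apply_right, mulVec_smul, c0]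
      simp [ne01.symm]
    · rw [map_mul, show D.θ C * D.θ (W 0 1) * D.g0 * (D.θ C * D.θ (W 0 1))⁻¹ =
        D.θ C * (D.θ (W 0 1) * D.g0 * (D.θ (W 0 1))⁻¹) * (D.θ C)⁻¹ by group, D.comm_W.eq,
        mul_inv_cancel_right]
  have h' : D.B (-w) v = D.B v w := by
    by_cases h : ∃ C : SL, C.1 *ᵥ ev 0 = v ∧ C.1 *ᵥ ev 1 = w
    · obtain ⟨C, c0, c1⟩ := h
      obtain ⟨C', d0, d1, e⟩ := key C v w c0 c1
      rw [D.B_eq c0 c1, D.B_eq d0 d1, e]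
    · rw [D.B_none h, D.B_none]
      rintro ⟨C, c0, c1⟩
      obtain ⟨C', d0, d1, -⟩ := key C _ _ c0 c1
      obtain ⟨C'', e0, e1, -⟩ := key C' _ _ d0 d1
      obtain ⟨C''', f0, f1, -⟩ := key C'' _ _ e0 e1
      exact h ⟨C''', by rw [f0]; simp, by rw [f1]; simp⟩
  rw [← h']
  have := D.B_scale (c := -1) (by simp) (-w) v
  simpa using this

/-- The standard torus movers. -/
theorem B_diag {c : F} (hc : c ≠ 0) (k : Fin (m + 4)) (hk0 : k ≠ 0) (hk1 : k ≠ 1) :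
    D.B (c • ev 0) (ev 1) = D.θ (dg 0 k hc) * D.g0 * (D.θ (dg 0 k hc))⁻¹ := by
  refine D.B_eq ?_ ?_
  · rw [dg_mono, Equiv.Perm.one_apply]; simp [dvec, hk0.symm]
  · rw [dg_mono, Equiv.Perm.one_apply]; simp [dvec, hk1.symm, ne01.symm]

theorem B_zero (w : Vn) : D.B 0 w = 1 :=
  D.B_none fun ⟨C, c0, _⟩ => ev_ne_zero (F := F) (0 : Fin (m + 4))
    (by rw [← sl_inv_mulVec C (ev 0), c0, mulVec_zero])

theorem B_zero_right (v : Vn) : D.B v 0 = 1 :=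
  D.B_none fun ⟨C, _, c1⟩ => ev_ne_zero (F := F) (1 : Fin (m + 4))
    (by rw [← sl_inv_mulVec C (ev 1), c1, mulVec_zero])

theorem B_dep {v : Vn} (c : F) : D.B (c • v) v = 1 :=
  D.B_none fun ⟨C, c0, c1⟩ => by
    have := congrArg (fun x => ((C⁻¹).1 *ᵥ x) 0) c0
    rw [← c1] at this
    simp only [mulVec_smul, sl_inv_mulVec] at this
    simp [ne01] at this

end Fam

end Cfsg.Agent.KSG55.Om
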