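import Cfsg.Agent.KSG55.Om.Model
import Cfsg.Agent.Lib.UnitaryOrthogonal.HypGenerate
import Cfsg.Agent.ClassMult.OmegaFacts

set_option autoImplicit false

/-! The image of the model is the commutator subgroup. -/

namespace Cfsg.Agent.KSG55.Om

open Matrix Cfsg.Agent.CharB.PSLMult Cfsg.Agent.KSG55.Lin Cfsg.Agent.ClassMult Cfsg.Agent.UnitaryOrthogonal
open QuadraticMap

variable {F : Type*} [Field F] [Finite F] {m : ℕ}

local notation "SL" => SpecialLinearGroup (Fin (m + 4)) F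
local notation "Ix" => Fin (m + 4)
local notation "Q₊" => hypSum (m + 4) (zeroForm F)
local notation "e₀" => (((ev 0, 0), 0) : PV (m + 4) F)

theorem zM_mem : (zM (F := F) (m := m)) ∈ commutator (orth Q₊) := by
  set C := commutator (orth Q₊)
  have hw : levP (wE : SL) ∈ C := levP_mem (by omega) _
  have hb := zM_braid (F := F) (m := m)
  have e : (zM (F := F) (m := m)) = levP (wE : SL) * (zM * levP (wE : SL) * zM⁻¹) * (levP (wE : SL))⁻¹ := by
    have h1 : (zM (F := F) (m := m)) * levP (wE : SL) * zM⁻¹ = (levP (wE : SL))⁻¹ * zM * levP (wE : SL) := by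
      rw [mul_inv_eq_iff_eq_mul, mul_assoc ((levP (wE : SL))⁻¹ * zM), mul_assoc ((levP (wE : SL))⁻¹),
        eq_inv_mul_iff_mul_eq, ← mul_assoc, ← mul_assoc, ← hb]
    rw [h1]; group
  rw [e]
  exact mul_mem (mul_mem hw ((inferInstance : C.Normal).conj_mem _ hw _)) (inv_mem hw)

theorem commutator_eq : commutator (orth Q₊) = eichGroup Q₊ := by
  have h := commutator_orth_eq (base_zeroForm (F := F)) (k := m + 2) (Or.inl (by omega))
  let e : (hypSum (m + 4) (zeroForm F)).IsometryEquiv (hyp (hyp (hypSum (m + 2) (zeroForm F)))) :=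
    hypSumTwo (zeroForm F) (m + 2)
  apply Subgroup.map_injective (f := (orthCongr e).toMonoidHom) (orthCongr e).injective
  rw [eichGroup_map, ← h, _root_.commutator_def, _root_.commutator_def, Subgroup.map_commutator,
    Subgroup.map_top_of_surjective _ (orthCongr e).surjective]

theorem polar_pv (x y x' y' : Ix → F) :
    polar Q₊ ((x, y), (0 : Fin 0 → F)) ((x', y'), 0) = x ⬝ᵥ y' + x' ⬝ᵥ y := by
  rw [polar, Prod.mk_add_mk, Prod.mk_add_mk, pv_form, pv_form, pv_form, add_dotProduct, dotProduct_add, dotProduct_add]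
  ring

theorem ev0_singular : Q₊ e₀ = 0 := by rw [pv_form, dotProduct_zero]

theorem polar_e0 (x y : Ix → F) : polar Q₊ e₀ ((x, y), 0) = y 0 := by
  rw [polar_pv, dotProduct_zero, add_zero, single_dotProduct, one_mul]

theorem eich_e0_x (k : Ix) (a : F) : eich Q₊ e₀ ((a • ev k, 0), 0) = sgP (xA k 0 a) := by
  refine orth_ext fun ⟨⟨x, y⟩, u⟩ => ?_
  obtain rfl : u = 0 := Subsingleton.elim _ _
  rw [eich_apply ev0_singular (by rw [polar_e0]; rfl), polar_e0, polar_pv, pv_form, dotProduct_zero,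
    dotProduct_zero, sgP_apply]
  refine Prod.ext (Prod.ext ?_ ?_) (Subsingleton.elim _ _)
  · funext l
    show x l + y 0 * (a • ev k) l - ((a • ev k) ⬝ᵥ y + 0) * (ev 0 : Ix → F) l - (0 * y 0) * (ev 0 : Ix → F) l =
      x l + ((xm k 0 a) *ᵥ y) l
    rw [xm, sub_mulVec, single_mulVec, single_mulVec, Pi.sub_apply, smul_dotProduct, single_dotProduct]
    by_cases h1 : l = k <;> by_cases h2 : l = 0 <;> simp [h1, h2, Function.update_apply] <;> simp_all <;> ring
  · funext l; simp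

theorem eich_e0_y {k : Ix} (hk : k ≠ 0) (a : F) :
    eich Q₊ e₀ ((0, a • ev k), 0) = levP (T 0 k (-a) : SL) := by
  refine orth_ext fun ⟨⟨x, y⟩, u⟩ => ?_
  obtain rfl : u = 0 := Subsingleton.elim _ _
  rw [eich_apply ev0_singular (by rw [polar_e0]; simp [hk.symm]), polar_e0, polar_pv, pv_form, zero_dotProduct,
    zero_dotProduct, levP_T hk.symm]
  refine Prod.ext (Prod.ext ?_ ?_) (Subsingleton.elim _ _)
  · funext l
    show x l + y 0 * (0 : F) - (0 + x ⬝ᵥ (a • ev k)) * (ev 0 : Ix → F) l - (0 * y 0) * (ev 0 : Ix → F) l =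
      ((T 0 k (-a) : SL).1 *ᵥ x) l
    rw [T_mulVec hk.symm, dotProduct_smul, dotProduct_single, mul_one]
    by_cases h : l = 0 <;> simp [h] <;> ring
  · funext l
    show y l + y 0 * (a • ev k) l - (0 + x ⬝ᵥ (a • ev k)) * (0 : F) - (0 * y 0) * (0 : F) =
      ((T k 0 (- -a) : SL).1 *ᵥ y) l
    rw [T_mulVec hk, neg_neg]
    by_cases h : l = k <;> simp [h, mul_comm]

namespace Mdl

variable {G : Type*} [Group G] {D : Data F m G} (M : Mdl D)

theorem levP_range (A : SL) : levP A ∈ M.φ.range := ⟨D.θ A, M.hθ A⟩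

theorem zM_range : zM ∈ M.φ.range := ⟨D.z, M.hz⟩

theorem sgP_range (X : altM Ix F) : sgP X ∈ M.φ.range := ⟨D.sg X, M.φ_sg X⟩

theorem trans0 {u : PV (m + 4) F} (hu : Q₊ u = 0) (hu0 : u ≠ 0) : ∃ g ∈ M.φ.range, g.1 e₀ = u := by
  obtain ⟨⟨x, y⟩, w⟩ := u
  obtain rfl : w = 0 := Subsingleton.elim _ _
  rw [pv_form] at hu
  have hm : ∀ v : Ix → F, v ≠ 0 → ∀ k l : Ix, k ≠ l → ∃ A : SL, A.1 *ᵥ ev k = v := fun v hv k l hkl => by
    obtain ⟨j, hj⟩ := Function.ne_iff.mp hv
    obtain ⟨g, -, hg, -⟩ := exists_move (K := (⊤ : Subgroup SL)) ∅ (k := k) (l := l) (by simp) (by simp) hkl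
      ⟨j, by simp, hj⟩ (fun _ _ _ _ _ => trivial)
    exact ⟨g, hg⟩
  by_cases hy : y = 0
  · subst hy
    obtain ⟨A, hA⟩ := hm x (fun e => hu0 (by rw [e]; rfl)) 0 1 ne01
    exact ⟨_, M.levP_range A, by rw [levP_apply, hA, mulVec_zero]⟩
  obtain ⟨B, hB⟩ := hm y hy 0 1 ne01
  -- the vector with the second part standard
  set A : SL := τ B with hA
  have hAy : (A⁻¹).1ᵀ *ᵥ ev 0 = y := by
    rw [← hB]
    show (τ A).1 *ᵥ ev 0 = _
    rw [hA, τ_τ]
  set x' := (A⁻¹).1 *ᵥ x with hx'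
  have hx'0 : x' 0 = 0 := by
    rw [← hAy, dotProduct_mulVec, vecMul_transpose, ← hx', dotProduct_single, mul_one] at hu
    exact hu
  set X : altM Ix F := ∑ k : Ix, xA k 0 (x' k) with hX
  have hXv : X.1 *ᵥ ev 0 = x' := by
    rw [hX, AddSubgroup.val_finsetSum, sum_mulVec]
    funext l
    rw [Finset.sum_apply, Finset.sum_eq_single l (fun k _ hk => ?_) (by simp)]
    · show ((xm l 0 (x' l)) *ᵥ ev 0) l = x' l
      rw [xm, sub_mulVec, single_mulVec, single_mulVec]
      by_cases hl : l = 0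
      · subst hl; simp [hx'0]
      · simp [hl]
    · show ((xm k 0 (x' k)) *ᵥ ev 0) l = 0
      rw [xm, sub_mulVec, single_mulVec, single_mulVec]
      by_cases hl : k = 0
      · subst hl; simp [hx'0]
      · simp [hl, Ne.symm hk]
  obtain ⟨C, hC⟩ := hm (ev 1) (ev_ne_zero 1) 0 1 ne01
  refine ⟨levP A * sgP X * zM * levP C,
    mul_mem (mul_mem (mul_mem (M.levP_range A) (M.sgP_range X)) M.zM_range) (M.levP_range C), ?_⟩
  have hz : (zM (F := F) (m := m)).1 (((ev 1, 0), 0) : PV (m + 4) F) = ((0, ev 0), 0) := by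
    rw [zM_apply]
    refine Prod.ext (Prod.ext ?_ ?_) rfl <;> funext l <;>
      (simp only [zf]; split_ifs with h0 h1 <;> simp_all [ne01, ne01.symm])
  have hC1 : (levP C).1 e₀ = ((ev 1, 0), 0) := by rw [levP_apply, hC, mulVec_zero]
  rw [coe_mul_apply, coe_mul_apply, coe_mul_apply, hC1, hz, sgP_apply, hXv, zero_add,
    levP_apply, hAy, hx', sl_mulVec_inv]

theorem eich_e0_mem (w : PV (m + 4) F) (hw : polar Q₊ e₀ w = 0) : eich Q₊ e₀ w ∈ M.φ.range := by
  classical
  obtain ⟨⟨x, y⟩, u⟩ := w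
  obtain rfl : u = 0 := Subsingleton.elim _ _
  rw [polar_e0] at hw
  let H : AddSubgroup (PV (m + 4) F) :=
    { carrier := {w | polar Q₊ e₀ w = 0 ∧ eich Q₊ e₀ w ∈ M.φ.range}
      zero_mem' := ⟨by simp, by rw [eich_zero]; exact one_mem _⟩
      add_mem' := fun {a b} ha hb => ⟨by rw [polar_add_right, ha.1, hb.1, add_zero],
        by rw [← eich_mul ev0_singular ha.1 hb.1]; exact mul_mem ha.2 hb.2⟩
      neg_mem' := fun {a} ha => ⟨by rw [polar_neg_right, ha.1, neg_zero],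
        by rw [← eich_inv ev0_singular ha.1]; exact inv_mem ha.2⟩ }
  have hd : (((x, y), 0) : PV (m + 4) F) = ∑ k, ((x k • ev k, 0), 0) + ∑ k, ((0, y k • ev k), 0) := by
    refine Prod.ext (Prod.ext ?_ ?_) (Subsingleton.elim _ _) <;> funext l <;>
      simp [Prod.fst_sum, Prod.snd_sum, Finset.sum_apply, Pi.single_apply]
  have : (((x, y), 0) : PV (m + 4) F) ∈ H := by
    rw [hd]
    refine add_mem (sum_mem fun k _ => ⟨?_, ?_⟩) (sum_mem fun k _ => ⟨?_, ?_⟩)
    · rw [polar_e0]; rfl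
    · rw [eich_e0_x]; exact M.sgP_range _
    · rw [polar_e0]
      by_cases hk : k = 0
      · subst hk; simp [hw]
      · simp [Ne.symm hk]
    · by_cases hk : k = 0
      · subst hk
        rw [hw, zero_smul, show ((((0 : Ix → F), (0 : Ix → F)), 0) : PV (m + 4) F) = 0 from rfl, eich_zero]
        exact one_mem _
      · rw [eich_e0_y hk]; exact M.levP_range _
  exact this.2

theorem range_eq (hgen : Subgroup.closure (Set.range D.θ ∪ {D.z}) = ⊤) :
    M.φ.range = commutator (orth Q₊) := by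
  refine le_antisymm ?_ ?_
  · rw [MonoidHom.range_eq_map, ← hgen, MonoidHom.map_closure, Subgroup.closure_le]
    rintro _ ⟨g, (⟨A, rfl⟩ | rfl), rfl⟩
    · rw [M.hθ]; exact levP_mem (by omega) A
    · rw [M.hz]; exact zM_mem
  · rw [commutator_eq, eichGroup, Subgroup.closure_le]
    rintro _ ⟨u, w, hu, hw, rfl⟩
    by_cases hu0 : u = 0
    · rw [show eich Q₊ u w = 1 from orth_ext fun x => by rw [eich_apply hu hw, hu0]; simp]
      exact one_mem _
    · obtain ⟨g, hg, hgu⟩ := M.trans0 hu hu0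
      have e : eich Q₊ u w = g * eich Q₊ e₀ (g⁻¹.1 w) * g⁻¹ := by
        rw [conj_eich, hgu, coe_apply_inv_apply]
      rw [e]
      refine mul_mem (mul_mem hg (M.eich_e0_mem _ ?_)) (inv_mem hg)
      rw [← map_polar g, hgu, coe_apply_inv_apply, hw]

end Mdl

end Cfsg.Agent.KSG55.Om
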