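import Cfsg.Agent.KSG55.Om.Weyl

set_option autoImplicit false

/-! Few relations give all of them. -/

namespace Cfsg.Agent.KSG55.Om

open Matrix Cfsg.Agent.CharB.PSLMult Cfsg.Agent.KSG55.Lin

variable {F : Type*} [Field F] {m : ℕ}

local notation "SL" => SpecialLinearGroup (Fin (m + 4)) F
local notation "Ix" => Fin (m + 4)

/-- The cycle on the second block. -/
def σR (m : ℕ) : Equiv.Perm (Fin (m + 4)) where
  toFun k := if h : k.1 < 2 then k else if h' : k.1 = m + 3 then ⟨2, by omega⟩ else ⟨k.1 + 1, by have := k.2; omega⟩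
  invFun k := if h : k.1 < 2 then k else if h' : k.1 = 2 then ⟨m + 3, by omega⟩ else ⟨k.1 - 1, by have := k.2; omega⟩
  left_inv k := by
    have := k.2
    by_cases h : k.1 < 2
    · simp [h]
    by_cases h' : k.1 = m + 3
    · simp only [h, h', dif_pos, dif_neg, not_false_eq_true, show ¬ (2 < 2) by omega]
      exact Fin.ext (by simp [h'])
    · simp only [h, h', dif_neg, not_false_eq_true]
      rw [dif_neg (show ¬ (k.1 + 1 < 2) by omega), dif_neg (show ¬ (k.1 + 1 = 2) by omega)]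
      exact Fin.ext (by simp)
  right_inv k := by
    have := k.2
    by_cases h : k.1 < 2
    · simp [h]
    by_cases h' : k.1 = 2
    · simp only [h, h', dif_pos, dif_neg, not_false_eq_true]
      rw [dif_neg (by simp)]
      exact Fin.ext (by simp [h'])
    · simp only [h, h', dif_neg, not_false_eq_true]
      rw [dif_neg (show ¬ (k.1 - 1 < 2) by omega), dif_neg (show ¬ (k.1 - 1 = m + 3) by omega)]
      exact Fin.ext (by simp; omega)

theorem σR_blk {k : Fin (m + 4)} (h : k.1 < 2) : σR m k = k := dif_pos h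

theorem σR_step {k : Fin (m + 4)} (h : ¬ k.1 < 2) (h' : k.1 ≠ m + 3) : (σR m k).1 = k.1 + 1 := by
  show (dite _ _ _ : Fin (m + 4)).1 = _
  rw [dif_neg h, dif_neg h']

theorem σR_last {k : Fin (m + 4)} (h' : k.1 = m + 3) : σR m k = 2 := by
  show dite _ _ _ = _
  rw [dif_neg (by omega), dif_pos h']
  exact Fin.ext (by simp [Nat.mod_eq_of_lt (show 2 < m + 4 by omega)])

theorem val2 : ((2 : Fin (m + 4)) : ℕ) = 2 := by simp [Nat.mod_eq_of_lt (show 2 < m + 4 by omega)]
theorem val3 : ((3 : Fin (m + 4)) : ℕ) = 3 := by simp [Nat.mod_eq_of_lt (show 3 < m + 4 by omega)]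

variable [Finite F]

theorem card_units_cast : (Nat.card Fˣ : F) = -1 := by
  classical
  haveI := Fintype.ofFinite F
  rw [Nat.card_units, Nat.card_eq_fintype_card, Nat.cast_sub Fintype.card_pos, FiniteField.cast_card_eq_zero]
  simp

theorem split_pair {K : Subgroup SL} {p q i j : Ix} (hpq : p ≠ q) (hij : i ≠ j) (a : Fˣ)
    (hc : Commute (T i j (1 : F) : SL) (dg p q a.ne_zero)) (h : T i j 1 * dg p q a.ne_zero ∈ K) :
    (T i j 1 : SL) ∈ K ∧ (dg p q a.ne_zero : SL) ∈ K := by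
  have hT : (T i j (1 : F) : SL) ^ Nat.card Fˣ = T i j (-1) := by
    rw [← e2_mU hij, ← map_pow, mU_pow, e2_mU, nsmul_eq_mul, mul_one, card_units_cast]
  have hd : (dg p q a.ne_zero : SL) ^ Nat.card Fˣ = 1 := by
    rw [← e2_mH hpq, ← map_pow, mH_pow, pow_card_eq_one']
    exact (congrArg (e2 hpq) (map_one mHHom)).trans (map_one _)
  have h1 := pow_mem h (Nat.card Fˣ)
  rw [hc.mul_pow, hT, hd, mul_one, T_neg] at h1
  have h1' : (T i j 1 : SL) ∈ K := inv_mem_iff.mp h1
  exact ⟨h1', (Subgroup.mul_mem_cancel_left K h1').mp h⟩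

theorem all_of_one {K : Subgroup SL} {p q : Ix} (hpq : p ≠ q) {a : Fˣ} (ha : ∀ x : Fˣ, x ∈ Submonoid.powers a)
    (h1 : (T p q 1 : SL) ∈ K) (hd : (dg p q a.ne_zero : SL) ∈ K) (t : F) : (T p q t : SL) ∈ K := by
  revert t
  refine sq_ind (by rw [T_zero]; exact one_mem _) (fun x y hx hy => by rw [T_add]; exact mul_mem hx hy)
    (fun x hx => by rw [T_neg]; exact inv_mem hx) fun y => ?_
  obtain ⟨l, rfl⟩ := ha y
  have hl : (dg p q (a ^ l).ne_zero : SL) ∈ K := by
    rw [← e2_mH hpq, ← mH_pow, map_pow, e2_mH]; exact pow_mem hd l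
  have := mul_mem (mul_mem hl h1) (inv_mem hl)
  rw [dg_conj] at this
  simpa [dvec, hpq, hpq.symm, pow_two] using this

theorem move_T {K : Subgroup SL} {g : SL} {σ : Equiv.Perm Ix} {c : Ix → F} (hg : Mono g σ c) (hK : g ∈ K)
    {i j : Ix} (hij : i ≠ j) (h : ∀ t, (T i j t : SL) ∈ K) (t : F) : (T (σ i) (σ j) t : SL) ∈ K := by
  have := mul_mem (mul_mem hK (h (t * c j / c i))) (inv_mem hK)
  rw [hg.conj_T hij] at this
  have n1 := hg.ne_zero i; have n2 := hg.ne_zero j
  rwa [show c i * (t * c j / c i) / c j = t by field_simp] at this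

/-- Three elements generate the stabiliser of the two blocks. -/
theorem blk_mem {K : Subgroup SL} {a : Fˣ} (ha : ∀ x : Fˣ, x ∈ Submonoid.powers a) {M : SL} {c : Ix → F}
    (hM : Mono M (σR m) c) (h1 : T 0 1 1 * dg 2 3 a.ne_zero ∈ K) (h2 : W 0 1 * M ∈ K)
    (h3 : T 2 3 1 * dg 0 1 a.ne_zero ∈ K) (i j : Ix) (hij : i ≠ j) (hb : SameBlk i j) (t : F) :
    (T i j t : SL) ∈ K := by
  have c1 : Commute (T 0 1 (1 : F) : SL) (dg 2 3 a.ne_zero) := by
    have := dg_conj (F := F) (2 : Ix) 3 a.ne_zero 0 1 1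
    rw [show dvec (2 : Ix) 3 (a : F) 0 * (dvec (2 : Ix) 3 (a : F) 1)⁻¹ * 1 = 1 by
      simp [dvec, ne02, ne03, ne12, ne13]] at this
    exact (mul_inv_eq_iff_eq_mul.mp this).symm
  have c3 : Commute (T 2 3 (1 : F) : SL) (dg 0 1 a.ne_zero) := by
    have := dg_conj (F := F) (0 : Ix) 1 a.ne_zero 2 3 1
    rw [show dvec (0 : Ix) 1 (a : F) 2 * (dvec (0 : Ix) 1 (a : F) 3)⁻¹ * 1 = 1 by
      simp [dvec, ne02.symm, ne03.symm, ne12.symm, ne13.symm]] at this
    exact (mul_inv_eq_iff_eq_mul.mp this).symm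
  obtain ⟨x01, d23⟩ := split_pair ne23 ne01 a c1 h1
  obtain ⟨x23, d01⟩ := split_pair ne01 ne23 a c3 h3
  have T01 := all_of_one ne01 ha x01 d01
  have T23 := all_of_one ne23 ha x23 d23
  set σ := Equiv.swap (0 : Ix) 1 * σR m with hσ
  have hg := (W_mono (F := F) (ne01 (m := m))).mul hM
  have mv : ∀ {i j : Ix}, i ≠ j → (∀ t, (T i j t : SL) ∈ K) → ∀ t, (T (σ i) (σ j) t : SL) ∈ K :=
    fun hij h => move_T hg h2 hij h
  have T10 : ∀ t, (T 1 0 t : SL) ∈ K := by
    have := mv ne01 T01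
    rwa [hσ, Equiv.Perm.mul_apply, Equiv.Perm.mul_apply, σR_blk (by simp), σR_blk (by simp),
      Equiv.swap_apply_left, Equiv.swap_apply_right] at this
  have σrest : ∀ k : Ix, 2 ≤ k.1 → σ k = σR m k := fun k hk => by
    rw [hσ, Equiv.Perm.mul_apply]
    have : 2 ≤ (σR m k).1 := by
      by_cases h : k.1 = m + 3
      · rw [σR_last h, val2]
      · rw [σR_step (by omega) h]; omega
    apply Equiv.swap_apply_of_ne_of_ne <;> intro e <;> rw [e] at this <;> simp at this
  have up1 : ∀ (d : ℕ) (i j : Ix), i.1 = 2 + d → j.1 = i.1 + 1 → ∀ t, (T i j t : SL) ∈ K := by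
    intro d
    induction d with
    | zero =>
      intro i j hi hj
      have e1 : i = 2 := Fin.ext (by rw [hi, val2])
      have e2 : j = 3 := Fin.ext (by rw [hj, hi, val3])
      subst e1 e2; exact T23
    | succ d ih =>
      intro i j hi hj
      have hi' : 2 + d < m + 4 := by have := i.2; omega
      have hj' : 2 + d + 1 < m + 4 := by have := i.2; omega
      set i' : Ix := ⟨2 + d, hi'⟩
      set j' : Ix := ⟨2 + d + 1, hj'⟩
      have := mv (show i' ≠ j' from Fin.ne_of_val_ne (by simp [i', j'])) (ih i' j' rfl rfl)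
      have ei : σ i' = i := Fin.ext (by
        rw [σrest i' (by simp [i']), σR_step (by simp [i']; omega) (by simp [i']; have := i.2; omega)]
        simp [i', hi]; omega)
      have ej : σ j' = j := Fin.ext (by
        rw [σrest j' (by simp [j']; omega), σR_step (by simp [j']) (by simp [j']; have := j.2; omega)]
        simp [j', hj, hi]; omega)
      rwa [ei, ej] at this
  have wrap : ∀ t, (T ⟨m + 3, by omega⟩ 2 t : SL) ∈ K := by
    set i' : Ix := ⟨m + 2, by omega⟩
    set j' : Ix := ⟨m + 3, by omega⟩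
    have := mv (show i' ≠ j' from Fin.ne_of_val_ne (by simp [i', j'])) (up1 m i' j' (by simp [i']; omega) rfl)
    have ei : σ i' = j' := Fin.ext (by
      rw [σrest i' (by simp [i']), σR_step (by simp [i']) (by simp [i'])])
    have ej : σ j' = 2 := by rw [σrest j' (by simp [j']), σR_last rfl]
    rwa [ei, ej] at this
  have comm : ∀ {x y w : Ix}, x ≠ y → y ≠ w → x ≠ w → (∀ t, (T x y t : SL) ∈ K) →
      (∀ t, (T y w t : SL) ∈ K) → ∀ t, (T x w t : SL) ∈ K := fun {x y w} hxy hyw hxw ha hb t => by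
    have e := T_comm hxy hyw hxw t (1 : F)
    rw [mul_one] at e
    rw [← e, commutatorElement_def]
    exact mul_mem (mul_mem (mul_mem (ha _) (hb _)) (inv_mem (ha _))) (inv_mem (hb _))
  have up : ∀ (d : ℕ) (i j : Ix), 2 ≤ i.1 → j.1 = i.1 + d + 1 → ∀ t, (T i j t : SL) ∈ K := by
    intro d
    induction d with
    | zero => intro i j hi hj; exact up1 (i.1 - 2) i j (by omega) hj
    | succ d ih =>
      intro i j hi hj
      have := j.2
      set k : Ix := ⟨i.1 + 1, by omega⟩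
      exact comm (Fin.ne_of_val_ne (by simp [k])) (Fin.ne_of_val_ne (by simp [k]; omega)) (Fin.ne_of_val_ne (by omega))
        (up1 (i.1 - 2) i k (by omega) rfl) (ih k j (by simp [k]; omega) (by simp [k]; omega))
  have R : ∀ i j : Ix, 2 ≤ i.1 → 2 ≤ j.1 → i ≠ j → ∀ t, (T i j t : SL) ∈ K := by
    intro i j hi hj hij
    rcases lt_or_gt_of_ne hij with h | h
    · exact up (j.1 - i.1 - 1) i j hi (by have := Fin.lt_def.mp h; omega)
    · have hlt := Fin.lt_def.mp h
      have hi2 : ∀ t, (T i 2 t : SL) ∈ K := by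
        by_cases e : i.1 = m + 3
        · rw [show i = ⟨m + 3, by omega⟩ from Fin.ext e]; exact wrap
        · have := i.2
          exact comm (Fin.ne_of_val_ne (show i.1 ≠ m + 3 from e)) (Fin.ne_of_val_ne (by rw [val2]; simp))
            (Fin.ne_of_val_ne (by rw [val2]; omega))
            (up (m + 3 - i.1 - 1) i ⟨m + 3, by omega⟩ hi (by simp; omega)) wrap
      by_cases e : j.1 = 2
      · rw [show j = 2 from Fin.ext (by rw [e, val2])]; exact hi2
      · exact comm (Fin.ne_of_val_ne (by rw [val2]; omega)) (Fin.ne_of_val_ne (by rw [val2]; omega)) hij hi2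
          (up (j.1 - 2 - 1) 2 j (by rw [val2]) (by rw [val2]; omega))
  have big : ∀ {k : Ix}, k ≠ 0 → k ≠ 1 → 2 ≤ k.1 := fun {k} h0 h1 => by
    have a' : k.1 ≠ 0 := fun e => h0 (Fin.ext (by simpa using e))
    have b' : k.1 ≠ 1 := fun e => h1 (Fin.ext (by simpa using e))
    omega
  rcases Data.blk_cases i with hi | ⟨hi0, hi1⟩
  · rcases hi with rfl | rfl <;> rcases hb.mp (by simp) with rfl | rfl
    · exact absurd rfl hij
    · exact T01 t
    · exact T10 t
    · exact absurd rfl hij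
  · have hj := fun h => (not_or.mpr ⟨hi0, hi1⟩) (hb.mpr h)
    exact R i j (big hi0 hi1) (big (fun e => hj (Or.inl e)) (fun e => hj (Or.inr e))) hij t

/-- The relations from few of them. -/
theorem rels_mk {H : Type*} [Group H] (θ : SL →* H) (z : H) {a : Fˣ} (ha : ∀ x : Fˣ, x ∈ Submonoid.powers a)
    {M : SL} {c : Ix → F} (hM : Mono M (σR m) c) (h1 : Commute z (θ (T 0 1 1 * dg 2 3 a.ne_zero)))
    (h2 : Commute z (θ (W 0 1 * M))) (h3 : Commute z (θ (T 2 3 1 * dg 0 1 a.ne_zero)))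
    (hsq : z * z = θ (dg 0 1 negone_ne)) (hbraid : z * θ wE * z = θ wE * z * θ wE)
    (hseed : 1 ≤ m → Commute (Ve θ z 1) (θ (T 1 2 1 * T 0 3 1)))
    (hseed4 : m = 0 → Commute (Ve θ z 1) (θ (T 1 2 1)) ∧ Commute (Ve θ z 1) (θ (T 0 3 1))) : Rels ⇑θ z := by
  have hc : ∀ i j, i ≠ j → SameBlk i j → ∀ t, Commute z (θ (T i j t)) := fun i j hij hb t => by
    have hK : ∀ g : SL, Commute z (θ g) → g ∈ (Subgroup.centralizer {z}).comap θ := fun g hg => by
      rw [Subgroup.mem_comap, Subgroup.mem_centralizer_singleton_iff]; exact hg.symm.eq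
    have := blk_mem ha hM (hK _ h1) (hK _ h2) (hK _ h3) i j hij hb t
    rw [Subgroup.mem_comap, Subgroup.mem_centralizer_singleton_iff] at this
    exact this.symm
  by_cases hm : 1 ≤ m
  swap
  · exact ⟨hc, hsq, hbraid, (hseed4 (by omega)).1, (hseed4 (by omega)).2⟩
  set C : Subgroup SL := (Subgroup.centralizer {Ve θ z 1}).comap θ
  have memC : ∀ {g : SL}, g ∈ C ↔ Commute (Ve θ z 1) (θ g) := fun {g} => by
    rw [Subgroup.mem_comap, Subgroup.mem_centralizer_singleton_iff]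
    exact ⟨fun h => h.symm, fun h => h.symm⟩
  set f : Ix := ⟨4, by omega⟩
  have fv : f.1 = 4 := rfl
  have f0 : f ≠ 0 := Fin.ne_of_val_ne (by simp [fv])
  have f1 : f ≠ 1 := Fin.ne_of_val_ne (by simp [fv])
  have f2 : f ≠ 2 := Fin.ne_of_val_ne (by rw [fv, val2]; omega)
  have f3 : f ≠ 3 := Fin.ne_of_val_ne (by rw [fv, val3]; omega)
  have inC : ∀ (i j : Ix), i ≠ j → i ≠ 0 → j ≠ 2 → SameBlk i j → ∀ t, (T i j t : SL) ∈ C := by
    intro i j hij hi hj hb t
    rw [memC]
    have hz := (hc i j hij hb t).symm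
    have ht : Commute (θ (T 2 0 1)) (θ (T i j t)) := (T_commute (Ne.symm hi) hj 1 t).map θ
    exact ((hz.mul_right ht.symm).mul_right hz.inv_right).symm
  have b34 : SameBlk (3 : Ix) f := Data.sameBlk_of_rest ne03.symm ne13.symm f0 f1
  have hg : T 1 2 1 * T 0 3 1 ∈ C := memC.mpr (hseed hm)
  have h34 := inC 3 f (Ne.symm f3) ne03.symm f2 b34 1
  have hW : W f 3 ∈ C := W_mem (fun t => inC f 3 f3 f0 ne23.symm b34.symm t)
    (fun t => inC 3 f (Ne.symm f3) ne03.symm f2 b34 t)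
  have e : (T 1 2 1 * T 0 3 1 : SL)⁻¹ * (T 3 f 1 * (T 1 2 1 * T 0 3 1) * (T 3 f 1)⁻¹) = T 0 f (-1) := by
    have h12 : Commute (T 3 f (1 : F) : SL) (T 1 2 1) := T_commute (Ne.symm (Ne.symm f1)) ne23 1 1
    rw [show (T 1 2 1 * T 0 3 1 : SL)⁻¹ * (T 3 f 1 * (T 1 2 1 * T 0 3 1) * (T 3 f 1)⁻¹) =
      (T 0 3 1)⁻¹ * ((T 1 2 1)⁻¹ * (T 3 f 1 * T 1 2 1)) * T 0 3 1 * (T 3 f 1)⁻¹ by group, h12.eq,
      inv_mul_cancel_left]
    have hc' := T_comm (ι := Ix) (F := F) ne03 (Ne.symm f3) (Ne.symm f0) (-1) 1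
    rw [neg_one_mul, commutatorElement_def, ← T_neg, neg_neg] at hc'
    rw [← T_neg, hc']
  have h04 : (T 0 f (-1) : SL) ∈ C := e ▸ mul_mem (inv_mem hg) (mul_mem (mul_mem h34 hg) (inv_mem h34))
  have hw := mul_mem (mul_mem hW h04) (inv_mem hW)
  rw [(W_mono f3).conj_T (Ne.symm f0), Equiv.swap_apply_of_ne_of_ne (Ne.symm f0) ne03, Equiv.swap_apply_left,
    if_neg (Ne.symm f0), if_pos rfl, one_mul, neg_div_neg_eq, one_div_one] at hw
  have h12' : (T 1 2 1 : SL) ∈ C := (Subgroup.mul_mem_cancel_right C hw).mp hg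
  exact ⟨hc, hsq, hbraid, memC.mp h12', memC.mp hw⟩

end Cfsg.Agent.KSG55.Om
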