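import Cfsg.Agent.KSG55.Om.Roots
import Cfsg.Agent.ClassMult.SiegelPlus

set_option autoImplicit false

/-! The matrices of the plus type. -/

namespace Cfsg.Agent.KSG55.Om

open Matrix Cfsg.Agent.CharB.PSLMult Cfsg.Agent.KSG55.Lin Cfsg.Agent.ClassMult Cfsg.Agent.UnitaryOrthogonal

variable {F : Type*} [Field F] {m : ℕ}

local notation "SL" => SpecialLinearGroup (Fin (m + 4)) F
local notation "Vn" => Fin (m + 4) → F

/-- The value of the crossed Weyl element. -/
def zf (x y : Vn) : Vn := fun k => if k = 0 then y 1 else if k = 1 then -y 0 else x k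

theorem zf_zero (x y : Vn) : zf x y 0 = y 1 := if_pos rfl
theorem zf_one (x y : Vn) : zf x y 1 = -y 0 := by simp [zf, ne01.symm]
theorem zf_rest (x y : Vn) {k : Fin (m + 4)} (h0 : k ≠ 0) (h1 : k ≠ 1) : zf x y k = x k := by simp [zf, h0, h1]

theorem zf_dot (x y : Vn) : zf x y ⬝ᵥ zf y x = x ⬝ᵥ y := by
  unfold dotProduct
  rw [← Fintype.sum_equiv (Equiv.swap (0 : Fin (m + 4)) 1) _ _ (fun k => ?_)]
  by_cases h0 : k = 0
  · subst h0; rw [Equiv.swap_apply_left, zf_one, zf_one]; ring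
  by_cases h1 : k = 1
  · subst h1; rw [Equiv.swap_apply_right, zf_zero, zf_zero]; ring
  · rw [Equiv.swap_apply_of_ne_of_ne h0 h1, zf_rest _ _ h0 h1, zf_rest _ _ h0 h1]

theorem zf_neg (x y : Vn) : zf (-x) (-y) = -zf x y := by
  funext k; simp only [zf, Pi.neg_apply]; split_ifs <;> rfl

/-- The inverse value. -/
def zg (x y : Vn) : Vn := fun k => if k = 0 then -y 1 else if k = 1 then y 0 else x k

/-- The crossed Weyl element. -/
def zM : orth (hypSum (m + 4) (zeroForm F)) :=
  ⟨{ toFun := fun v => ((zf v.1.1 v.1.2, zf v.1.2 v.1.1), v.2)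
     invFun := fun v => ((zg v.1.1 v.1.2, zg v.1.2 v.1.1), v.2)
     map_add' := fun v w => by
      refine Prod.ext (Prod.ext ?_ ?_) (Subsingleton.elim _ _) <;> funext k <;>
        simp [zf] <;> split_ifs <;> simp [add_comm]
     map_smul' := fun c v => by
      refine Prod.ext (Prod.ext ?_ ?_) (Subsingleton.elim _ _) <;> funext k <;>
        simp [zf] <;> split_ifs <;> simp
     left_inv := fun v => by
      refine Prod.ext (Prod.ext ?_ ?_) (Subsingleton.elim _ _) <;> funext k <;>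
        simp [zf, zg] <;> split_ifs <;> simp_all [ne01, ne01.symm]
     right_inv := fun v => by
      refine Prod.ext (Prod.ext ?_ ?_) (Subsingleton.elim _ _) <;> funext k <;>
        simp [zf, zg] <;> split_ifs <;> simp_all [ne01, ne01.symm] }, fun v => by
    obtain ⟨⟨x, y⟩, z⟩ := v
    show hypSum (m + 4) (zeroForm F) ((zf x y, zf y x), z) = _
    rw [pv_form, pv_form, zf_dot]⟩

theorem zM_apply (x y : Vn) (u : Fin 0 → F) :
    (zM (F := F) (m := m)).1 ((x, y), u) = ((zf x y, zf y x), u) := rfl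

theorem T_mulVec {i j : Fin (m + 4)} (h : i ≠ j) (t : F) (x : Vn) (k : Fin (m + 4)) :
    ((T i j t : SL).1 *ᵥ x) k = x k + if k = i then t * x j else 0 := by
  rw [T_coe h, add_mulVec, one_mulVec, single_mulVec, Pi.add_apply]
  by_cases hk : k = i
  · subst hk; simp
  · simp [hk]

theorem mono_mulVec {A : SL} {σ : Equiv.Perm (Fin (m + 4))} {c : Fin (m + 4) → F} (hA : Mono A σ c) (x : Vn)
    (k : Fin (m + 4)) : (A.1 *ᵥ x) (σ k) = c k * x k := by
  have e : x = ∑ i, x i • ev i := by funext a; simp [Finset.sum_apply, Pi.single_apply]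
  conv_lhs => rw [e, mulVec_sum]
  rw [Finset.sum_apply, Finset.sum_eq_single k (fun b _ hb => ?_) (by simp), mulVec_smul, hA k]
  · simp [mul_comm]
  · rw [mulVec_smul, hA b]; simp [σ.injective.eq_iff, Ne.symm hb]

theorem wE_mulVec (x : Vn) (k : Fin (m + 4)) :
    ((wE : SL).1 *ᵥ x) k = if k = 0 then -x 2 else if k = 2 then x 0 else x k := by
  have h := fun l => mono_mulVec (F := F) (W_mono ne02.symm) x l
  by_cases h0 : k = 0
  · subst h0
    have := h 2
    rw [Equiv.swap_apply_left] at this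
    simp [wE, this]
  by_cases h2 : k = 2
  · subst h2
    have := h 0
    rw [Equiv.swap_apply_right] at this
    simp [wE, this, ne02, ne02.symm]
  · have := h k
    rw [Equiv.swap_apply_of_ne_of_ne h2 h0] at this
    simp [wE, this, h0, h2]

theorem τ_wE : τ (wE : SL) = wE := by
  refine sl_ext fun k => ?_
  rw [wE, τ_mono (W_mono ne02.symm) k, W_mono ne02.symm k]
  by_cases h : k = 2 <;> simp [h]

theorem levP_T {i j : Fin (m + 4)} (h : i ≠ j) (t : F) (x y : Vn) (u : Fin 0 → F) :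
    (levP (T i j t : SL)).1 ((x, y), u) = (((T i j t : SL).1 *ᵥ x, (T j i (-t) : SL).1 *ᵥ y), u) := by
  rw [levP_apply, ← τ_T h]; rfl

theorem levP_wE (x y : Vn) (u : Fin 0 → F) :
    (levP (wE : SL)).1 ((x, y), u) = (((wE : SL).1 *ᵥ x, (wE : SL).1 *ᵥ y), u) := by
  conv_rhs => rw [← congrArg (fun A : SL => A.1 *ᵥ y) τ_wE]
  rfl

theorem zM_sq : zM * zM = levP (dg 0 1 negone_ne : SL) := by
  refine orth_ext fun ⟨⟨x, y⟩, u⟩ => ?_
  rw [coe_mul_apply, zM_apply, zM_apply, levP_apply]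
  have hi : ((dg 0 1 negone_ne : SL)⁻¹).1ᵀ = (dg 0 1 negone_ne : SL).1 := by
    have e : (dg 0 1 negone_ne : SL)⁻¹ = dg 0 1 negone_ne := inv_eq_of_mul_eq_one_right (by
      refine sl_ext fun k => ?_
      rw [sl_mulVec_mul, dg_mono, Equiv.Perm.one_apply, mulVec_smul, dg_mono, Equiv.Perm.one_apply, smul_smul]
      show _ = (1 : Matrix _ _ F) *ᵥ _
      rw [one_mulVec]
      by_cases h : k = 0 <;> by_cases h' : k = 1 <;> simp_all [dvec])
    rw [e]
    show (Matrix.diagonal _)ᵀ = _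
    rw [diagonal_transpose]; rfl
  rw [hi]
  refine Prod.ext (Prod.ext ?_ ?_) rfl <;> funext k <;>
  · show _ = (Matrix.diagonal (dvec 0 1 (-1 : F)) *ᵥ _) k
    rw [mulVec_diagonal]
    by_cases h0 : k = 0
    · subst h0; simp [zf, dvec, ne01, ne01.symm]
    by_cases h1 : k = 1
    · subst h1; simp [zf, dvec, ne01, ne01.symm]
    · simp [zf, dvec, h0, h1]

theorem zM_braid : zM * levP (wE : SL) * zM = levP (wE : SL) * zM * levP wE := by
  refine orth_ext fun ⟨⟨x, y⟩, u⟩ => ?_
  simp only [coe_mul_apply, zM_apply, levP_wE]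
  refine Prod.ext (Prod.ext ?_ ?_) rfl <;> funext k <;>
  · by_cases h0 : k = 0
    · subst h0; simp [zf, wE_mulVec, ne01, ne02, ne12, ne01.symm, ne02.symm, ne12.symm]
    by_cases h1 : k = 1
    · subst h1; simp [zf, wE_mulVec, ne01, ne02, ne12, ne01.symm, ne02.symm, ne12.symm]
    by_cases h2 : k = 2
    · subst h2; simp [zf, wE_mulVec, ne01, ne02, ne12, ne01.symm, ne02.symm, ne12.symm]
    · simp [zf, wE_mulVec, h0, h1, h2]

theorem sgP_xA {i j : Fin (m + 4)} (h : i ≠ j) (t : F) (x y : Vn) (u : Fin 0 → F) :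
    (sgP (xA i j t)).1 ((x, y), u) =
      ((fun k => x k + ((if k = i then t * y j else 0) - (if k = j then t * y i else 0)), y), u) := by
  rw [sgP_apply]
  refine Prod.ext (Prod.ext (funext fun k => ?_) rfl) rfl
  show x k + ((xm i j t) *ᵥ y) k = _
  rw [xm, sub_mulVec, single_mulVec, single_mulVec]
  by_cases hi : k = i <;> by_cases hj : k = j <;> simp_all

theorem zM_T20 (t : F) :
    zM * levP (T 2 0 t : SL) = sgP (xA 1 2 t) * zM := by
  refine orth_ext fun ⟨⟨x, y⟩, u⟩ => ?_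
  simp only [coe_mul_apply, zM_apply, levP_T ne02.symm, sgP_xA ne12]
  refine Prod.ext (Prod.ext ?_ ?_) rfl <;> funext k <;>
  · by_cases h0 : k = 0
    · subst h0; simp [zf, T_mulVec, ne01, ne02, ne12, ne01.symm, ne02.symm, ne12.symm]
    by_cases h1 : k = 1
    · subst h1; simp [zf, T_mulVec, ne01, ne02, ne12, ne01.symm, ne02.symm, ne12.symm] <;> ring
    by_cases h2 : k = 2
    · subst h2; simp [zf, T_mulVec, ne01, ne02, ne12, ne01.symm, ne02.symm, ne12.symm]
    · simp [zf, T_mulVec, ne02, ne02.symm, h0, h1, h2]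

theorem cg_mono_xA {A : SL} {σ : Equiv.Perm (Fin (m + 4))} {c : Fin (m + 4) → F} (hA : Mono A σ c)
    (i j : Fin (m + 4)) (t : F) : cg A (xA i j t) = xA (σ i) (σ j) (c i * c j * t) := by
  have e : ∀ a b : Fin (m + 4),
      A.1 * Matrix.single a b t * A.1ᵀ = Matrix.single (σ a) (σ b) (c a * c b * t) := by
    intro a b
    rw [show (Matrix.single a b t : Matrix _ _ F) = vecMulVec (Pi.single a t) (ev b) by
        ext x y; by_cases hx : x = a <;> by_cases hy : y = b <;> simp [vecMulVec, single_apply, hx, hy, Ne.symm],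
      mul_vecMulVec, vecMulVec_mul, vecMul_transpose, show (Pi.single a t : Vn) = t • ev a by
        funext x; by_cases hx : x = a <;> simp [hx], mulVec_smul, hA a, hA b]
    ext x y
    by_cases hx : x = σ a <;> by_cases hy : y = σ b <;> simp [vecMulVec, single_apply, hx, hy, Ne.symm] <;> ring
  refine Subtype.ext ?_
  show A.1 * xm i j t * A.1ᵀ = xm (σ i) (σ j) (c i * c j * t)
  rw [xm, xm, Matrix.mul_sub, Matrix.sub_mul, e, e, mul_comm (c j)]

/-- A homomorphism with the intended values. -/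
structure Mdl {G : Type*} [Group G] (D : Data F m G) where
  φ : G →* orth (hypSum (m + 4) (zeroForm F))
  hθ : ∀ A, φ (D.θ A) = levP A
  hz : φ D.z = zM

namespace Mdl

variable {G : Type*} [Group G] {D : Data F m G} (M : Mdl D) [Finite F]

theorem φ_V01 (t : F) : M.φ (D.V01 t) = sgP (xA 0 1 t) := by
  rw [Data.V01, Data.V0_eq]
  simp only [map_mul, map_inv, M.hθ, M.hz]
  rw [zM_T20, mul_inv_cancel_right, datumPlus.rel, cg_mono_xA Data.wE_mono, Equiv.swap_apply_of_ne_of_ne ne12 ne01.symm,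
    Equiv.swap_apply_left, if_neg ne12, if_pos rfl, one_mul, neg_one_mul, xA_swap, neg_neg]

theorem φ_sg (X : altM (Fin (m + 4)) F) : M.φ (D.sg X) = sgP X := by
  have hD := datumPlus (F := F) (l := m + 4)
  let H : AddSubgroup (altM (Fin (m + 4)) F) :=
    { carrier := {X | M.φ (D.sg X) = sgP X}
      zero_mem' := by show M.φ (D.sg 0) = _; rw [D.sg_zero, map_one, hD.zero]
      add_mem' := fun {A B} (hA : M.φ (D.sg A) = _) (hB : M.φ (D.sg B) = _) => by
        show M.φ (D.sg (A + B)) = _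
        rw [D.sg_add, map_mul, hA, hB, hD.add]
      neg_mem' := fun {A} (hA : M.φ (D.sg A) = _) => by
        show M.φ (D.sg (-A)) = _
        rw [D.sg_neg, map_inv, hA]
        exact inv_eq_of_mul_eq_one_left (by rw [← hD.add, neg_add_cancel, hD.zero]) }
  refine mem_of_xA_mem (H := H) (fun i j hij a => ?_) X
  show _ = _
  obtain ⟨σ, s0, s1⟩ : ∃ σ : Equiv.Perm (Fin (m + 4)), σ 0 = i ∧ σ 1 = j :=
    ⟨Equiv.swap (Equiv.swap 0 i 1) j * Equiv.swap 0 i, by
      rw [Equiv.Perm.mul_apply, Equiv.swap_apply_left, Equiv.swap_apply_of_ne_of_ne ?_ hij]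
      exact fun e => ne01 ((Equiv.swap (0 : Fin (m + 4)) i).injective ((Equiv.swap_apply_left 0 i).trans e)),
      by rw [Equiv.Perm.mul_apply, Equiv.swap_apply_left]⟩
  obtain ⟨A, -, c, hA⟩ := exists_mono (K := (⊤ : Subgroup SL)) ∅ (fun _ _ _ _ _ => trivial) σ (by simp)
  have e : xA i j a = cg A (xA 0 1 (a / (c 0 * c 1))) := by
    rw [cg_mono_xA hA, s0, s1, mul_div_cancel₀ _ (mul_ne_zero (hA.ne_zero 0) (hA.ne_zero 1))]
  rw [e, ← D.sg_conj, map_mul, map_mul, map_inv, M.hθ, D.sg_xA ne01, ← D.V01_scale, M.φ_V01]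
  exact hD.rel _ _

end Mdl

end Cfsg.Agent.KSG55.Om
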