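import Cfsg.Agent.CharB.PSLMult.Lifts

set_option autoImplicit false

/-! Monomial elements of `SL_n` and generation of vector stabilisers by transvections. -/

namespace Cfsg.Agent.KSG55.Om

open Matrix Cfsg.Agent.CharB.PSLMult

variable {F : Type*} [Field F] {n : ℕ}

local notation "SL" => SpecialLinearGroup (Fin n) F
local notation "Vn" => Fin n → F

/-- The standard basis. -/
abbrev ev (i : Fin n) : Fin n → F := Pi.single i 1

theorem T_ev {i j : Fin n} (h : i ≠ j) (t : F) (k : Fin n) :
    (T i j t : SL).1 *ᵥ ev k = ev k + (if k = j then t • ev i else 0) := by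
  rw [T_mulVec_single h]
  congr 1
  split_ifs
  · funext a; by_cases ha : a = i <;> simp [ha]
  · rfl

theorem T_ev_ne {i j : Fin n} (h : i ≠ j) (t : F) {k : Fin n} (hk : k ≠ j) :
    (T i j t : SL).1 *ᵥ ev k = ev k := by rw [T_ev h, if_neg hk, add_zero]

theorem T_ev_self {i j : Fin n} (h : i ≠ j) (t : F) :
    (T i j t : SL).1 *ᵥ ev j = ev j + t • ev i := by rw [T_ev h, if_pos rfl]

theorem sl_ext {A B : SL} (h : ∀ k, A.1 *ᵥ ev k = B.1 *ᵥ ev k) : A = B :=
  Subtype.ext (Matrix.ext_of_mulVec_single h)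

theorem sl_mulVec_mul (A B : SL) (v : Vn) : (A * B).1 *ᵥ v = A.1 *ᵥ (B.1 *ᵥ v) := by
  rw [mulVec_mulVec]; rfl

theorem sl_inv_mulVec (A : SL) (v : Vn) : (A⁻¹).1 *ᵥ (A.1 *ᵥ v) = v := by
  rw [← sl_mulVec_mul, inv_mul_cancel]; exact one_mulVec v

theorem sl_mulVec_inv (A : SL) (v : Vn) : A.1 *ᵥ ((A⁻¹).1 *ᵥ v) = v := by
  rw [← sl_mulVec_mul, mul_inv_cancel]; exact one_mulVec v

theorem ev_ne_zero (k : Fin n) : (ev k : Vn) ≠ 0 := fun e => by simpa using congrFun e k

/-- `A` permutes the lines of the basis. -/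
def Mono (A : SL) (σ : Equiv.Perm (Fin n)) (c : Fin n → F) : Prop := ∀ k, A.1 *ᵥ ev k = c k • ev (σ k)

theorem Mono.ne_zero {A : SL} {σ : Equiv.Perm (Fin n)} {c : Fin n → F} (h : Mono A σ c) (k : Fin n) :
    c k ≠ 0 := fun e => ev_ne_zero (F := F) k (by rw [← sl_inv_mulVec A (ev k), h k, e, zero_smul, mulVec_zero])

theorem Mono.mul {A B : SL} {σ τ : Equiv.Perm (Fin n)} {c d : Fin n → F} (hA : Mono A σ c) (hB : Mono B τ d) :
    Mono (A * B) (σ * τ) (fun k => d k * c (τ k)) := fun k => by
  rw [sl_mulVec_mul, hB, mulVec_smul, hA, smul_smul]; rfl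

theorem Mono.one : Mono (1 : SL) 1 (fun _ => 1) := fun k => by
  show _ = (1 : F) • ev k
  rw [one_smul]; exact one_mulVec _

theorem Mono.inv {A : SL} {σ : Equiv.Perm (Fin n)} {c : Fin n → F} (h : Mono A σ c) :
    Mono A⁻¹ σ⁻¹ (fun k => (c (σ⁻¹ k))⁻¹) := fun k => by
  have e := congrArg (fun v => (A⁻¹).1 *ᵥ v) (h (σ⁻¹ k))
  simp only [sl_inv_mulVec, mulVec_smul, show σ (σ⁻¹ k) = k by simp] at e
  rw [e, smul_smul, inv_mul_cancel₀ (h.ne_zero _), one_smul]

theorem Mono.conj_T {A : SL} {σ : Equiv.Perm (Fin n)} {c : Fin n → F} (h : Mono A σ c) {i j : Fin n}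
    (hij : i ≠ j) (t : F) : A * T i j t * A⁻¹ = T (σ i) (σ j) (c i * t / c j) := by
  rw [mul_inv_eq_iff_eq_mul]
  have hs : σ i ≠ σ j := fun e => hij (σ.injective e)
  refine sl_ext fun k => ?_
  rw [sl_mulVec_mul, sl_mulVec_mul, h k, mulVec_smul, T_ev hij, mulVec_add, h k, T_ev hs]
  simp only [σ.injective.eq_iff]
  split_ifs with e
  · subst e
    rw [mulVec_smul, h i, smul_add, smul_smul, smul_smul]
    congr 2
    have := h.ne_zero k
    field_simp
  · simp

/-- The monomial elements. -/
def MonS : Subgroup SL where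
  carrier := {A | ∃ σ c, Mono A σ c}
  one_mem' := ⟨1, _, Mono.one⟩
  mul_mem' := fun ⟨_, _, hA⟩ ⟨_, _, hB⟩ => ⟨_, _, hA.mul hB⟩
  inv_mem' := fun ⟨_, _, hA⟩ => ⟨_, _, hA.inv⟩

/-- The Weyl element of two indices. -/
def W (i j : Fin n) : SL := T i j 1 * T j i (-1) * T i j 1

theorem W_mono {i j : Fin n} (h : i ≠ j) :
    Mono (W i j : SL) (Equiv.swap i j) (fun k => if k = i then -1 else 1) := by
  intro k
  show _ = (if k = i then (-1 : F) else 1) • ev (Equiv.swap i j k)
  rw [W, sl_mulVec_mul, sl_mulVec_mul]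
  by_cases hi : k = i
  · subst hi
    rw [T_ev_ne h _ h, T_ev_self h.symm, mulVec_add, mulVec_smul, T_ev_ne h _ h, T_ev_self h,
      Equiv.swap_apply_left, if_pos rfl]
    funext a; simp
  · by_cases hj : k = j
    · subst hj
      rw [T_ev_self h, mulVec_add, mulVec_smul, T_ev_ne h.symm _ h.symm, T_ev_self h.symm, mulVec_add, mulVec_smul,
        mulVec_add, mulVec_smul, T_ev_self h, T_ev_ne h _ h, Equiv.swap_apply_right, if_neg hi]
      funext a; simp
    · rw [T_ev_ne h _ hj, T_ev_ne h.symm _ hi, T_ev_ne h _ hj, Equiv.swap_apply_of_ne_of_ne hi hj, if_neg hi, one_smul]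

theorem dg_mono (p q : Fin n) {a : F} (ha : a ≠ 0) : Mono (dg p q ha : SL) 1 (dvec p q a) := fun k => by
  show Matrix.diagonal (dvec p q a) *ᵥ ev k = _
  funext x
  rw [mulVec_diagonal]
  by_cases h : x = k <;> simp [h]

theorem W_mem {K : Subgroup SL} {i j : Fin n} (h1 : ∀ t, T i j t ∈ K) (h2 : ∀ t, T j i t ∈ K) : W i j ∈ K :=
  mul_mem (mul_mem (h1 _) (h2 _)) (h1 _)

/-- Permutations outside a set lift. -/
theorem exists_mono {K : Subgroup SL} (S : Finset (Fin n)) (hW : ∀ i j, i ≠ j → i ∉ S → j ∉ S → W i j ∈ K)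
    (σ : Equiv.Perm (Fin n)) (hσ : ∀ s ∈ S, σ s = s) : ∃ A ∈ K, ∃ c, Mono A σ c := by
  have hiff : ∀ x, σ x ∉ S ↔ x ∉ S := fun x => not_congr
    ⟨fun hx => σ.injective (hσ _ hx) ▸ hx, fun hx => (hσ x hx).symm ▸ hx⟩
  have he : Equiv.Perm.ofSubtype (σ.subtypePerm hiff : Equiv.Perm {x // x ∉ S}) = σ := by
    refine Equiv.ext fun x => ?_
    by_cases hx : x ∈ S
    · rw [Equiv.Perm.ofSubtype_apply_of_not_mem (p := fun y => y ∉ S) _ (not_not_intro hx), hσ x hx]
    · rw [Equiv.Perm.ofSubtype_apply_of_mem (p := fun y => y ∉ S) _ hx]; rfl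
  suffices h : ∀ τ : Equiv.Perm {x // x ∉ S}, ∃ A ∈ K, ∃ c, Mono A (Equiv.Perm.ofSubtype τ) c by
    have h2 := h (σ.subtypePerm hiff)
    rw [he] at h2
    exact h2
  intro τ
  induction τ using Equiv.Perm.swap_induction_on with
  | one => exact ⟨1, one_mem _, _, by rw [map_one]; exact Mono.one⟩
  | swap_mul τ x y hxy ih =>
    obtain ⟨A, hA, c, hc⟩ := ih
    have hne : (x : Fin n) ≠ y := fun e => hxy (Subtype.ext e)
    refine ⟨W x.1 y.1 * A, mul_mem (hW _ _ hne x.2 y.2) hA,
      fun k => c k * (if Equiv.Perm.ofSubtype τ k = x.1 then -1 else 1), ?_⟩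
    rw [map_mul, Equiv.Perm.ofSubtype_swap_eq]
    exact (W_mono hne).mul hc

/-- A column element. -/
theorem exists_col {K : Subgroup SL} (k : Fin n) (v : Vn) (I : Finset (Fin n)) (hk : k ∉ I)
    (hT : ∀ i ∈ I, ∀ t, T i k t ∈ K) :
    ∃ g ∈ K, g.1 *ᵥ ev k = ev k + ∑ i ∈ I, v i • ev i ∧ ∀ l, l ≠ k → g.1 *ᵥ ev l = ev l := by
  classical
  induction I using Finset.induction_on with
  | empty => exact ⟨1, one_mem _, by rw [Finset.sum_empty, add_zero]; exact one_mulVec _, fun l _ => one_mulVec _⟩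
  | @insert a I ha ih =>
    obtain ⟨g, hg, h1, h2⟩ := ih (fun e => hk (Finset.mem_insert_of_mem e))
      (fun i hi => hT i (Finset.mem_insert_of_mem hi))
    have hak : a ≠ k := fun e => hk (e ▸ Finset.mem_insert_self a I)
    refine ⟨T a k (v a) * g, mul_mem (hT a (Finset.mem_insert_self _ _) _) hg, ?_, fun l hl => ?_⟩
    · rw [sl_mulVec_mul, h1, mulVec_add, T_ev_self hak, mulVec_sum, Finset.sum_insert ha, add_assoc]
      congr 2
      refine Finset.sum_congr rfl fun i hi => ?_
      rw [mulVec_smul, T_ev_ne hak _ fun e => hk (Finset.mem_insert_of_mem (e ▸ hi))]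
    · rw [sl_mulVec_mul, h2 l hl, T_ev_ne hak _ hl]

theorem sum_ev_erase (k : Fin n) (v : Vn) :
    ev k + ∑ i ∈ Finset.univ.erase k, v i • ev i = Function.update v k 1 := by
  funext x
  simp only [Pi.add_apply, Finset.sum_apply, Pi.smul_apply, smul_eq_mul, ev, Pi.single_apply]
  by_cases hx : x = k
  · subst hx; simp
  · rw [Finset.sum_eq_single x] <;> simp +contextual [hx, eq_comm]

/-- Moving a basis vector while fixing some others. -/
theorem exists_move (S : Finset (Fin n)) {k l : Fin n} (hk : k ∉ S) (hl : l ∉ S) (hkl : k ≠ l) {v : Vn}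
    (hv : ∃ j, j ∉ S ∧ v j ≠ 0) {K : Subgroup SL} (hT : ∀ i j, i ≠ j → j ∉ S → ∀ t, T i j t ∈ K) :
    ∃ g ∈ K, g.1 *ᵥ ev k = v ∧ ∀ s ∈ S, g.1 *ᵥ ev s = ev s := by
  classical
  have step1 : ∀ w : Vn, w k = 1 → ∃ g ∈ K, g.1 *ᵥ ev k = w ∧ ∀ s ∈ S, g.1 *ᵥ ev s = ev s := by
    intro w hw
    obtain ⟨g, hg, h1, h2⟩ := exists_col k w (Finset.univ.erase k) (by simp)
      (fun i hi => hT i k (Finset.ne_of_mem_erase hi) hk)
    refine ⟨g, hg, ?_, fun s hs => h2 s fun e => hk (e ▸ hs)⟩
    rw [h1, sum_ev_erase, ← hw, Function.update_eq_self]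
  have step2 : ∀ w : Vn, (∃ j, j ∉ S ∧ j ≠ k ∧ w j ≠ 0) →
      ∃ g ∈ K, g.1 *ᵥ ev k = w ∧ ∀ s ∈ S, g.1 *ᵥ ev s = ev s := by
    rintro w ⟨j, hjS, hjk, hwj⟩
    set x : SL := T k j ((1 - w k) / w j) with hx
    have hxK : x ∈ K := hT _ _ hjk.symm hjS _
    obtain ⟨g, hg, h1, h2⟩ := step1 (x.1 *ᵥ w) (by
      rw [hx, T_coe hjk.symm, add_mulVec, one_mulVec]
      simp [mulVec, dotProduct, Matrix.single_apply, ite_and]
      field_simp
      ring)
    refine ⟨x⁻¹ * g, mul_mem (inv_mem hxK) hg, by rw [sl_mulVec_mul, h1, sl_inv_mulVec], fun s hs => ?_⟩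
    rw [sl_mulVec_mul, h2 s hs]
    conv_lhs => rw [← T_ev_ne hjk.symm ((1 - w k) / w j) (show s ≠ j from fun e => hjS (e ▸ hs)), ← hx]
    rw [sl_inv_mulVec]
  obtain ⟨j, hjS, hvj⟩ := hv
  by_cases hjk : j = k
  · subst hjk
    by_cases hvl : v l = 0
    · obtain ⟨g, hg, h1, h2⟩ := step2 ((T l j (1 : F) : SL).1 *ᵥ v) ⟨l, hl, hkl.symm, by
        rw [T_coe hkl.symm, add_mulVec, one_mulVec]
        simpa [mulVec, dotProduct, Matrix.single_apply, ite_and, hvl] using hvj⟩
      refine ⟨(T l j (1 : F))⁻¹ * g, mul_mem (inv_mem (hT _ _ hkl.symm hjS _)) hg,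
        by rw [sl_mulVec_mul, h1, sl_inv_mulVec], fun s hs => ?_⟩
      rw [sl_mulVec_mul, h2 s hs]
      conv_lhs => rw [← T_ev_ne hkl.symm (1 : F) (show s ≠ j from fun e => hjS (e ▸ hs))]
      rw [sl_inv_mulVec]
    · exact step2 v ⟨l, hl, hkl.symm, hvl⟩
  · exact step2 v ⟨j, hjS, hjk, hvj⟩

/-- The fixer of basis vectors is generated by transvections. -/
theorem fix_mem {K : Subgroup SL} (S : Finset (Fin n)) (hT : ∀ i j, i ≠ j → j ∉ S → ∀ t, T i j t ∈ K)
    (A : SL) (hA : ∀ s ∈ S, A.1 *ᵥ ev s = ev s) : A ∈ K := by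
  classical
  induction hc : Sᶜ.card generalizing S A with
  | zero =>
    have : A = 1 := sl_ext fun k => by
      rw [hA k (by
        have := Finset.card_eq_zero.mp hc
        by_contra hk
        exact absurd (this ▸ Finset.mem_compl.mpr hk) (Finset.notMem_empty k))]
      exact (one_mulVec _).symm
    rw [this]; exact one_mem K
  | succ d ih =>
    obtain ⟨k, hk⟩ := Finset.card_pos.mp (show 0 < Sᶜ.card by omega)
    have hkS : k ∉ S := Finset.mem_compl.mp hk
    have hj : ∃ j, j ∉ S ∧ (A.1 *ᵥ ev k) j ≠ 0 := by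
      by_contra h
      push Not at h
      set v := A.1 *ᵥ ev k with hv
      have e : v = ∑ s ∈ S, v s • ev s := by
        funext x
        simp only [Finset.sum_apply, Pi.smul_apply, smul_eq_mul, ev, Pi.single_apply]
        by_cases hx : x ∈ S
        · rw [Finset.sum_eq_single x] <;> simp +contextual [hx, eq_comm]
        · rw [h x hx, Finset.sum_eq_zero]
          intro s hs; simp [show x ≠ s from fun e => hx (e ▸ hs)]
      have e2 : A.1 *ᵥ (∑ s ∈ S, v s • ev s) = A.1 *ᵥ ev k := by
        rw [mulVec_sum, ← hv]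
        conv_rhs => rw [e]
        exact Finset.sum_congr rfl fun s hs => by rw [mulVec_smul, hA s hs]
      have e3 := congrArg (fun w => (A⁻¹).1 *ᵥ w) e2
      simp only [sl_inv_mulVec, ← e] at e3
      have := congrFun e3 k
      rw [h k hkS] at this
      simp at this
    by_cases hl : ∃ l, l ∉ S ∧ k ≠ l
    · obtain ⟨l, hlS, hkl⟩ := hl
      obtain ⟨g, hg, h1, h2⟩ := exists_move S hkS hlS hkl hj hT
      have hfix : ∀ s ∈ insert k S, (g⁻¹ * A).1 *ᵥ ev s = ev s := by
        intro s hs
        rw [sl_mulVec_mul]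
        rcases Finset.mem_insert.mp hs with rfl | hs
        · rw [← h1, sl_inv_mulVec]
        · rw [hA s hs]
          conv_lhs => rw [← h2 s hs]
          rw [sl_inv_mulVec]
      have := ih (insert k S) (fun i j hij hjS => hT i j hij fun e => hjS (Finset.mem_insert_of_mem e)) _ hfix (by
        rw [Finset.compl_insert, Finset.card_erase_of_mem hk, hc]; rfl)
      simpa using mul_mem hg this
    · push Not at hl
      set v := A.1 *ᵥ ev k with hv
      have hA' : A.1 = (1 : Matrix (Fin n) (Fin n) F).updateCol k v := by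
        refine Matrix.ext_of_mulVec_single fun b => ?_
        rw [mulVec_single_one, mulVec_single_one]
        funext x
        by_cases hb : b = k
        · subst hb; simp [hv]
        · have hbS : b ∈ S := by_contra fun h => hb (hl b h).symm
          have := congrFun (hA b hbS) x
          simp [Matrix.updateCol_apply, hb, Matrix.one_apply, Pi.single_apply] at this ⊢
          exact this
      have hvk : v k = 1 := by
        have h1 := A.2
        rw [hA', ← Matrix.cramer_apply, Matrix.cramer_one] at h1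
        simpa using h1
      obtain ⟨g, hg, h1, h2⟩ := exists_col k v (Finset.univ.erase k) (by simp)
        (fun i hi => hT i k (Finset.ne_of_mem_erase hi) hkS)
      have : g = A := sl_ext fun b => by
        by_cases hb : b = k
        · subst hb; rw [h1, sum_ev_erase]; exact Function.update_eq_self_iff.mpr hvk.symm
        · rw [h2 b hb, hA b (by_contra fun h => hb (hl b h).symm)]
      exact this ▸ hg

/-- Lower unitriangular. -/
def IsLow (A : SL) : Prop := ∀ i j, i ≤ j → A.1 i j = if i = j then 1 else 0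

theorem low_mem {K : Subgroup SL} (hT : ∀ i j : Fin n, j < i → ∀ t, T i j t ∈ K) (A : SL) (hA : IsLow A) :
    A ∈ K := by
  classical
  suffices key : ∀ (d : ℕ) (A : SL), IsLow A → (∀ k : Fin n, k.1 + d < n → A.1 *ᵥ ev k = ev k) → A ∈ K from
    key n A hA fun k hk => absurd hk (by omega)
  intro d
  induction d with
  | zero =>
    intro A _ h
    have : A = 1 := sl_ext fun k => by rw [h k (by simp [k.2])]; exact (one_mulVec _).symm
    rw [this]; exact one_mem K
  | succ d ih =>
    intro A hA h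
    by_cases hd : d < n
    · set k : Fin n := ⟨n - (d + 1), by omega⟩ with hk
      obtain ⟨g, hg, h1, h2⟩ := exists_col k (fun i => A.1 i k) (Finset.Ioi k) (by simp)
        (fun i hi => hT i k (by simpa using hi))
      have hcol : g.1 *ᵥ ev k = A.1 *ᵥ ev k := by
        rw [h1, mulVec_single_one]
        funext x
        simp only [Pi.add_apply, Finset.sum_apply, Pi.smul_apply, smul_eq_mul, ev, Pi.single_apply,
          Matrix.col_apply]
        rcases lt_trichotomy x k with hx | hx | hx
        · rw [Finset.sum_eq_zero, hA x k hx.le, if_neg hx.ne]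
          · simp [hx.ne]
          · intro i hi; simp [(hx.trans (Finset.mem_Ioi.mp hi)).ne]
        · subst hx
          rw [Finset.sum_eq_zero, hA _ _ le_rfl]
          · simp
          · intro i hi; simp [(Finset.mem_Ioi.mp hi).ne]
        · rw [Finset.sum_eq_single x] <;> simp +contextual [hx, hx.ne', eq_comm]
      have hginv : ∀ l, l ≠ k → (g⁻¹).1 *ᵥ ev l = ev l := fun l hl => by
        conv_lhs => rw [← h2 l hl]
        rw [sl_inv_mulVec]
      have hcolA : ∀ b, b ≠ k → (g⁻¹ * A).1 *ᵥ ev b = A.1 *ᵥ ev b + (A.1 k b) • ((g⁻¹).1 *ᵥ ev k - ev k) := by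
        intro b _
        rw [sl_mulVec_mul]
        have e : A.1 *ᵥ ev b = ∑ x, A.1 x b • ev x := by
          funext y; simp [mulVec_single_one, Finset.sum_apply, Pi.single_apply]
        rw [e, mulVec_sum, ← Finset.add_sum_erase _ _ (Finset.mem_univ k),
          ← Finset.add_sum_erase _ (fun x => A.1 x b • ev x) (Finset.mem_univ k), mulVec_smul,
          Finset.sum_congr rfl fun x hx => by
            rw [mulVec_smul, hginv x (Finset.ne_of_mem_erase hx)], smul_sub]
        abel
      have hk0 : (g⁻¹ * A).1 *ᵥ ev k = ev k := by rw [sl_mulVec_mul, ← hcol, sl_inv_mulVec]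
      have hlow : IsLow (g⁻¹ * A) := by
        intro i j hij
        by_cases hjk : j = k
        · have := congrFun hk0 i
          subst hjk
          rw [mulVec_single_one] at this
          simpa [Pi.single_apply] using this
        · have hz : A.1 k j = 0 ∨ k.1 > j.1 := by
            rcases le_or_gt k j with h' | h'
            · exact Or.inl (by rw [hA k j h', if_neg (Ne.symm hjk)])
            · exact Or.inr h'
          rcases hz with hz | hz
          · have := congrFun (hcolA j hjk) i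
            rw [hz, zero_smul, add_zero, mulVec_single_one, mulVec_single_one] at this
            simpa [Matrix.col_apply] using this.trans (hA i j hij)
          · have hj := h j (by simp [hk] at hz; omega)
            have := congrFun (show (g⁻¹ * A).1 *ᵥ ev j = ev j by rw [sl_mulVec_mul, hj, hginv j hjk]) i
            rw [mulVec_single_one] at this
            simpa [Pi.single_apply] using this
      have := ih (g⁻¹ * A) hlow fun l hl => by
        by_cases hlk : l = k
        · rw [hlk, hk0]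
        · have hl' : l.1 + (d + 1) < n := by
            have : l.1 ≠ k.1 := fun e => hlk (Fin.ext e)
            simp [hk] at this; omega
          rw [sl_mulVec_mul, h l hl', hginv l hlk]
      simpa using mul_mem hg this
    · exact ih A hA fun k hk => absurd hk (by omega)

/-- Lower transvections and adjacent Weyl elements generate. -/
theorem eq_top_of_low {K : Subgroup SL} (hT : ∀ i j : Fin n, j < i → ∀ t, T i j t ∈ K)
    (hW : ∀ i j : Fin n, i.1 = j.1 + 1 → W i j ∈ K) : K = ⊤ := by
  have hup : ∀ (d : ℕ) (i j : Fin n), i.1 + (d + 1) = j.1 → ∀ t, T i j t ∈ K := by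
    intro d
    induction d with
    | zero =>
      intro i j h t
      have hji : j ≠ i := fun e => by rw [e] at h; omega
      have h1 := mul_mem (mul_mem (hW j i h.symm) (hT j i (Fin.lt_def.mpr (by omega)) (-t))) (inv_mem (hW j i h.symm))
      rw [(W_mono hji).conj_T hji, Equiv.swap_apply_left, Equiv.swap_apply_right, if_pos rfl, if_neg hji.symm] at h1
      simpa using h1
    | succ d ih =>
      intro i j h t
      have hk : i.1 + 1 < n := by have := j.2; omega
      set k : Fin n := ⟨i.1 + 1, hk⟩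
      have hik : i ≠ k := fun e => by simpa [k] using congrArg Fin.val e
      have hkj : k ≠ j := fun e => by have := congrArg Fin.val e; simp [k] at this; omega
      have hij : i ≠ j := fun e => by rw [e] at h; omega
      have e := T_comm hik hkj hij (1 : F) t
      rw [one_mul] at e
      rw [← e, commutatorElement_def]
      have a1 : T i k (1 : F) ∈ K := by
        have h1 := mul_mem (mul_mem (hW k i rfl) (hT k i (Fin.lt_def.mpr (by simp [k])) (-1)))
          (inv_mem (hW k i rfl))
        rw [(W_mono hik.symm).conj_T hik.symm, Equiv.swap_apply_left, Equiv.swap_apply_right, if_pos rfl,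
          if_neg hik] at h1
        simpa using h1
      have a2 := ih k j (by simp [k]; omega) t
      exact mul_mem (mul_mem (mul_mem a1 a2) (inv_mem a1)) (inv_mem a2)
  refine LinearGroup.eq_top_of_transvection_mem fun i j hij c => ?_
  rw [← T_of_ne hij]
  rcases lt_or_gt_of_ne hij with h | h
  · exact hup (j.1 - i.1 - 1) i j (by have := Fin.lt_def.mp h; omega) c
  · exact hT i j h c

end Cfsg.Agent.KSG55.Om
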