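import Cfsg.Agent.KSG55.Om.Bruhat
import Cfsg.Agent.KSG55.Om.Gen
import Cfsg.Agent.KSG55.Om.LGen
import Cfsg.Agent.KSG55.SLn.Cases
import Cfsg.Agent.KSG55.Lin.Quot

set_option autoImplicit false

/-! The presentation of the commutator subgroup. -/

namespace Cfsg.Agent.KSG55.Om

open Matrix Cfsg.Agent.CharB.PSLMult Cfsg.Agent.KSG55.Lin Cfsg.Agent.KSG55.Pres Cfsg.Agent.ClassMult
open Cfsg.Agent.UnitaryOrthogonal

variable {F : Type*} [Field F] [Finite F] {m : ℕ}

local notation "SL" => SpecialLinearGroup (Fin (m + 4)) F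
local notation "Ix" => Fin (m + 4)
local notation "Q₊" => hypSum (m + 4) (zeroForm F)
local notation "levF" => (levP : SL →* orth (hypSum (m + 4) (zeroForm F)))

omit [Finite F] in
theorem zM_comm_T {i j : Ix} (hij : i ≠ j) (hb : SameBlk i j) (t : F) :
    Commute (zM (F := F) (m := m)) (levP (T i j t : SL)) := by
  refine orth_ext fun ⟨⟨x, y⟩, u⟩ => ?_
  simp only [coe_mul_apply, zM_apply, levP_T hij]
  rcases Data.blk_cases i with hi | ⟨hi0, hi1⟩
  · rcases hi with rfl | rfl <;> rcases hb.mp (by simp) with rfl | rfl <;>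
      first
      | exact absurd rfl hij
      | (refine Prod.ext (Prod.ext ?_ ?_) rfl <;> funext k <;>
          (by_cases h0 : k = 0
           · subst h0; simp [zf, T_mulVec, ne01, ne01.symm] <;> ring
           by_cases h1 : k = 1
           · subst h1; simp [zf, T_mulVec, ne01, ne01.symm] <;> ring
           simp [zf, T_mulVec, ne01, ne01.symm, h0, h1]))
  · have hj := fun h => (not_or.mpr ⟨hi0, hi1⟩) (hb.mpr h)
    have hj0 : j ≠ 0 := fun e => hj (Or.inl e)
    have hj1 : j ≠ 1 := fun e => hj (Or.inr e)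
    refine Prod.ext (Prod.ext ?_ ?_) rfl <;> funext k <;>
      (by_cases h0 : k = 0
       · subst h0; simp [zf, T_mulVec, hij, hij.symm, hi0, hi1, hj0, hj1, hi0.symm, hi1.symm, hj0.symm, hj1.symm]
       by_cases h1 : k = 1
       · subst h1; simp [zf, T_mulVec, hij, hij.symm, hi0, hi1, hj0, hj1, hi0.symm, hi1.symm, hj0.symm, hj1.symm]
       simp [zf, T_mulVec, hij, hij.symm, hi0, hi1, hj0, hj1, h0, h1])

/-- The relations hold in the model. -/
theorem model_rels : Rels ⇑levF (zM (F := F) (m := m)) where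
  comm i j hij hb t := zM_comm_T hij hb t
  sq := zM_sq
  braid := zM_braid
  seedA := by
    have e : Ve (⇑levF) (zM (F := F) (m := m)) (1 : F) = sgP (xA 1 2 1) := by
      rw [Ve, zM_T20, mul_inv_cancel_right]
    rw [e]
    have h := (datumPlus (F := F) (l := m + 4)).rel (T 1 2 (1 : F)) (xA 1 2 1)
    rw [cg_T_self ne12, mul_inv_eq_iff_eq_mul] at h
    exact h.symm
  seedB := by
    have e : Ve (⇑levF) (zM (F := F) (m := m)) (1 : F) = sgP (xA 1 2 1) := by
      rw [Ve, zM_T20, mul_inv_cancel_right]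
    rw [e]
    have h := (datumPlus (F := F) (l := m + 4)).rel (T 0 3 (1 : F)) (xA 1 2 1)
    rw [cg_T_fix ne13.symm ne23.symm, mul_inv_eq_iff_eq_mul] at h
    exact h.symm

omit [Finite F] in
theorem Rels.of_inj {G G' : Type*} [Group G] [Group G'] (f : G →* G') (hf : Function.Injective f)
    {θ : SL → G} {z : G} {θ' : SL → G'} {z' : G'} (hθ : ∀ A, f (θ A) = θ' A) (hz : f z = z') (h : Rels θ' z') :
    Rels θ z where
  comm i j hij hb t := hf (by rw [map_mul, map_mul, hz, hθ]; exact h.comm i j hij hb t)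
  sq := hf (by rw [map_mul, hz, hθ]; exact h.sq)
  braid := hf (by simp only [map_mul, hz, hθ]; exact h.braid)
  seedA := hf (by simp only [Ve, map_mul, map_inv, hz, hθ]; exact h.seedA)
  seedB := hf (by simp only [Ve, map_mul, map_inv, hz, hθ]; exact h.seedB)

/-- The generated subgroup. -/
def KG (F : Type*) [Field F] (m : ℕ) : Subgroup (orth (hypSum (m + 4) (zeroForm F))) :=
  Subgroup.closure (Set.range (levP : SpecialLinearGroup (Fin (m + 4)) F →* _) ∪ {zM})

theorem KG_eq : KG F m = commutator (orth Q₊) := by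
  let θK : SL →* KG F m := (levF).codRestrict _ fun A => Subgroup.subset_closure (Or.inl ⟨A, rfl⟩)
  let zK : KG F m := ⟨zM, Subgroup.subset_closure (Or.inr rfl)⟩
  let D : Data F m (KG F m) :=
    ⟨θK, zK, Rels.of_inj (KG F m).subtype Subtype.val_injective (fun _ => rfl) rfl model_rels⟩
  let M : Mdl D := ⟨(KG F m).subtype, fun _ => rfl, rfl⟩
  have hgen : Subgroup.closure (Set.range D.θ ∪ {D.z}) = ⊤ := by
    apply Subgroup.map_injective (f := (KG F m).subtype) Subtype.val_injective
    rw [MonoidHom.map_closure, ← MonoidHom.range_eq_map, Subgroup.range_subtype]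
    show _ = Subgroup.closure _
    congr 1
    rw [Set.image_union, Set.image_singleton, ← Set.range_comp]
    rfl
  have := M.range_eq hgen
  rwa [show M.φ.range = KG F m from Subgroup.range_subtype _] at this

/-- The cycle lifts into the stabiliser of the crossed element. -/
theorem exists_M : ∃ (M : SL) (c : Ix → F), Mono M (σR m) c ∧ Commute (zM (F := F) (m := m)) (levP M) := by
  obtain ⟨M, hM, c, hc⟩ := exists_mono (K := (Subgroup.centralizer {zM (F := F) (m := m)}).comap levF) {0, 1}
    (fun p q hpq hp hq => by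
      simp only [Finset.mem_insert, Finset.mem_singleton, not_or] at hp hq
      have hb := Data.sameBlk_of_rest hp.1 hp.2 hq.1 hq.2
      refine W_mem (fun t => ?_) (fun t => ?_) <;>
        rw [Subgroup.mem_comap, Subgroup.mem_centralizer_singleton_iff]
      · exact (zM_comm_T hpq hb t).symm.eq
      · exact (zM_comm_T hpq.symm hb.symm t).symm.eq) (σR m) (fun s hs => by
      simp only [Finset.mem_insert, Finset.mem_singleton] at hs
      rcases hs with rfl | rfl <;> exact σR_blk (by simp))
  rw [Subgroup.mem_comap, Subgroup.mem_centralizer_singleton_iff] at hM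
  exact ⟨M, c, hc, hM.symm⟩

/-- The seeds. -/
def seeds (F : Type*) [Field F] (m : ℕ) : List (SpecialLinearGroup (Fin (m + 4)) F) :=
  if 1 ≤ m then [T 1 2 1 * T 0 3 1] else [T 1 2 1, T 0 3 1]

theorem seeds_length : (seeds F m).length = if 1 ≤ m then 1 else 2 := by
  unfold seeds; split_ifs <;> rfl

set_option maxHeartbeats 1000000 in
/-- The glued presentation. -/
theorem presOn_omega {a : Fˣ} (ha : ∀ x : Fˣ, x ∈ Submonoid.powers a) {k r : ℕ} {gensθ : Fin k → SL}
    (hθ : PresOn gensθ r) :
    ∃ gens : Fin (k + 1) → ↥(commutator (orth Q₊)), PresOn gens (r + 5 + if 1 ≤ m then 1 else 2) := by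
  classical
  obtain ⟨Lθ, hLθ, hLθrel, hLθtop, hLθhom⟩ := hθ.exists_hom
  obtain ⟨M, cM, hM, hzM⟩ := exists_M (F := F) (m := m)
  set C := commutator (orth Q₊)
  let gensN : Fin (k + 1) → C :=
    Fin.snoc (fun i => ⟨levP (gensθ i), levP_mem (by omega) _⟩) ⟨zM, zM_mem⟩
  refine ⟨gensN, ?_⟩
  let cθ : FreeGroup (Fin k) →* FreeGroup (Fin (k + 1)) := FreeGroup.map Fin.castSucc
  have hwθ : ∀ x, ∃ W, FreeGroup.lift gensθ W = x := fun x => by
    rw [← MonoidHom.mem_range, FreeGroup.range_lift_eq_closure, hLθtop]; trivial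
  choose Wθ hWθ using hwθ
  let zθ : SL → FreeGroup (Fin (k + 1)) := fun x => cθ (Wθ x)
  let zw : FreeGroup (Fin (k + 1)) := FreeGroup.of (Fin.last k)
  let gs : List SL := [T 0 1 1 * dg 2 3 a.ne_zero, W 0 1 * M, T 2 3 1 * dg 0 1 a.ne_zero]
  let Vw : FreeGroup (Fin (k + 1)) := zw * zθ (T 2 0 1) * zw⁻¹
  let rels := Lθ.map cθ ++ gs.map (fun g => zw * zθ g * (zθ g * zw)⁻¹) ++
    [zw * zw * (zθ (dg 0 1 negone_ne))⁻¹, zw * zθ wE * zw * (zθ wE * zw * zθ wE)⁻¹] ++
    (seeds F m).map (fun g => Vw * zθ g * (zθ g * Vw)⁻¹)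
  have hlen : rels.length ≤ r + 5 + (if 1 ≤ m then 1 else 2) := by
    simp only [rels, gs, List.length_append, List.length_map, List.length_cons, List.length_nil, seeds_length]
    omega
  -- evaluation in the ambient group
  set liftO := C.subtype.comp (FreeGroup.lift gensN)
  have ez : liftO zw = zM := by simp [liftO, zw, gensN]
  have eθ : ∀ x, liftO (zθ x) = levP x := fun x => by
    conv_rhs => rw [← hWθ x]
    exact DFunLike.congr_fun (FreeGroup.ext_hom (liftO.comp cθ) ((levF).comp (FreeGroup.lift gensθ))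
      fun i => by simp [liftO, cθ, gensN]) (Wθ x)
  have hR := model_rels (F := F) (m := m)
  refine presOn_of_inj gensN rels hlen ?_ ?_ ?_
  · intro w hw
    apply Subtype.val_injective
    show liftO w = 1
    simp only [rels, List.mem_append, List.mem_map, List.mem_cons, List.not_mem_nil, or_false] at hw
    rcases hw with ((⟨w, hw, rfl⟩ | ⟨g, hg, rfl⟩) | (rfl | rfl)) | ⟨g, hg, rfl⟩
    · have e := DFunLike.congr_fun (FreeGroup.ext_hom (liftO.comp cθ) ((levF).comp (FreeGroup.lift gensθ))
        fun i => by simp [liftO, cθ, gensN]) w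
      simp only [MonoidHom.comp_apply] at e
      rw [e, hLθrel w hw, map_one]
    · simp only [map_mul, map_inv, ez, eθ, mul_inv_eq_one]
      let K : Subgroup SL := (Subgroup.centralizer {zM (F := F) (m := m)}).comap levF
      have hT : ∀ {i j : Ix}, i ≠ j → SameBlk i j → ∀ t, T i j t ∈ K := fun {i j} hij hb t => by
        rw [Subgroup.mem_comap, Subgroup.mem_centralizer_singleton_iff]; exact (zM_comm_T hij hb t).symm.eq
      have b01 : SameBlk (0 : Ix) 1 := by simp [SameBlk]
      have b23 : SameBlk (2 : Ix) 3 := Data.sameBlk_of_rest ne02.symm ne12.symm ne03.symm ne13.symm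
      have hdg : ∀ {i j : Ix}, i ≠ j → SameBlk i j → ∀ {x : F} (hx : x ≠ 0), dg i j hx ∈ K := fun {i j} hij hb {x} hx =>
        dg_mem hij (hT hij hb) (hT hij.symm hb.symm) hx
      have hMK : M ∈ K := by
        rw [Subgroup.mem_comap, Subgroup.mem_centralizer_singleton_iff]; exact hzM.symm.eq
      have : g ∈ K := by
        simp only [gs, List.mem_cons, List.not_mem_nil, or_false] at hg
        rcases hg with rfl | rfl | rfl
        · exact mul_mem (hT ne01 b01 1) (hdg ne23 b23 _)
        · exact mul_mem (W_mem (hT ne01 b01) (hT ne01.symm b01.symm)) hMK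
        · exact mul_mem (hT ne23 b23 1) (hdg ne01 b01 _)
      rw [Subgroup.mem_comap, Subgroup.mem_centralizer_singleton_iff] at this
      exact this.symm
    · simp only [map_mul, map_inv, ez, eθ, mul_inv_eq_one]
      exact hR.sq
    · simp only [map_mul, map_inv, ez, eθ, mul_inv_eq_one]
      exact hR.braid
    · simp only [Vw, map_mul, map_inv, ez, eθ, mul_inv_eq_one]
      have h12 : Commute (Ve (⇑levF) (zM (F := F) (m := m)) 1) (levP g) := by
        unfold seeds at hg
        split_ifs at hg <;> simp only [List.mem_cons, List.not_mem_nil, or_false] at hg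
        · subst hg; rw [map_mul]; exact hR.seedA.mul_right hR.seedB
        · rcases hg with rfl | rfl
          exacts [hR.seedA, hR.seedB]
      exact h12.eq
  · rw [eq_top_iff]
    intro x _
    have hx : x.1 ∈ KG F m := by rw [KG_eq]; exact x.2
    have hle : KG F m ≤ (Subgroup.closure (Set.range gensN)).map C.subtype := by
      rw [KG, Subgroup.closure_le]
      rintro _ (⟨A, rfl⟩ | rfl)
      · rw [← eθ A]
        exact ⟨FreeGroup.lift gensN (zθ A), by rw [← FreeGroup.range_lift_eq_closure]; exact ⟨_, rfl⟩, rfl⟩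
      · exact ⟨gensN (Fin.last k), Subgroup.subset_closure ⟨_, rfl⟩, by simp [gensN]⟩
    obtain ⟨y, hy, e⟩ := hle hx
    rwa [← Subtype.ext (show y.1 = x.1 from e)]
  intro H _ U φ hU hrel hφ x hx
  have hliftθ : ∀ w, FreeGroup.lift (fun i : Fin k => U i.castSucc) w = FreeGroup.lift U (cθ w) := fun w =>
    DFunLike.congr_fun (FreeGroup.ext_hom _ ((FreeGroup.lift U).comp cθ) fun i => by simp [cθ]) w
  obtain ⟨θ, hθg⟩ := hLθhom H (fun i => U i.castSucc) fun w hw => by
    rw [hliftθ]
    exact hrel _ (List.mem_append_left _ (List.mem_append_left _ (List.mem_append_left _ (List.mem_map_of_mem hw))))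
  have hθw : ∀ x, FreeGroup.lift U (zθ x) = θ x := fun x => by
    conv_rhs => rw [← hWθ x]
    show FreeGroup.lift U (cθ (Wθ x)) = _
    rw [← hliftθ]
    exact (DFunLike.congr_fun (FreeGroup.ext_hom (θ.comp (FreeGroup.lift gensθ))
      (FreeGroup.lift fun i => U i.castSucc) fun i => by simp [hθg]) (Wθ x)).symm
  set z := U (Fin.last k)
  have hzw : FreeGroup.lift U zw = z := FreeGroup.lift_apply_of
  have hg : ∀ g ∈ gs, Commute z (θ g) := fun g hg => by
    have h := hrel _ (List.mem_append_left _ (List.mem_append_left _ (List.mem_append_right _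
      (List.mem_map_of_mem (f := fun g => zw * zθ g * (zθ g * zw)⁻¹) hg))))
    simp only [map_mul, map_inv, hzw, hθw, mul_inv_eq_one] at h
    exact h
  have hsd : ∀ g ∈ seeds F m, Commute (Ve θ z 1) (θ g) := fun g hg => by
    have h := hrel _ (List.mem_append_right _ (List.mem_map_of_mem (f := fun g => Vw * zθ g * (zθ g * Vw)⁻¹) hg))
    simp only [Vw, map_mul, map_inv, hzw, hθw, mul_inv_eq_one] at h
    exact h
  have hsq : z * z = θ (dg 0 1 negone_ne) := by
    have h := hrel (zw * zw * (zθ (dg 0 1 negone_ne))⁻¹) (by simp [rels])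
    simp only [map_mul, map_inv, hzw, hθw, mul_inv_eq_one] at h
    exact h
  have hbraid : z * θ wE * z = θ wE * z * θ wE := by
    have h := hrel (zw * zθ wE * zw * (zθ wE * zw * zθ wE)⁻¹) (by simp [rels])
    simp only [map_mul, map_inv, hzw, hθw, mul_inv_eq_one] at h
    exact h
  have R : Rels ⇑θ z := rels_mk θ z ha hM (hg _ (by simp [gs])) (hg _ (by simp [gs])) (hg _ (by simp [gs])) hsq hbraid
    (fun h1 => hsd _ (by simp [seeds, h1]))
    (fun h0 => ⟨hsd _ (by simp [seeds, h0]), hsd _ (by simp [seeds, h0])⟩)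
  let D : Data F m H := ⟨θ, z, R⟩
  let Md : Mdl D :=
    { φ := C.subtype.comp φ
      hθ := fun A => by
        refine DFunLike.congr_fun (MonoidHom.eq_of_eqOn_dense hLθtop (f := (C.subtype.comp φ).comp θ) (g := levF) ?_) A
        rintro _ ⟨i, rfl⟩
        simp [hθg, hφ, gensN]
      hz := by simp [D, z, hφ, gensN] }
  have hgen : Subgroup.closure (Set.range D.θ ∪ {D.z}) = ⊤ := by
    rw [eq_top_iff, ← hU, Subgroup.closure_le]
    rintro _ ⟨i, rfl⟩
    induction i using Fin.lastCases with
    | last => exact Subgroup.subset_closure (Or.inr rfl)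
    | cast i => exact Subgroup.subset_closure (Or.inl ⟨gensθ i, hθg i⟩)
  refine Md.injective hgen ?_
  show C.subtype (φ x) = C.subtype (φ 1)
  rw [hx, map_one φ]

theorem omega_center_gen : ∃ z : ↥(commutator (orth Q₊)),
    Subgroup.center ↥(commutator (orth Q₊)) = Subgroup.normalClosure {z} := by
  classical
  set C := commutator (orth Q₊)
  have hpm : ∀ g : C, g ∈ Subgroup.center C → g.1 = 1 ∨ g.1 = negOne Q₊ := by
    intro g hg
    let e := hypSumTwo (zeroForm F) (m + 2)
    have hB := base_zeroForm (F := F)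
    have hMn := hB.nd.hypSum (m + 2)
    have hex := exists_hypSum_ne_zero (Q := zeroForm F) (m + 2) (Or.inl (by omega))
    have hmem : ∀ x ∈ C, orthCongr e x ∈ eichGroup (hyp (hyp (hypSum (m + 2) (zeroForm F)))) := fun x hx => by
      have : C = eichGroup Q₊ := commutator_eq
      exact mem_eichGroup_congr e (this ▸ hx)
    have hc : (⟨orthCongr e g.1, hmem _ g.2⟩ : eichGroup (hyp (hyp (hypSum (m + 2) (zeroForm F))))) ∈
        Subgroup.center _ := by
      refine Subgroup.mem_center_iff.2 fun k => Subtype.ext ?_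
      obtain ⟨y, hy, hyk⟩ : k.1 ∈ (eichGroup Q₊).map (orthCongr e).toMonoidHom := by
        rw [eichGroup_map]; exact k.2
      show k.1 * orthCongr e g.1 = orthCongr e g.1 * k.1
      rw [← hyk]
      show orthCongr e y * orthCongr e g.1 = orthCongr e g.1 * orthCongr e y
      rw [← map_mul, ← map_mul]
      have hyC : y ∈ C := by rw [show C = eichGroup Q₊ from commutator_eq]; exact hy
      exact congrArg (orthCongr e) (congrArg Subtype.val (Subgroup.mem_center_iff.1 hg ⟨y, hyC⟩))
    obtain ⟨c, hc2, hcv⟩ := eq_smul_of_fixesPoints ((mem_center_eichGroup hMn hex).1 hc)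
    have hgv : ∀ v, g.1.1 v = c • v := fun v => by
      have := hcv (e v)
      rw [orthCongr_apply] at this
      exact e.toLinearEquiv.injective (by rw [map_smul]; exact this)
    rcases mul_self_eq_one_iff.mp hc2 with rfl | rfl
    · exact Or.inl (orth_ext fun v => by rw [hgv, one_smul]; rfl)
    · exact Or.inr (orth_ext fun v => by rw [hgv, negOne_apply, neg_one_smul])
  by_cases h : ∃ g : C, g ∈ Subgroup.center C ∧ g ≠ 1
  · obtain ⟨z, hz, hz1⟩ := h
    refine ⟨z, le_antisymm (fun g hg => ?_) (Subgroup.normalClosure_le_normal (Set.singleton_subset_iff.mpr hz))⟩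
    by_cases hg1 : g = 1
    · rw [hg1]; exact one_mem _
    have hz' : z.1 = negOne Q₊ := (hpm z hz).resolve_left fun e => hz1 (Subtype.ext e)
    have hg' : g.1 = negOne Q₊ := (hpm g hg).resolve_left fun e => hg1 (Subtype.ext e)
    rw [show g = z from Subtype.ext (hg'.trans hz'.symm)]
    exact Subgroup.subset_normalClosure (Set.mem_singleton _)
  · push Not at h
    refine ⟨1, le_antisymm (fun g hg => ?_) (Subgroup.normalClosure_le_normal (Set.singleton_subset_iff.mpr (one_mem _)))⟩
    rw [h g hg]; exact one_mem _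

/-- Transfer along an isomorphism. -/
theorem pres_both {A B : Type*} [Group A] [Group B] (e : A ≃* B) {k r : ℕ} {gens : Fin k → A} (h : PresOn gens r)
    {z : A} (hz : Subgroup.center A = Subgroup.normalClosure {z}) :
    (∃ rels : Finset (FreeGroup (Fin k)), rels.card ≤ r ∧
      Nonempty (PresentedGroup (↑rels : Set (FreeGroup (Fin k))) ≃* B)) ∧
    ∃ rels : Finset (FreeGroup (Fin k)), rels.card ≤ r + 1 ∧
      Nonempty (PresentedGroup (↑rels : Set (FreeGroup (Fin k))) ≃* B ⧸ Subgroup.center B) := by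
  refine ⟨(h.map e).exists_iso, ((h.quotient (Subgroup.center A) z hz).map
    (QuotientGroup.congr (Subgroup.center A) (Subgroup.center B) e ?_)).exists_iso⟩
  refine le_antisymm (Subgroup.map_le_iff_le_comap.mpr fun x hx => Subgroup.mem_center_iff.mpr fun y => ?_)
    (fun x hx => ⟨e.symm x, Subgroup.mem_center_iff.mpr fun y => ?_, e.apply_symm_apply x⟩)
  · obtain ⟨y, rfl⟩ := e.surjective y
    show e y * e x = e x * e y
    rw [← map_mul, ← map_mul, Subgroup.mem_center_iff.mp hx y]
  · obtain ⟨y, rfl⟩ := e.symm.surjective y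
    rw [← map_mul, ← map_mul, Subgroup.mem_center_iff.mp hx y]

/-- Transfer to the standard group. -/
theorem omega_pres {k r : ℕ} {gens : Fin k → ↥(commutator (orth Q₊))} (h : PresOn gens r) :
    (∃ rels : Finset (FreeGroup (Fin k)), rels.card ≤ r ∧
      Nonempty (PresentedGroup (↑rels : Set (FreeGroup (Fin k))) ≃* ↥(Cfsg.Omega F (Cfsg.quadFormPlus (m + 4) F)))) ∧
    ∃ rels : Finset (FreeGroup (Fin k)), rels.card ≤ r + 1 ∧
      Nonempty (PresentedGroup (↑rels : Set (FreeGroup (Fin k))) ≃* Cfsg.POmega F (Cfsg.quadFormPlus (m + 4) F)) := by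
  let E := plusEquiv (m + 4) F
  have hmap : (commutator (Cfsg.isometryGroup F (Cfsg.quadFormPlus (m + 4) F))).map E.toMonoidHom =
      commutator (orth Q₊) := by
    rw [_root_.commutator_def, _root_.commutator_def, Subgroup.map_commutator,
      Subgroup.map_top_of_surjective _ E.surjective]
  let eC : ↥(Cfsg.Omega F (Cfsg.quadFormPlus (m + 4) F)) ≃* ↥(commutator (orth Q₊)) :=
    (E.subgroupMap _).trans (MulEquiv.subgroupCongr hmap)
  obtain ⟨z, hz⟩ := omega_center_gen (F := F) (m := m)
  exact pres_both eC.symm h hz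

theorem gen_powers : ∃ a : Fˣ, ∀ x : Fˣ, x ∈ Submonoid.powers a := by
  obtain ⟨a, ha⟩ := IsCyclic.exists_generator (α := Fˣ)
  exact ⟨a, fun x => mem_powers_iff_mem_zpowers.mpr (ha x)⟩

theorem omega_eight (hn : 2 ≤ m) :
    ∃ gens : Fin 8 → ↥(commutator (orth Q₊)), PresOn gens 31 := by
  haveI := Fintype.ofFinite F
  obtain ⟨a, ha⟩ := gen_powers (F := F)
  obtain ⟨g, hg⟩ := SLn.slots_seven (F := F) (n := m + 4) (by omega)
  obtain ⟨g', hg'⟩ := presOn_omega ha hg
  exact ⟨g', hg'.mono (by rw [if_pos (by omega)])⟩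

theorem omega_small (hn : m ≤ 1) :
    ∃ gens : Fin 8 → ↥(commutator (orth Q₊)), PresOn gens 29 := by
  haveI := Fintype.ofFinite F
  obtain ⟨a, ha⟩ := gen_powers (F := F)
  obtain ⟨g, hg⟩ := SLn.slots_six (F := F) (n := m + 4) (by omega)
  obtain ⟨g1, hg1⟩ := SLn.add_one hg
  obtain ⟨g', hg'⟩ := presOn_omega ha hg1
  refine ⟨g', hg'.mono ?_⟩
  split_ifs <;> omega

end Cfsg.Agent.KSG55.Om
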