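import Cfsg.Agent.KSG55.Om.Sigma

set_option autoImplicit false

/-! The root subgroups and their permutation by the monomial elements. -/

namespace Cfsg.Agent.KSG55.Om

open Matrix Cfsg.Agent.CharB.PSLMult Cfsg.Agent.KSG55.Lin Cfsg.Agent.ClassMult

variable {F : Type*} [Field F] {m : ℕ}

local notation "SL" => SpecialLinearGroup (Fin (m + 4)) F

theorem τ_τ (A : SL) : τ (τ A) = A := by
  let K : Subgroup SL :=
    { carrier := {A | τ (τ A) = A}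
      one_mem' := by simp
      mul_mem' := fun {A B} (hA : τ (τ A) = A) (hB : τ (τ B) = B) => by
        show τ (τ (A * B)) = A * B
        rw [map_mul, map_mul, hA, hB]
      inv_mem' := fun {A} (hA : τ (τ A) = A) => by
        show τ (τ A⁻¹) = A⁻¹
        rw [map_inv, map_inv, hA] }
  have : K = ⊤ := LinearGroup.eq_top_of_transvection_mem fun i j hij c => by
    rw [← T_of_ne hij]
    show τ (τ (T i j c)) = _
    rw [τ_T hij, τ_T hij.symm, neg_neg]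
  exact (this ▸ Subgroup.mem_top A : A ∈ K)

theorem τ_mono {A : SL} {σ : Equiv.Perm (Fin (m + 4))} {c : Fin (m + 4) → F} (h : Mono A σ c) :
    Mono (τ A) σ (fun k => (c k)⁻¹) := fun k => by
  funext l
  show ((A⁻¹).1ᵀ *ᵥ ev k) l = _
  have e : (A⁻¹).1 k l = ((A⁻¹).1 *ᵥ ev l) k := by rw [mulVec_single_one]; rfl
  rw [mulVec_single_one]
  show (A⁻¹).1 k l = _
  rw [e, h.inv l]
  by_cases hl : l = σ k
  · subst hl; simp
  · have : k ≠ σ.symm l := fun e => hl (by rw [e]; simp)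
    simp [hl, this]

namespace Fam

variable {G : Type*} [Group G] (D : Fam F m G)

theorem coef (i j : Fin (m + 4)) (c d : F) : D.B (c • ev i) (d • ev j) = D.B ((c * d) • ev i) (ev j) := by
  rcases eq_or_ne d 0 with rfl | hd
  · rw [zero_smul, mul_zero, zero_smul, D.B_zero, D.B_zero_right]
  · rw [← D.B_scale hd (c • ev i) (d • ev j), inv_smul_smul₀ hd, smul_smul, mul_comm]

theorem ij_swap (i j : Fin (m + 4)) (a : F) : D.B (a • ev i) (ev j) = D.B ((-a) • ev j) (ev i) := by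
  rw [← D.B_swap (a • ev i) (ev j), ← neg_smul]
  have := D.coef j i 1 (-a)
  rwa [one_smul, one_mul] at this

theorem neg_left (i j : Fin (m + 4)) (a c : F) :
    D.B (-(a • ev i)) (c • ev j) = D.B ((-(a * c)) • ev i) (ev j) := by
  rw [← neg_smul, D.coef, neg_mul]

end Fam

/-- A signed index. -/
abbrev Lbl (m : ℕ) := Fin (m + 4) ⊕ Fin (m + 4)

/-- The bar. -/
abbrev bar : Lbl m → Lbl m := Sum.swap

/-- A root. -/
def Valid (a b : Lbl m) : Prop := a ≠ b ∧ a ≠ bar b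

/-- The permutation induced by `z`. -/
def zPerm : Equiv.Perm (Lbl m) := Equiv.swap (.inl 0) (.inr 1) * Equiv.swap (.inl 1) (.inr 0)

theorem exists_perm4 {i j : Fin (m + 4)} (hi0 : i ≠ 0) (hi1 : i ≠ 1) (hj0 : j ≠ 0) (hj1 : j ≠ 1) (hij : i ≠ j) :
    ∃ σ : Equiv.Perm (Fin (m + 4)), σ 0 = 0 ∧ σ 3 = 1 ∧ σ 2 = i ∧ σ 1 = j := by
  set σ1 := Equiv.swap (2 : Fin (m + 4)) i * Equiv.swap 3 1 with hσ1
  have a0 : σ1 0 = 0 := by
    rw [hσ1, Equiv.Perm.mul_apply, Equiv.swap_apply_of_ne_of_ne ne03 ne01,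
      Equiv.swap_apply_of_ne_of_ne ne02 hi0.symm]
  have a3 : σ1 3 = 1 := by
    rw [hσ1, Equiv.Perm.mul_apply, Equiv.swap_apply_left, Equiv.swap_apply_of_ne_of_ne ne12 hi1.symm]
  have a2 : σ1 2 = i := by
    rw [hσ1, Equiv.Perm.mul_apply, Equiv.swap_apply_of_ne_of_ne ne23 ne12.symm, Equiv.swap_apply_left]
  have k0 : σ1 1 ≠ 0 := fun e => ne01.symm (σ1.injective (e.trans a0.symm))
  have k1 : σ1 1 ≠ 1 := fun e => ne13 (σ1.injective (e.trans a3.symm))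
  have ki : σ1 1 ≠ i := fun e => ne12 (σ1.injective (e.trans a2.symm))
  refine ⟨Equiv.swap (σ1 1) j * σ1, ?_, ?_, ?_, Equiv.swap_apply_left _ _⟩
  · rw [Equiv.Perm.mul_apply, a0, Equiv.swap_apply_of_ne_of_ne k0.symm hj0.symm]
  · rw [Equiv.Perm.mul_apply, a3, Equiv.swap_apply_of_ne_of_ne k1.symm hj1.symm]
  · rw [Equiv.Perm.mul_apply, a2, Equiv.swap_apply_of_ne_of_ne ki.symm hij]

namespace Data

variable {G : Type*} [Group G] (D : Data F m G)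

/-- A root subgroup in the Levi part. -/
def XT (i j : Fin (m + 4)) : Subgroup G := Subgroup.closure (Set.range fun t => D.θ (T i j t))

variable [Finite F]

/-- A positive root subgroup. -/
def XV (i j : Fin (m + 4)) : Subgroup G :=
  Subgroup.closure (Set.range fun t : F => D.famV.B (t • ev i) (ev j))

/-- A negative root subgroup. -/
def XW (i j : Fin (m + 4)) : Subgroup G :=
  Subgroup.closure (Set.range fun t : F => D.famW.B (t • ev i) (ev j))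

/-- The root subgroups. -/
def X : Lbl m → Lbl m → Subgroup G
  | .inl i, .inl j => D.XT i j
  | .inr i, .inr j => D.XT j i
  | .inl i, .inr j => D.XV i j
  | .inr i, .inl j => D.XW i j

theorem T_mem (i j : Fin (m + 4)) (t : F) : D.θ (T i j t) ∈ D.XT i j := Subgroup.subset_closure ⟨t, rfl⟩
theorem V_mem (i j : Fin (m + 4)) (t : F) : D.famV.B (t • ev i) (ev j) ∈ D.XV i j := Subgroup.subset_closure ⟨t, rfl⟩
theorem W_mem' (i j : Fin (m + 4)) (t : F) : D.famW.B (t • ev i) (ev j) ∈ D.XW i j := Subgroup.subset_closure ⟨t, rfl⟩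

theorem XV_symm (i j : Fin (m + 4)) : D.XV i j = D.XV j i := by
  refine le_antisymm ?_ ?_ <;>
    (rw [XV, Subgroup.closure_le]; rintro _ ⟨t, rfl⟩; dsimp only; rw [D.famV.ij_swap]; exact D.V_mem _ _ _)

theorem XW_symm (i j : Fin (m + 4)) : D.XW i j = D.XW j i := by
  refine le_antisymm ?_ ?_ <;>
    (rw [XW, Subgroup.closure_le]; rintro _ ⟨t, rfl⟩; dsimp only; rw [D.famW.ij_swap]; exact D.W_mem' _ _ _)

theorem X_bar (a b : Lbl m) : D.X a b = D.X (bar b) (bar a) := by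
  rcases a with i | i <;> rcases b with j | j
  · rfl
  · exact D.XV_symm i j
  · exact D.XW_symm i j
  · rfl

/-- An element moving a root subgroup into another. -/
def Moves (g : G) (S S' : Subgroup G) : Prop := ∀ x ∈ S, g * x * g⁻¹ ∈ S'

theorem moves_of_gen {g : G} {s : Set G} {S' : Subgroup G} (h : ∀ x ∈ s, g * x * g⁻¹ ∈ S') :
    Moves g (Subgroup.closure s) S' := by
  intro x hx
  induction hx using Subgroup.closure_induction with
  | mem x hx => exact h x hx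
  | one => simp
  | mul x y _ _ hx hy => rw [← conj_mul]; exact mul_mem hx hy
  | inv x _ hx => rw [← conj_inv]; exact inv_mem hx

theorem mono_moves {A : SL} {σ : Equiv.Perm (Fin (m + 4))} {c : Fin (m + 4) → F} (hA : Mono A σ c)
    {a b : Lbl m} (hab : Valid a b) :
    Moves (D.θ A) (D.X a b) (D.X (Equiv.sumCongr σ σ a) (Equiv.sumCongr σ σ b)) := by
  rcases a with i | i <;> rcases b with j | j
  · refine moves_of_gen ?_
    rintro _ ⟨t, rfl⟩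
    rw [← map_inv, ← map_mul, ← map_mul, hA.conj_T (fun e => hab.1 (by rw [e]))]
    exact D.T_mem _ _ _
  · refine moves_of_gen ?_
    rintro _ ⟨t, rfl⟩
    show D.famV.θ A * _ * (D.famV.θ A)⁻¹ ∈ _
    rw [D.famV.B_conj, mulVec_smul, hA, hA, smul_smul, D.famV.coef]
    exact D.V_mem _ _ _
  · refine moves_of_gen ?_
    rintro _ ⟨t, rfl⟩
    have e : D.θ A = D.famW.θ (τ A) := by
      show D.θ A = D.θ (τ (τ A)); rw [τ_τ]
    dsimp only
    rw [e, D.famW.B_conj, mulVec_smul, τ_mono hA, τ_mono hA, smul_smul, D.famW.coef]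
    exact D.W_mem' _ _ _
  · refine moves_of_gen ?_
    rintro _ ⟨t, rfl⟩
    rw [← map_inv, ← map_mul, ← map_mul, hA.conj_T (fun e => hab.1 (by rw [e]))]
    exact D.T_mem _ _ _

theorem W01_scale (s : F) : D.W01 s = D.famW.B (s • ev 0) (ev 1) := by
  rcases eq_or_ne s 0 with rfl | hs
  · rw [zero_smul, D.famW.B_zero, W01, W0, neg_zero, T_zero, map_one, mul_one, mul_inv_cancel, mul_one,
      mul_inv_cancel]
  set A : SL := wE * dg 2 3 (inv_ne_zero hs) * wE⁻¹ with hA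
  have hm : ∀ k, (τ A).1 *ᵥ ev k = _ := τ_mono ((wE_mono.mul (dg_mono 2 3 (inv_ne_zero hs))).mul wE_mono.inv)
  rw [D.famW.B_eq (A := τ A) ?_ ?_]
  · show _ = D.θ (τ (τ A)) * D.W01 1 * (D.θ (τ (τ A)))⁻¹
    rw [τ_τ, hA, map_mul, map_mul, map_inv, W01, W01,
      show D.θ wE * D.θ (dg 2 3 (inv_ne_zero hs)) * (D.θ wE)⁻¹ * (D.θ wE * D.W0 1 * (D.θ wE)⁻¹) *
        (D.θ wE * D.θ (dg 2 3 (inv_ne_zero hs)) * (D.θ wE)⁻¹)⁻¹ =
        D.θ wE * (D.θ (dg 2 3 (inv_ne_zero hs)) * D.W0 1 * (D.θ (dg 2 3 (inv_ne_zero hs)))⁻¹) * (D.θ wE)⁻¹ by group]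
    have hz : dg 2 3 (inv_ne_zero hs) ∈ D.Kz :=
      D.dg_Kz ne23 (sameBlk_of_rest ne02.symm ne12.symm ne03.symm ne13.symm) _
    rw [W0, W0, D.θ_conj_comm hz,
      show D.θ (dg 2 3 (inv_ne_zero hs)) * D.θ (T 0 2 (-1)) * (D.θ (dg 2 3 (inv_ne_zero hs)))⁻¹ =
        D.θ (dg 2 3 (inv_ne_zero hs) * T 0 2 (-1) * (dg 2 3 (inv_ne_zero hs))⁻¹) by simp, dg_conj]
    congr 6
    simp [dvec, ne02, ne03, ne23]
  · rw [hm]
    simp [dvec, ne02, ne03, ne23, ne02.symm, Equiv.swap_apply_right, Equiv.swap_apply_left]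
  · rw [hm]
    simp [dvec, ne12, ne13, ne01, ne01.symm, ne12.symm, Equiv.swap_apply_of_ne_of_ne]

theorem zT02 (t : F) : D.z * D.θ (T 0 2 t) * D.z⁻¹ = D.famW.B (t • ev 2) (ev 1) := by
  have h : D.z * D.θ (T 0 2 t) * D.z⁻¹ = D.W0 (-t) := by rw [W0, neg_neg]
  rw [h, show D.W0 (-t) = D.θ wE⁻¹ * D.W01 (-t) * (D.θ wE⁻¹)⁻¹ by rw [W01, map_inv]; group, D.W01_scale,
    show D.θ wE⁻¹ = D.famW.θ (τ wE⁻¹) by show _ = D.θ (τ (τ _)); rw [τ_τ], D.famW.B_conj, mulVec_smul,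
    τ_mono wE_mono.inv, τ_mono wE_mono.inv]
  simp [ne01, ne01.symm, ne12, ne12.symm, Equiv.swap_apply_of_ne_of_ne]

theorem exists_blk {i j : Fin (m + 4)} (hi0 : i ≠ 0) (hi1 : i ≠ 1) (hj : j = 0 ∨ j = 1) :
    ∃ A ∈ D.Kz, ∃ σ c, Mono A σ c ∧ σ 2 = i ∧ σ 0 = j ∧ σ 1 = Equiv.swap 0 1 j := by
  obtain ⟨A, hA, c, hc⟩ : ∃ A ∈ D.Kz, ∃ c, Mono A (Equiv.swap 2 i) c :=
    exists_mono {0, 1} (fun p q _ hp hq => by
      simp only [Finset.mem_insert, Finset.mem_singleton, not_or] at hp hq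
      exact D.W_Kz (sameBlk_of_rest hp.1 hp.2 hq.1 hq.2)) _ (by
      simp [Equiv.swap_apply_of_ne_of_ne, ne02, ne12, hi0.symm, hi1.symm])
  rcases hj with rfl | rfl
  · exact ⟨A, hA, _, c, hc, Equiv.swap_apply_left _ _, Equiv.swap_apply_of_ne_of_ne ne02 hi0.symm, by
      rw [Equiv.swap_apply_left, Equiv.swap_apply_of_ne_of_ne ne12 hi1.symm]⟩
  · refine ⟨A * W 0 1, mul_mem hA (D.W_Kz (by simp [SameBlk])), _, _, hc.mul (W_mono ne01), ?_, ?_, ?_⟩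
    · rw [Equiv.Perm.mul_apply, Equiv.swap_apply_of_ne_of_ne ne02.symm ne12.symm, Equiv.swap_apply_left]
    · rw [Equiv.Perm.mul_apply, Equiv.swap_apply_left, Equiv.swap_apply_of_ne_of_ne ne12 hi1.symm]
    · rw [Equiv.Perm.mul_apply, Equiv.swap_apply_right,
        Equiv.swap_apply_of_ne_of_ne ne02 hi0.symm]

theorem zT_mixV {i j : Fin (m + 4)} (hi0 : i ≠ 0) (hi1 : i ≠ 1) (hj : j = 0 ∨ j = 1) :
    (∀ t : F, D.z * D.θ (T i j t) * D.z⁻¹ ∈ D.XV i (Equiv.swap 0 1 j)) ∧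
      ∀ t : F, ∃ s : F, D.famV.B (t • ev i) (ev (Equiv.swap 0 1 j)) = D.z * D.θ (T i j s) * D.z⁻¹ := by
  obtain ⟨A, hA, σ, c, hc, h2, h0, h1⟩ := D.exists_blk hi0 hi1 hj
  have key : ∀ s : F, D.z * D.θ (T i j (c 2 * s / c 0)) * D.z⁻¹ =
      D.famV.B ((-(s * c 2 * c 1)) • ev i) (ev (Equiv.swap 0 1 j)) := fun s => by
    have := D.zT_conj hc hA s
    rwa [h2, h0, h1, D.famV.neg_left] at this
  have n2 := hc.ne_zero 2; have n1 := hc.ne_zero 1; have n0 := hc.ne_zero 0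
  refine ⟨fun t => ?_, fun t => ⟨c 2 * (-t / (c 2 * c 1)) / c 0, ?_⟩⟩
  · have := key (t * c 0 / c 2)
    rw [show c 2 * (t * c 0 / c 2) / c 0 = t by field_simp] at this
    rw [this]; exact D.V_mem _ _ _
  · rw [key, show -(-t / (c 2 * c 1) * c 2 * c 1) = t by field_simp]

theorem zT_mixW {i j : Fin (m + 4)} (hi0 : i ≠ 0) (hi1 : i ≠ 1) (hj : j = 0 ∨ j = 1) :
    (∀ t : F, D.z * D.θ (T j i t) * D.z⁻¹ ∈ D.XW i (Equiv.swap 0 1 j)) ∧
      ∀ t : F, ∃ s : F, D.famW.B (t • ev i) (ev (Equiv.swap 0 1 j)) = D.z * D.θ (T j i s) * D.z⁻¹ := by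
  obtain ⟨A, hA, σ, c, hc, h2, h0, h1⟩ := D.exists_blk hi0 hi1 hj
  have n2 := hc.ne_zero 2; have n1 := hc.ne_zero 1; have n0 := hc.ne_zero 0
  have key : ∀ s : F, D.z * D.θ (T j i (c 0 * s / c 2)) * D.z⁻¹ =
      D.famW.B ((s / (c 2 * c 1)) • ev i) (ev (Equiv.swap 0 1 j)) := fun s => by
    rw [← h2, ← h0, ← hc.conj_T ne02, map_mul, map_mul, map_inv, ← D.θ_conj_comm hA, D.zT02,
      show D.θ A = D.famW.θ (τ A) by show _ = D.θ (τ (τ _)); rw [τ_τ], D.famW.B_conj, mulVec_smul, τ_mono hc,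
      τ_mono hc, smul_smul, D.famW.coef, h1, h2, h0]
    congr 2
    field_simp
  refine ⟨fun t => ?_, fun t => ⟨c 0 * (t * (c 2 * c 1)) / c 2, ?_⟩⟩
  · have := key (t * c 2 / c 0)
    rw [show c 0 * (t * c 2 / c 0) / c 2 = t by field_simp] at this
    rw [this]; exact D.W_mem' _ _ _
  · rw [key, show t * (c 2 * c 1) / (c 2 * c 1) = t by field_simp]

theorem zz_T {i j : Fin (m + 4)} (s : F) :
    D.z * (D.z * D.θ (T i j s) * D.z⁻¹) * D.z⁻¹ ∈ D.XT i j := by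
  rw [show D.z * (D.z * D.θ (T i j s) * D.z⁻¹) * D.z⁻¹ = (D.z * D.z) * D.θ (T i j s) * (D.z * D.z)⁻¹ by group,
    D.rels.sq, ← map_inv, ← map_mul, ← map_mul, dg_conj]
  exact D.T_mem _ _ _

theorem zV01 (t : F) : D.z * D.V01 t * D.z⁻¹ = D.W01 t := by
  rw [← D.κ_mU, ← neg_neg t, ← D.κ_mL, ← D.κ_mT, ← map_inv, ← map_mul, ← map_mul]
  congr 1
  rw [mul_inv_eq_iff_eq_mul]
  apply Subtype.ext; simp

theorem zW01 (t : F) : D.z * D.W01 t * D.z⁻¹ = D.V01 t := by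
  rw [← D.κ_mU, ← neg_neg t, ← D.κ_mL, ← D.κ_mT, ← map_inv, ← map_mul, ← map_mul]
  congr 1
  rw [mul_inv_eq_iff_eq_mul]
  apply Subtype.ext; simp

theorem zPerm_rest {i : Fin (m + 4)} (h0 : i ≠ 0) (h1 : i ≠ 1) :
    zPerm (Sum.inl i : Lbl m) = Sum.inl i ∧ zPerm (Sum.inr i : Lbl m) = Sum.inr i := by
  simp [zPerm, Equiv.swap_apply_def, h0, h1]

theorem zPerm_blk {j : Fin (m + 4)} (hj : j = 0 ∨ j = 1) :
    zPerm (Sum.inl j : Lbl m) = Sum.inr (Equiv.swap 0 1 j) ∧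
      zPerm (Sum.inr j : Lbl m) = Sum.inl (Equiv.swap 0 1 j) := by
  rcases hj with rfl | rfl <;> simp [zPerm, Equiv.swap_apply_def, ne01, ne01.symm]

theorem blk_cases (i : Fin (m + 4)) : (i = 0 ∨ i = 1) ∨ (i ≠ 0 ∧ i ≠ 1) := by tauto

theorem sw01_cases {i j : Fin (m + 4)} (hi : i = 0 ∨ i = 1) (hj : j = 0 ∨ j = 1) (hne : i ≠ j) :
    Equiv.swap 0 1 i = j ∧ Equiv.swap 0 1 j = i := by
  rcases hi with rfl | rfl <;> rcases hj with rfl | rfl <;> simp_all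

theorem z_ll {i j : Fin (m + 4)} (hij : i ≠ j) :
    Moves D.z (D.X (.inl i) (.inl j)) (D.X (zPerm (.inl i)) (zPerm (.inl j))) := by
  refine moves_of_gen ?_
  rintro _ ⟨t, rfl⟩
  rcases blk_cases i with hi | ⟨hi0, hi1⟩ <;> rcases blk_cases j with hj | ⟨hj0, hj1⟩
  · rw [(zPerm_blk hi).1, (zPerm_blk hj).1, (sw01_cases hi hj hij).1, (sw01_cases hi hj hij).2,
      (D.mem_Kz.mp (D.T_Kz (by simp [SameBlk, hi, hj]) t)).eq, mul_inv_cancel_right]
    exact D.T_mem _ _ _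
  · rw [(zPerm_blk hi).1, (zPerm_rest hj0 hj1).1]
    show _ ∈ D.XW _ _
    rw [D.XW_symm]
    exact (D.zT_mixW hj0 hj1 hi).1 t
  · rw [(zPerm_blk hj).1, (zPerm_rest hi0 hi1).1]
    exact (D.zT_mixV hi0 hi1 hj).1 t
  · rw [(zPerm_rest hi0 hi1).1, (zPerm_rest hj0 hj1).1,
      (D.mem_Kz.mp (D.T_Kz (sameBlk_of_rest hi0 hi1 hj0 hj1) t)).eq, mul_inv_cancel_right]
    exact D.T_mem _ _ _

theorem z_mixed_lr {i j : Fin (m + 4)} (hi0 : i ≠ 0) (hi1 : i ≠ 1) (hj : j = 0 ∨ j = 1) :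
    Moves D.z (D.X (.inl i) (.inr j)) (D.X (zPerm (.inl i)) (zPerm (.inr j))) := by
  refine moves_of_gen ?_
  rintro _ ⟨t, rfl⟩
  have hj' : Equiv.swap 0 1 j = 0 ∨ Equiv.swap 0 1 j = 1 := by rcases hj with rfl | rfl <;> simp
  obtain ⟨s, e⟩ := (D.zT_mixV hi0 hi1 hj').2 t
  rw [Equiv.swap_apply_self] at e
  dsimp only
  rw [e, (zPerm_rest hi0 hi1).1, (zPerm_blk hj).2]
  exact D.zz_T s

theorem z_mixed_rl {i j : Fin (m + 4)} (hi0 : i ≠ 0) (hi1 : i ≠ 1) (hj : j = 0 ∨ j = 1) :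
    Moves D.z (D.X (.inr i) (.inl j)) (D.X (zPerm (.inr i)) (zPerm (.inl j))) := by
  refine moves_of_gen ?_
  rintro _ ⟨t, rfl⟩
  have hj' : Equiv.swap 0 1 j = 0 ∨ Equiv.swap 0 1 j = 1 := by rcases hj with rfl | rfl <;> simp
  obtain ⟨s, e⟩ := (D.zT_mixW hi0 hi1 hj').2 t
  rw [Equiv.swap_apply_self] at e
  dsimp only
  rw [e, (zPerm_rest hi0 hi1).2, (zPerm_blk hj).1]
  exact D.zz_T s

theorem z_rest_lr {i j : Fin (m + 4)} (hi0 : i ≠ 0) (hi1 : i ≠ 1) (hj0 : j ≠ 0) (hj1 : j ≠ 1) :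
    Moves D.z (D.X (.inl i) (.inr j)) (D.X (.inl i) (.inr j)) := by
  refine moves_of_gen ?_
  rintro _ ⟨t, rfl⟩
  dsimp only
  show _ ∈ D.XV i j
  set B := D.famV.B
  have e : D.θ (T j 1 1) * B (t • ev i) (ev 1) * (D.θ (T j 1 1))⁻¹ = B (t • ev i) (ev 1) * B (t • ev i) (ev j) := by
    show D.famV.θ (T j 1 1) * _ * (D.famV.θ (T j 1 1))⁻¹ = _
    rw [D.famV.B_conj, mulVec_smul, T_ev_ne hj1 _ hi1, T_ev_self hj1, one_smul, D.add_right]
  have e2 : B (t • ev i) (ev j) = (B (t • ev i) (ev 1))⁻¹ * (D.θ (T j 1 1) * B (t • ev i) (ev 1) *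
      (D.θ (T j 1 1))⁻¹) := by rw [e, inv_mul_cancel_left]
  obtain ⟨s, hs⟩ := (D.zT_mixV hi0 hi1 (Or.inl rfl)).2 t
  rw [Equiv.swap_apply_left] at hs
  set s' := dvec (0 : Fin (m + 4)) 1 (-1 : F) i * (dvec (0 : Fin (m + 4)) 1 (-1 : F) 0)⁻¹ * s
  have hx : D.z * B (t • ev i) (ev 1) * D.z⁻¹ = D.θ (T i 0 s') := by
    rw [show B (t • ev i) (ev 1) = D.z * D.θ (T i 0 s) * D.z⁻¹ from hs,
      show D.z * (D.z * D.θ (T i 0 s) * D.z⁻¹) * D.z⁻¹ = (D.z * D.z) * D.θ (T i 0 s) * (D.z * D.z)⁻¹ by group,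
      D.rels.sq, ← map_inv, ← map_mul, ← map_mul, dg_conj]
  have hb' := (D.zT_mixV hj0 hj1 (Or.inr rfl)).1 1
  rw [Equiv.swap_apply_right] at hb'
  set b := D.z * D.θ (T j 1 1) * D.z⁻¹
  obtain ⟨u, hu⟩ : ∃ u : F, b = B (u • ev j) (ev 0) := by
    have : ∀ x ∈ D.XV j 0, ∃ u : F, x = B (u • ev j) (ev 0) := by
      intro x hx
      induction hx using Subgroup.closure_induction with
      | mem x hx => obtain ⟨u, rfl⟩ := hx; exact ⟨u, rfl⟩
      | one => exact ⟨0, by rw [zero_smul]; exact (D.famV.B_zero _).symm⟩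
      | mul x y _ _ hx hy =>
        obtain ⟨u, rfl⟩ := hx; obtain ⟨v, rfl⟩ := hy
        exact ⟨u + v, by rw [add_smul]; exact (D.add_left' _ _ _).symm⟩
      | inv x _ hx =>
        obtain ⟨u, rfl⟩ := hx
        refine ⟨-u, inv_eq_of_mul_eq_one_right ?_⟩
        rw [← D.add_left', ← add_smul, add_neg_cancel, zero_smul, D.famV.B_zero]
    exact this b hb'
  have key : D.z * B (t • ev i) (ev j) * D.z⁻¹ = B ((-s' * u) • ev j) (ev i) := by
    rw [e2, show D.z * ((B (t • ev i) (ev 1))⁻¹ * (D.θ (T j 1 1) * B (t • ev i) (ev 1) * (D.θ (T j 1 1))⁻¹)) *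
      D.z⁻¹ = (D.z * B (t • ev i) (ev 1) * D.z⁻¹)⁻¹ * b * (D.z * B (t • ev i) (ev 1) * D.z⁻¹) * b⁻¹ by
        simp only [b]; group, hx, hu, ← map_inv, ← T_neg]
    have h3 : D.θ (T i 0 (-s')) * B (u • ev j) (ev 0) * D.θ (T i 0 s') =
        B (u • ev j) (ev 0) * B (u • ev j) ((-s') • ev i) := by
      rw [show D.θ (T i 0 s') = (D.θ (T i 0 (-s')))⁻¹ by rw [← map_inv, ← T_neg, neg_neg]]
      show D.famV.θ _ * _ * (D.famV.θ _)⁻¹ = _
      rw [D.famV.B_conj, mulVec_smul, T_ev_ne hi0 _ hj0, T_ev_self hi0, D.add_right]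
    rw [h3, (D.B_comm _ _ _ _).eq, mul_inv_cancel_right]
    show D.famV.B _ _ = D.famV.B _ _
    rw [D.famV.coef, mul_comm]
  rw [key, D.XV_symm]
  exact D.V_mem _ _ _

theorem W_rest_comm {i j : Fin (m + 4)} (hi0 : i ≠ 0) (hi1 : i ≠ 1) (hj0 : j ≠ 0) (hj1 : j ≠ 1) (hij : i ≠ j)
    (t : F) : Commute D.z (D.famW.B (t • ev i) (ev j)) := by
  obtain ⟨σ, s0, s3, s2, s1⟩ := exists_perm4 hi0 hi1 hj0 hj1 hij
  obtain ⟨A, -, c, hA⟩ := exists_mono (K := (⊤ : Subgroup SL)) ∅ (fun _ _ _ _ _ => trivial) σ (by simp)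
  have n0 := hA.ne_zero 0; have n1 := hA.ne_zero 1; have n2 := hA.ne_zero 2; have n3 := hA.ne_zero 3
  have hAW : D.θ A = D.famW.θ (τ A) := by show _ = D.θ (τ (τ _)); rw [τ_τ]
  have hV : ∀ s : F, Commute (D.V01 s) (D.famW.B (t • ev i) (ev j)) ∧
      Commute (D.W01 s) (D.famW.B (t • ev i) (ev j)) := by
    intro s
    -- the pair before moving
    have e : ∃ s' t' u' : F, D.V01 s = D.θ A * D.famV.B (s' • ev 0) (ev 3) * (D.θ A)⁻¹ ∧
        D.W01 s = D.θ A * D.famW.B (u' • ev 0) (ev 3) * (D.θ A)⁻¹ ∧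
        D.famW.B (t • ev i) (ev j) = D.θ A * D.famW.B (t' • ev 2) (ev 1) * (D.θ A)⁻¹ := by
      refine ⟨s / (c 0 * c 3), t * (c 2 * c 1), s * (c 0 * c 3), ?_, ?_, ?_⟩
      · show _ = D.famV.θ A * _ * (D.famV.θ A)⁻¹
        rw [D.famV.B_conj, mulVec_smul, hA, hA, s0, s3, smul_smul, D.famV.coef, D.V01_scale]
        congr 2
        field_simp
      · rw [hAW, D.famW.B_conj, mulVec_smul, τ_mono hA, τ_mono hA, s0, s3, smul_smul, D.famW.coef, D.W01_scale]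
        congr 2
        field_simp
      · rw [hAW, D.famW.B_conj, mulVec_smul, τ_mono hA, τ_mono hA, s2, s1, smul_smul, D.famW.coef]
        congr 2
        field_simp
    obtain ⟨s', t', u', e1, e2, e3⟩ := e
    rw [e1, e2, e3, Commute.conj_iff, Commute.conj_iff]
    obtain ⟨a, ha⟩ := (D.zT_mixW ne02.symm ne12.symm (Or.inl rfl)).2 t'
    rw [Equiv.swap_apply_left] at ha
    obtain ⟨b, hb⟩ := (D.zT_mixV ne03.symm ne13.symm (Or.inr rfl)).2 (-s')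
    rw [Equiv.swap_apply_right, ← D.famV.ij_swap] at hb
    obtain ⟨b', hb'⟩ := (D.zT_mixW ne03.symm ne13.symm (Or.inr rfl)).2 (-u')
    rw [Equiv.swap_apply_right, ← D.famW.ij_swap] at hb'
    rw [ha, hb, hb', Commute.conj_iff, Commute.conj_iff]
    refine ⟨?_, ?_⟩
    · exact (T_commute ne01.symm ne23 b a).map D.θ
    · exact (T_commute ne03.symm ne12.symm b' a).map D.θ
  have hz : D.z = D.V01 1 * D.W01 1 * D.V01 1 := by
    rw [← D.κ_mU, ← neg_neg (1 : F), ← D.κ_mL, neg_neg, ← D.κ_mT, mT_eq, map_mul, map_mul]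
  rw [hz]
  exact ((hV 1).1.mul_left (hV 1).2).mul_left (hV 1).1

/-- `z` permutes the root subgroups. -/
theorem z_moves {a b : Lbl m} (hab : Valid a b) : Moves D.z (D.X a b) (D.X (zPerm a) (zPerm b)) := by
  have hbar : ∀ a : Lbl m, zPerm (bar a) = bar (zPerm a) := by
    intro a
    rcases a with k | k <;> rcases blk_cases k with hk | ⟨hk0, hk1⟩
    · show zPerm (Sum.inr k : Lbl m) = _; rw [(zPerm_blk hk).1, (zPerm_blk hk).2]; rfl
    · show zPerm (Sum.inr k : Lbl m) = _; rw [(zPerm_rest hk0 hk1).1, (zPerm_rest hk0 hk1).2]; rfl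
    · show zPerm (Sum.inl k : Lbl m) = _; rw [(zPerm_blk hk).1, (zPerm_blk hk).2]; rfl
    · show zPerm (Sum.inl k : Lbl m) = _; rw [(zPerm_rest hk0 hk1).1, (zPerm_rest hk0 hk1).2]; rfl
  rcases a with i | i <;> rcases b with j | j
  · exact D.z_ll (fun e => hab.1 (by rw [e]))
  · have hij : i ≠ j := fun e => hab.2 (by rw [e]; rfl)
    rcases blk_cases i with hi | ⟨hi0, hi1⟩ <;> rcases blk_cases j with hj | ⟨hj0, hj1⟩
    · refine moves_of_gen ?_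
      rintro _ ⟨t, rfl⟩
      dsimp only
      rw [(zPerm_blk hi).1, (zPerm_blk hj).2, (sw01_cases hi hj hij).1, (sw01_cases hi hj hij).2]
      show _ ∈ D.XW j i
      rcases hi with rfl | rfl <;> rcases hj with rfl | rfl <;> try exact absurd rfl hij
      · rw [← D.V01_scale, D.zV01, D.W01_scale, D.XW_symm]; exact D.W_mem' _ _ _
      · rw [D.famV.ij_swap, ← D.V01_scale, D.zV01, D.W01_scale]; exact D.W_mem' _ _ _
    · rw [D.X_bar, D.X_bar (zPerm _), ← hbar, ← hbar]; exact D.z_mixed_lr hj0 hj1 hi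
    · exact D.z_mixed_lr hi0 hi1 hj
    · rw [(zPerm_rest hi0 hi1).1, (zPerm_rest hj0 hj1).2]; exact D.z_rest_lr hi0 hi1 hj0 hj1
  · have hij : i ≠ j := fun e => hab.2 (by rw [e]; rfl)
    rcases blk_cases i with hi | ⟨hi0, hi1⟩ <;> rcases blk_cases j with hj | ⟨hj0, hj1⟩
    · refine moves_of_gen ?_
      rintro _ ⟨t, rfl⟩
      dsimp only
      rw [(zPerm_blk hi).2, (zPerm_blk hj).1, (sw01_cases hi hj hij).1, (sw01_cases hi hj hij).2]
      show _ ∈ D.XV j i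
      rcases hi with rfl | rfl <;> rcases hj with rfl | rfl <;> try exact absurd rfl hij
      · rw [← D.W01_scale, D.zW01, D.V01_scale, D.XV_symm]; exact D.V_mem _ _ _
      · rw [D.famW.ij_swap, ← D.W01_scale, D.zW01, D.V01_scale]; exact D.V_mem _ _ _
    · rw [D.X_bar, D.X_bar (zPerm _), ← hbar, ← hbar]; exact D.z_mixed_rl hj0 hj1 hi
    · exact D.z_mixed_rl hi0 hi1 hj
    · rw [(zPerm_rest hi0 hi1).2, (zPerm_rest hj0 hj1).1]
      refine moves_of_gen ?_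
      rintro _ ⟨t, rfl⟩
      rw [(D.W_rest_comm hi0 hi1 hj0 hj1 hij t).eq, mul_inv_cancel_right]
      exact D.W_mem' _ _ _
  · rw [D.X_bar, D.X_bar (zPerm _), ← hbar, ← hbar]
    exact D.z_ll (fun e => hab.1 (by rw [e]))

end Data

end Cfsg.Agent.KSG55.Om
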