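import Cfsg.Agent.KSG55.Om.Base
import Cfsg.Agent.ClassMult.Alt

set_option autoImplicit false

/-! The abelian subgroup of the alternating matrices. -/

namespace Cfsg.Agent.KSG55.Om

open Matrix Cfsg.Agent.CharB.PSLMult Cfsg.Agent.KSG55.Lin Cfsg.Agent.ClassMult

variable {F : Type*} [Field F] [Finite F] {m : ℕ}

local notation "SL" => SpecialLinearGroup (Fin (m + 4)) F
local notation "Vn" => Fin (m + 4) → F

namespace Data

variable {G : Type*} [Group G] (D : Data F m G)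

theorem θ_conj_comm {A : SL} (hz : A ∈ D.Kz) (g : G) :
    D.θ A * (D.z * g * D.z⁻¹) * (D.θ A)⁻¹ = D.z * (D.θ A * g * (D.θ A)⁻¹) * D.z⁻¹ := by
  rw [show D.θ A * (D.z * g * D.z⁻¹) * (D.θ A)⁻¹ = (D.θ A * D.z) * g * (D.θ A * D.z)⁻¹ by group,
    ← (D.mem_Kz.mp hz).eq]
  group

theorem V01_scale (s : F) : D.V01 s = D.famV.B (s • ev 0) (ev 1) := by
  rcases eq_or_ne s 0 with rfl | hs
  · rw [zero_smul, D.famV.B_zero, V01, D.V0_zero, mul_one, mul_inv_cancel]
  set A : SL := wE * dg 2 3 hs * wE⁻¹ with hA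
  have hm : ∀ k, A.1 *ᵥ ev k = _ := (wE_mono.mul (dg_mono 2 3 hs)).mul wE_mono.inv
  rw [D.famV.B_eq (A := A) ?_ ?_]
  · show _ = D.θ A * D.V01 1 * (D.θ A)⁻¹
    rw [hA, map_mul, map_mul, map_inv, V01, V01,
      show D.θ wE * D.θ (dg 2 3 hs) * (D.θ wE)⁻¹ * (D.θ wE * D.V0 1 * (D.θ wE)⁻¹) *
        (D.θ wE * D.θ (dg 2 3 hs) * (D.θ wE)⁻¹)⁻¹ =
        D.θ wE * (D.θ (dg 2 3 hs) * D.V0 1 * (D.θ (dg 2 3 hs))⁻¹) * (D.θ wE)⁻¹ by group, D.V0_scale hs, mul_one]
  · rw [hm]
    simp [dvec, ne02, ne03, ne23, ne02.symm, Equiv.swap_apply_right, Equiv.swap_apply_left]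
  · rw [hm]
    simp [dvec, ne12, ne13, ne01, ne01.symm, ne12.symm, Equiv.swap_apply_of_ne_of_ne]

theorem V01_add (s t : F) : D.V01 (s + t) = D.V01 s * D.V01 t := by
  rw [← D.κ_mU, ← D.κ_mU, ← D.κ_mU, ← map_mul, mU_mul]

/-- A root element through `z`. -/
theorem zT20 (s : F) : D.z * D.θ (T 2 0 s) * D.z⁻¹ = D.famV.B (-(s • ev 2)) (ev 1) := by
  rw [← V0_eq, show D.V0 s = D.θ wE⁻¹ * D.V01 s * (D.θ wE⁻¹)⁻¹ by rw [V01, map_inv]; group, D.V01_scale,
    show D.θ = D.famV.θ from rfl, D.famV.B_conj, mulVec_smul, wE_mono.inv, wE_mono.inv]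
  simp [ne01, ne01.symm, ne12, ne12.symm, Equiv.swap_apply_of_ne_of_ne]

theorem zT_conj {A : SL} {σ : Equiv.Perm (Fin (m + 4))} {c : Fin (m + 4) → F} (hA : Mono A σ c) (hz : A ∈ D.Kz)
    (s : F) : D.z * D.θ (T (σ 2) (σ 0) (c 2 * s / c 0)) * D.z⁻¹ =
      D.famV.B (-((s * c 2) • ev (σ 2))) (c 1 • ev (σ 1)) := by
  rw [← hA.conj_T ne02.symm, map_mul, map_mul, map_inv, ← D.θ_conj_comm hz, D.zT20,
    show D.θ = D.famV.θ from rfl, D.famV.B_conj, mulVec_neg, mulVec_smul, hA, hA, smul_smul]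

theorem shear (c : F) (v w : Vn) : D.famV.B (v + c • w) w = D.famV.B v w := by
  have key : ∀ (c : F) (v w : Vn) (C : SL), C.1 *ᵥ ev 0 = v → C.1 *ᵥ ev 1 = w →
      (C * T 1 0 c).1 *ᵥ ev 0 = v + c • w ∧ (C * T 1 0 c).1 *ᵥ ev 1 = w := by
    intro c v w C c0 c1
    constructor
    · rw [sl_mulVec_mul, T_ev_self ne01.symm, mulVec_add, mulVec_smul, c0, c1]
    · rw [sl_mulVec_mul, T_ev_ne ne01.symm _ ne01.symm, c1]
  by_cases h : ∃ C : SL, C.1 *ᵥ ev 0 = v ∧ C.1 *ᵥ ev 1 = w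
  · obtain ⟨C, c0, c1⟩ := h
    obtain ⟨d0, d1⟩ := key c v w C c0 c1
    rw [D.famV.B_eq c0 c1, D.famV.B_eq d0 d1, map_mul]
    have := D.famV.gen 1 0 ne01.symm (Or.inr (Or.inr ⟨rfl, rfl⟩)) c
    rw [show D.famV.θ C * D.famV.θ (T 1 0 c) * D.famV.g0 * (D.famV.θ C * D.famV.θ (T 1 0 c))⁻¹ =
      D.famV.θ C * (D.famV.θ (T 1 0 c) * D.famV.g0 * (D.famV.θ (T 1 0 c))⁻¹) * (D.famV.θ C)⁻¹ by group, this.eq,
      mul_inv_cancel_right]
  · rw [D.famV.B_none h, D.famV.B_none]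
    rintro ⟨C, c0, c1⟩
    obtain ⟨d0, d1⟩ := key (-c) _ _ C c0 c1
    exact h ⟨C * T 1 0 (-c), by rw [d0, neg_smul, add_neg_cancel_right], d1⟩

theorem indep {v w : Vn} {C : SL} (c0 : C.1 *ᵥ ev 0 = v) (c1 : C.1 *ᵥ ev 1 = w) (a b : F)
    (h : a • v + b • w = 0) : a = 0 ∧ b = 0 := by
  have e := congrArg (fun x => (C⁻¹).1 *ᵥ x) h
  rw [← c0, ← c1] at e
  simp only [mulVec_add, mulVec_smul, sl_inv_mulVec, mulVec_zero] at e
  exact ⟨by simpa [ne01] using congrFun e 0, by simpa [ne01.symm] using congrFun e 1⟩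

theorem dep_of_none {v w : Vn} (hw : w ≠ 0) (h : ¬ ∃ C : SL, C.1 *ᵥ ev 0 = v ∧ C.1 *ᵥ ev 1 = w) :
    ∃ a : F, v = a • w := by
  rcases eq_or_ne v 0 with rfl | hv
  · exact ⟨0, by rw [zero_smul]⟩
  by_contra hc
  push Not at hc
  refine h (exists_pair hv fun c e => ?_)
  rcases eq_or_ne c 0 with rfl | hc0
  · exact hw (by rw [e, zero_smul])
  · exact hc c⁻¹ (by rw [e, inv_smul_smul₀ hc0])

theorem z_T30 : D.z * D.θ (T 3 0 1) * D.z⁻¹ = D.famV.B (-ev 3) (ev 1) := by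
  have hW : W 2 3 ∈ D.Kz := D.W_Kz (sameBlk_of_rest ne02.symm ne12.symm ne03.symm ne13.symm)
  have := D.zT_conj (W_mono ne23) hW (-1)
  rw [Equiv.swap_apply_left, Equiv.swap_apply_of_ne_of_ne ne02 ne03,
    Equiv.swap_apply_of_ne_of_ne ne12 ne13] at this
  simpa [ne02, ne12] using this

theorem add_key {v v' w : Vn} {C : SL} (c0 : C.1 *ᵥ ev 0 = v) (c1 : C.1 *ᵥ ev 1 = w)
    (hin : ∀ a b : F, v' ≠ a • v + b • w) :
    D.famV.B (-(v + v')) w = D.famV.B (-v') w * D.famV.B (-v) w := by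
  obtain ⟨A, a2, a3, a1⟩ := exists_triple c0 c1 hin
  have hz : T 3 2 (1 : F) ∈ D.Kz := D.T_Kz (sameBlk_of_rest ne03.symm ne13.symm ne02.symm ne12.symm) _
  have hlhs : D.famV.θ (T 3 2 1) * D.famV.B (-ev 2) (ev 1) * (D.famV.θ (T 3 2 1))⁻¹ =
      D.famV.B (-ev 3) (ev 1) * D.famV.B (-ev 2) (ev 1) := by
    have h2 := D.zT20 1
    rw [one_smul] at h2
    rw [← h2, ← D.z_T30]
    show D.θ (T 3 2 1) * _ * (D.θ (T 3 2 1))⁻¹ = _
    have e := T_comm (ι := Fin (m + 4)) (F := F) ne23.symm ne02.symm ne03.symm 1 1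
    rw [one_mul, commutatorElement_def] at e
    rw [D.θ_conj_comm hz, ← e]
    simp only [map_mul, map_inv]
    group
  rw [D.famV.B_conj, mulVec_neg, T_ev_self ne23.symm, one_smul, T_ev_ne ne23.symm _ ne12] at hlhs
  have := congrArg (fun g => D.famV.θ A * g * (D.famV.θ A)⁻¹) hlhs
  simp only [← conj_mul, D.famV.B_conj, mulVec_neg, mulVec_add, a2, a3, a1] at this
  exact this

theorem add_left (v v' w : Vn) : D.famV.B (v + v') w = D.famV.B v' w * D.famV.B v w := by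
  rcases eq_or_ne w 0 with rfl | hw
  · rw [D.famV.B_zero_right, D.famV.B_zero_right, D.famV.B_zero_right, mul_one]
  by_cases hv : ∃ C : SL, C.1 *ᵥ ev 0 = v ∧ C.1 *ᵥ ev 1 = w
  · obtain ⟨C, c0, c1⟩ := hv
    by_cases hin : ∃ a b : F, v' = a • v + b • w
    · obtain ⟨a, b, rfl⟩ := hin
      have sc : ∀ u : F, D.famV.B (u • v) w = D.θ C * D.V01 u * (D.θ C)⁻¹ := fun u => by
        rw [D.V01_scale, show D.θ = D.famV.θ from rfl, D.famV.B_conj, mulVec_smul, c0, c1]
      have e1 := sc 1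
      rw [one_smul] at e1
      rw [← add_assoc, show v + a • v = (1 + a) • v by rw [add_smul, one_smul], D.shear, D.shear, sc, sc, e1,
        add_comm (1 : F), D.V01_add]
      group
    · push Not at hin
      obtain ⟨C', d0, d1⟩ : ∃ C' : SL, C'.1 *ᵥ ev 0 = -v ∧ C'.1 *ᵥ ev 1 = w := by
        refine exists_pair (fun e => ?_) fun c e => ?_
        · exact absurd ((indep c0 c1 1 0 (by rw [one_smul, zero_smul, add_zero]; exact neg_eq_zero.mp e)).1) one_ne_zero
        · exact absurd ((indep c0 c1 c 1 (by rw [one_smul, e]; simp)).2) one_ne_zero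
      have := D.add_key (v' := -v') d0 d1 fun a b e => hin a (-b) (by
        have := congrArg Neg.neg e; simpa [add_comm] using this)
      rwa [neg_neg, neg_neg, neg_add, neg_neg, neg_neg] at this
  · obtain ⟨a, rfl⟩ := dep_of_none hw hv
    rw [add_comm, D.shear, show D.famV.B (a • w) w = 1 from D.famV.B_dep a, mul_one]

theorem add_left' (v v' w : Vn) : D.famV.B (v + v') w = D.famV.B v w * D.famV.B v' w := by
  rw [add_comm, D.add_left]

theorem add_right (v w w' : Vn) : D.famV.B v (w + w') = D.famV.B v w * D.famV.B v w' := by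
  rw [← D.famV.B_swap v (w + w'), ← D.famV.B_swap v w, ← D.famV.B_swap v w', D.add_left']

theorem B_comm (a b c d : Vn) : Commute (D.famV.B a d) (D.famV.B b c) := by
  have h1 : D.famV.B (a + b) (c + d) = D.famV.B a c * D.famV.B a d * (D.famV.B b c * D.famV.B b d) := by
    rw [D.add_left', D.add_right, D.add_right]
  rw [D.add_right, D.add_left', D.add_left', mul_assoc, mul_assoc, mul_left_cancel_iff, ← mul_assoc, ← mul_assoc,
    mul_right_cancel_iff] at h1
  exact h1.symm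

theorem B_coef (i j : Fin (m + 4)) (c d : F) :
    D.famV.B (c • ev i) (d • ev j) = D.famV.B ((c * d) • ev i) (ev j) := by
  rcases eq_or_ne d 0 with rfl | hd
  · rw [zero_smul, mul_zero, zero_smul, D.famV.B_zero, D.famV.B_zero_right]
  · rw [← D.famV.B_scale hd (c • ev i) (d • ev j), inv_smul_smul₀ hd, smul_smul, mul_comm]

theorem B_coef_vec (v w : Vn) (a : F) : D.famV.B (a • v) w = D.famV.B ((-a) • w) v := by
  rcases eq_or_ne a 0 with rfl | ha
  · simp [D.famV.B_zero]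
  rw [← D.famV.B_swap (a • v) w, ← neg_smul, ← D.famV.B_scale (neg_ne_zero.mpr ha) w ((-a) • v),
    inv_smul_smul₀ (neg_ne_zero.mpr ha)]

theorem B_ij_swap (i j : Fin (m + 4)) (a : F) :
    D.famV.B (a • ev i) (ev j) = D.famV.B ((-a) • ev j) (ev i) := by
  rw [← D.famV.B_swap (a • ev i) (ev j), ← neg_smul]
  have := D.B_coef j i 1 (-a)
  rwa [one_smul, one_mul] at this

/-- The subgroup of the family. -/
def VG : Subgroup G := Subgroup.closure {g | ∃ v w, g = D.famV.B v w}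

theorem VG_comm {x y : G} (hx : x ∈ D.VG) (hy : y ∈ D.VG) : Commute x y := by
  haveI : IsMulCommutative D.VG := Subgroup.isMulCommutative_closure (by
    rintro _ ⟨a, d, rfl⟩ _ ⟨b, c, rfl⟩
    exact (D.B_comm a b c d).eq)
  exact congrArg Subtype.val (mul_comm' (⟨x, hx⟩ : D.VG) ⟨y, hy⟩)

noncomputable instance : AddCommGroup (Additive D.VG) :=
  { (inferInstance : AddGroup (Additive D.VG)) with
    add_comm := fun x y => Subtype.ext (D.VG_comm (Additive.toMul x).2 (Additive.toMul y).2).eq }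

/-- A coordinate of the family. -/
noncomputable def bA (i j : Fin (m + 4)) : F →+ Additive D.VG :=
  AddMonoidHom.mk' (fun t => Additive.ofMul (⟨D.famV.B (t • ev i) (ev j),
    Subgroup.subset_closure ⟨_, _, rfl⟩⟩ : D.VG)) fun s t => congrArg Additive.ofMul (Subtype.ext (by
      show D.famV.B ((s + t) • ev i) (ev j) = _ * _
      rw [add_smul, D.add_left']; rfl))

/-- The element of an alternating matrix. -/
noncomputable def sH : altM (Fin (m + 4)) F →+ Additive D.VG :=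
  ∑ p ∈ (Finset.univ : Finset (Fin (m + 4) × Fin (m + 4))).filter (fun p => p.1 < p.2),
    (D.bA p.1 p.2).comp (AddMonoidHom.mk' (fun X => X.1 p.1 p.2) fun _ _ => rfl)

/-- The same, in the group. -/
noncomputable def sg (X : altM (Fin (m + 4)) F) : G := (Additive.toMul (D.sH X) : D.VG).1

theorem sg_add (X Y : altM (Fin (m + 4)) F) : D.sg (X + Y) = D.sg X * D.sg Y := by
  rw [sg, map_add]; rfl

theorem sg_zero : D.sg 0 = 1 := by rw [sg, map_zero]; rfl

theorem sg_neg (X : altM (Fin (m + 4)) F) : D.sg (-X) = (D.sg X)⁻¹ :=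
  eq_inv_of_mul_eq_one_left (by rw [← D.sg_add, neg_add_cancel, D.sg_zero])

theorem sg_xA_lt {i j : Fin (m + 4)} (h : i < j) (a : F) : D.sg (xA i j a) = D.famV.B (a • ev i) (ev j) := by
  have e : D.sH (xA i j a) = D.bA i j a := by
    rw [sH, AddMonoidHom.finset_sum_apply, Finset.sum_eq_single (i, j)]
    · show D.bA i j ((xA i j a : altM (Fin (m + 4)) F).1 i j) = _
      congr 1
      simp [xA, xm, h.ne, h.ne']
    · rintro ⟨x, y⟩ hxy hne
      have hxy' : x < y := (Finset.mem_filter.1 hxy).2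
      show D.bA x y ((xA i j a : altM (Fin (m + 4)) F).1 x y) = 0
      have h0 : (xA i j a : altM (Fin (m + 4)) F).1 x y = 0 := by
        simp only [xA, xm, Matrix.sub_apply, Matrix.single_apply]
        rw [if_neg (fun e : i = x ∧ j = y => hne (by rw [e.1, e.2])),
          if_neg (fun e : j = x ∧ i = y => (lt_asymm h) (e.1 ▸ e.2 ▸ hxy')), sub_zero]
      rw [h0, map_zero]
    · intro hn; exact absurd (by simp [h]) hn
  rw [sg, e]; rfl

theorem sg_xA {i j : Fin (m + 4)} (h : i ≠ j) (a : F) : D.sg (xA i j a) = D.famV.B (a • ev i) (ev j) := by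
  rcases lt_or_gt_of_ne h with h | h
  · exact D.sg_xA_lt h a
  · rw [xA_swap j i, D.sg_xA_lt h, ← D.B_ij_swap]

theorem sg_conj_T {p q : Fin (m + 4)} (hpq : p ≠ q) (t : F) (X : altM (Fin (m + 4)) F) :
    D.θ (T p q t) * D.sg X * (D.θ (T p q t))⁻¹ = D.sg (cg (T p q t) X) := by
  let H : AddSubgroup (altM (Fin (m + 4)) F) :=
    { carrier := {X | D.θ (T p q t) * D.sg X * (D.θ (T p q t))⁻¹ = D.sg (cg (T p q t) X)}
      zero_mem' := by simp [D.sg_zero]
      add_mem' := fun {X Y} (hX : _ = _) (hY : _ = _) => by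
        show _ = _
        rw [map_add, D.sg_add, D.sg_add, ← hX, ← hY]; group
      neg_mem' := fun {X} (hX : _ = _) => by
        show _ = _
        rw [map_neg, D.sg_neg, D.sg_neg, ← hX]; group }
  refine mem_of_xA_mem (H := H) (fun i j hij a => ?_) X
  show _ = _
  rw [D.sg_xA hij, show D.θ = D.famV.θ from rfl, D.famV.B_conj, mulVec_smul]
  have main : ∀ (i j : Fin (m + 4)) (a : F), i ≠ j → q ≠ j →
      D.famV.B (a • ((T p q t : SL).1 *ᵥ ev i)) ((T p q t : SL).1 *ᵥ ev j) = D.sg (cg (T p q t) (xA i j a)) := by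
    intro i j a hij hqj
    rw [T_ev_ne hpq _ hqj.symm]
    by_cases hqi : q = i
    · subst hqi
      rw [T_ev_self hpq, smul_add, smul_smul, D.add_left', cg_T_move hpq hij, D.sg_add, D.sg_xA hij, mul_comm a]
      congr 1
      by_cases hpj : p = j
      · subst hpj
        rw [D.famV.B_dep, show xA p p (t * a) = (0 : altM (Fin (m + 4)) F) from
          Subtype.ext (by simp [xA, xm]), D.sg_zero]
      · rw [D.sg_xA hpj]
    · rw [T_ev_ne hpq _ (Ne.symm hqi), cg_T_fix hqi hqj, D.sg_xA hij]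
  by_cases hqj : q = j
  · subst hqj
    have := main q i (-a) hij.symm hij.symm
    rw [xA_swap i q, neg_neg] at this
    rw [← this, T_ev_ne hpq _ hij, ← D.B_coef_vec]
  · exact main i j a hij hqj

theorem sg_conj (A : SL) (X : altM (Fin (m + 4)) F) : D.θ A * D.sg X * (D.θ A)⁻¹ = D.sg (cg A X) := by
  let K : Subgroup SL :=
    { carrier := {A | ∀ X, D.θ A * D.sg X * (D.θ A)⁻¹ = D.sg (cg A X)}
      one_mem' := fun X => by rw [map_one, one_mul, inv_one, mul_one, cg_one]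
      mul_mem' := fun {A B} hA hB X => by
        rw [map_mul, cg_mul, ← hA, ← hB]; group
      inv_mem' := fun {A} hA X => by
        have := hA (cg A⁻¹ X)
        rw [← cg_mul, mul_inv_cancel, cg_one] at this
        rw [← this, map_inv]; group }
  have : K = ⊤ := LinearGroup.eq_top_of_transvection_mem fun i j hij c => by
    rw [← T_of_ne hij]; exact fun X => D.sg_conj_T hij c X
  exact (this ▸ Subgroup.mem_top A : A ∈ K) X

end Data

end Cfsg.Agent.KSG55.Om
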