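import Cfsg.Agent.KSG55.Om.Fam

set_option autoImplicit false

/-! Groups generated like the Weyl group of type `D`. -/

namespace Cfsg.Agent.KSG55.Om

open Equiv

variable {m : ℕ}

local notation "Ix" => Fin (m + 4)

/-- The action of a permutation on signed indices. -/
def sc (σ : Perm Ix) : Perm (Ix ⊕ Ix) := Equiv.sumCongr σ σ

/-- The defining relations of the group of type `D`. -/
structure WeylD (Q : Type*) [Group Q] (m : ℕ) where
  ψ : Perm (Fin (m + 4)) →* Q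
  z : Q
  ρ : Q →* Perm (Fin (m + 4) ⊕ Fin (m + 4))
  sq : z * z = 1
  braid : z * ψ (swap 2 0) * z = ψ (swap 2 0) * z * ψ (swap 2 0)
  comm : ∀ σ : Perm (Fin (m + 4)), ((σ 0 = 0 ∧ σ 1 = 1) ∨ σ = swap 0 1) → Commute z (ψ σ)
  ρψ : ∀ σ, ρ (ψ σ) = sc σ
  ρz : ρ z = swap (Sum.inl 0) (Sum.inr 1) * swap (Sum.inl 1) (Sum.inr 0)

namespace WeylD

variable {Q : Type*} [Group Q] (W : WeylD Q m)

/-- The double flip. -/
def Z0 : Q := W.z * W.ψ (swap 0 1)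

theorem comm_blk {σ : Perm Ix} (h : (σ 0 = 0 ∧ σ 1 = 1) ∨ (σ 0 = 1 ∧ σ 1 = 0)) : Commute W.z (W.ψ σ) := by
  rcases h with h | ⟨h0, h1⟩
  · exact W.comm σ (Or.inl h)
  · have e : σ = swap 0 1 * (swap 0 1 * σ) := by rw [← mul_assoc, swap_mul_self, one_mul]
    rw [e, map_mul]
    exact (W.comm _ (Or.inr rfl)).mul_right (W.comm _ (Or.inl ⟨by simp [h0], by simp [h1]⟩))

theorem swap_blk {σ : Perm Ix} (h : (σ 0 = 0 ∧ σ 1 = 1) ∨ (σ 0 = 1 ∧ σ 1 = 0)) :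
    swap (0 : Ix) 1 * σ = σ * swap 0 1 := by
  rw [← swap_apply_apply' σ 0 1]
  rcases h with ⟨h0, h1⟩ | ⟨h0, h1⟩
  · rw [h0, h1]
  · rw [h0, h1, swap_comm 1 0]
where
  swap_apply_apply' (σ : Perm Ix) (a b : Ix) : swap (σ a) (σ b) * σ = σ * swap a b :=
    (Equiv.mul_swap_eq_swap_mul σ a b).symm

theorem Z0_blk {σ : Perm Ix} (h : (σ 0 = 0 ∧ σ 1 = 1) ∨ (σ 0 = 1 ∧ σ 1 = 0)) : Commute (W.ψ σ) W.Z0 := by
  refine (W.comm_blk h).symm.mul_right ?_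
  show _ * _ = _ * _
  rw [← map_mul, ← map_mul, swap_blk h]

theorem Z0_sq : W.Z0 * W.Z0 = 1 := by
  rw [Z0, mul_assoc, ← mul_assoc (W.ψ (swap 0 1)), ← (W.comm _ (Or.inr rfl)).eq, mul_assoc, ← map_mul,
    swap_mul_self, map_one, mul_one, W.sq]

/-- Conjugates. -/
def Zc (σ : Perm Ix) : Q := W.ψ σ * W.Z0 * (W.ψ σ)⁻¹

theorem Zc_eq {σ τ : Perm Ix} (h : (σ 0 = τ 0 ∧ σ 1 = τ 1) ∨ (σ 0 = τ 1 ∧ σ 1 = τ 0)) : W.Zc σ = W.Zc τ := by
  have hb : ((τ⁻¹ * σ) 0 = 0 ∧ (τ⁻¹ * σ) 1 = 1) ∨ ((τ⁻¹ * σ) 0 = 1 ∧ (τ⁻¹ * σ) 1 = 0) := by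
    rcases h with ⟨a, b⟩ | ⟨a, b⟩
    · exact Or.inl ⟨by simp [a], by simp [b]⟩
    · exact Or.inr ⟨by simp [a], by simp [b]⟩
  calc W.Zc σ = W.ψ τ * (W.ψ (τ⁻¹ * σ) * W.Z0 * (W.ψ (τ⁻¹ * σ))⁻¹) * (W.ψ τ)⁻¹ := by
        rw [Zc, map_mul, map_inv]; group
    _ = _ := by rw [(W.Z0_blk hb).eq, mul_inv_cancel_right]; rfl

theorem Zc_conj (π σ : Perm Ix) : W.ψ π * W.Zc σ * (W.ψ π)⁻¹ = W.Zc (π * σ) := by
  rw [Zc, Zc, map_mul]; group

theorem Zc_sq (σ : Perm Ix) : W.Zc σ * W.Zc σ = 1 := by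
  rw [Zc, show W.ψ σ * W.Z0 * (W.ψ σ)⁻¹ * (W.ψ σ * W.Z0 * (W.ψ σ)⁻¹) = W.ψ σ * (W.Z0 * W.Z0) * (W.ψ σ)⁻¹ by group,
    W.Z0_sq, mul_one, mul_inv_cancel]

/-- A permutation sending `0, 1` to `a, b`. -/
def pp (a b : Ix) : Perm Ix := swap (swap 0 a 1) b * swap 0 a

theorem pp_zero {a b : Ix} (h : a ≠ b) : pp a b 0 = a := by
  rw [pp, Perm.mul_apply, swap_apply_left, swap_apply_of_ne_of_ne ?_ h]
  intro e
  exact ne01 ((swap (0 : Ix) a).injective ((swap_apply_left 0 a).trans e))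

theorem pp_one (a b : Ix) : pp a b 1 = b := by rw [pp, Perm.mul_apply, swap_apply_left]

/-- The flip of a pair. -/
def Zp (a b : Ix) : Q := W.Zc (pp a b)

theorem Zc_Zp (σ : Perm Ix) : W.Zc σ = W.Zp (σ 0) (σ 1) :=
  W.Zc_eq (Or.inl ⟨(pp_zero fun e => ne01 (σ.injective e)).symm, (pp_one _ _).symm⟩)

theorem Zp_symm {a b : Ix} (h : a ≠ b) : W.Zp a b = W.Zp b a :=
  W.Zc_eq (Or.inr ⟨by rw [pp_zero h, pp_one], by rw [pp_one, pp_zero h.symm]⟩)

theorem Z0_eq_Zp : W.Z0 = W.Zp 0 1 := by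
  have := W.Zc_Zp 1
  rwa [Zc, map_one, one_mul, inv_one, mul_one, Perm.one_apply, Perm.one_apply] at this

theorem overlap : W.Zp 0 1 * W.Zp 1 2 = W.Zp 0 2 := by
  set s := W.ψ (swap (0 : Ix) 1) with hs
  set t := W.ψ (swap (2 : Ix) 0) with ht
  have s2 : s * s = 1 := by rw [hs, ← map_mul, swap_mul_self, map_one]
  have t2 : t * t = 1 := by rw [ht, ← map_mul, swap_mul_self, map_one]
  have z_s : Commute W.z s := W.comm _ (Or.inr rfl)
  have e1 : swap (0 : Ix) 1 * swap 2 0 * swap 0 1 = swap 1 2 := by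
    refine Equiv.ext fun x => ?_
    simp only [Perm.mul_apply, swap_apply_def]
    split_ifs <;> simp_all [ne01, ne02, ne12, ne01.symm, ne02.symm, ne12.symm]
  have e2 : swap (2 : Ix) 0 * swap 0 1 * swap 2 0 = swap 1 2 := by
    refine Equiv.ext fun x => ?_
    simp only [Perm.mul_apply, swap_apply_def]
    split_ifs <;> simp_all [ne01, ne02, ne12, ne01.symm, ne02.symm, ne12.symm]
  have b1 : W.Zp 0 1 = W.z * s := by
    rw [← W.Z0_eq_Zp, Z0]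
  have b12 : W.Zp 1 2 = t * (W.z * s) * t := by
    rw [show t * (W.z * s) * t = W.Zc (swap 2 0) by
      rw [Zc, Z0, ← hs, ← ht, inv_eq_of_mul_eq_one_right t2]]
    rw [W.Zc_Zp, swap_apply_right, swap_apply_of_ne_of_ne ne12 ne01.symm, W.Zp_symm ne12]
  have b02 : W.Zp 0 2 = s * t * s * (W.z * s) * (s * t * s) := by
    have e : W.ψ (swap (1 : Ix) 2) = s * t * s := by rw [← e1, map_mul, map_mul]
    have i : (s * t * s)⁻¹ = s * t * s := by
      rw [mul_inv_rev, mul_inv_rev, inv_eq_of_mul_eq_one_right s2, inv_eq_of_mul_eq_one_right t2, mul_assoc]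
    rw [show s * t * s * (W.z * s) * (s * t * s) = W.Zc (swap 1 2) by rw [Zc, Z0, e, i, ← hs]]
    rw [W.Zc_Zp, swap_apply_left, swap_apply_of_ne_of_ne ne01 ne02]
  have e12 : t * s * t = s * t * s := by rw [hs, ht, ← map_mul, ← map_mul, ← map_mul, ← map_mul, e1, e2]
  have br : W.z * t * W.z = t * W.z * t := W.braid
  rw [b1, b12, b02]
  calc W.z * s * (t * (W.z * s) * t) = (W.z * s) * t * W.z * (s * t) := by group
    _ = s * (W.z * t * W.z) * (s * t) := by rw [z_s.eq]; group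
    _ = s * t * W.z * (t * s * t) := by rw [br]; group
    _ = s * t * W.z * (s * t * s) := by rw [e12]
    _ = s * t * (W.z * (s * s)) * (s * t * s) := by rw [s2, mul_one]
    _ = s * t * s * (W.z * s) * (s * t * s) := by
      rw [show W.z * (s * s) = s * (W.z * s) by rw [← mul_assoc, ← mul_assoc, z_s.eq]]; group

theorem overlap' {a b c : Ix} (hab : a ≠ b) (hbc : b ≠ c) (hac : a ≠ c) : W.Zp a b * W.Zp b c = W.Zp a c := by
  obtain ⟨σ, hσ⟩ : ∃ σ, σ = swap (pp a b 2) c * pp a b := ⟨_, rfl⟩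
  have k0 : pp a b 2 ≠ a := fun e => ne02 ((pp a b).injective ((pp_zero hab).trans e.symm))
  have k1 : pp a b 2 ≠ b := fun e => ne12 ((pp a b).injective ((pp_one a b).trans e.symm))
  have s0 : σ 0 = a := by simp [hσ, pp_zero hab, swap_apply_of_ne_of_ne k0.symm hac]
  have s1 : σ 1 = b := by simp [hσ, pp_one, swap_apply_of_ne_of_ne k1.symm hbc]
  have s2 : σ 2 = c := by simp [hσ]
  have key : ∀ x y : Ix, x ≠ y → W.ψ σ * W.Zp x y * (W.ψ σ)⁻¹ = W.Zp (σ x) (σ y) := fun x y h => by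
    rw [Zp, W.Zc_conj, W.Zc_Zp, Perm.mul_apply, Perm.mul_apply, pp_zero h, pp_one]
  rw [← s0, ← s1, ← s2, ← key _ _ ne01, ← key _ _ ne12, ← key _ _ ne02, ← W.overlap]
  group

/-- The flip of `0` and `j`. -/
def ζ (j : Ix) : Q := if j = 0 then 1 else W.Zp 0 j

theorem ζ_sq (j : Ix) : W.ζ j * W.ζ j = 1 := by
  rw [ζ]; split_ifs
  · rw [one_mul]
  · exact W.Zc_sq _

theorem ζ_ne {j : Ix} (h : j ≠ 0) : W.ζ j = W.Zp 0 j := if_neg h

theorem ζ_mul {i j : Ix} (hij : i ≠ j) (hi : i ≠ 0) (hj : j ≠ 0) : W.ζ i * W.ζ j = W.Zp i j := by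
  rw [W.ζ_ne hi, W.ζ_ne hj, W.Zp_symm (Ne.symm hi), W.overlap' hi (Ne.symm hj) hij]

theorem ζ_comm (i j : Ix) : Commute (W.ζ i) (W.ζ j) := by
  by_cases hij : i = j
  · subst hij; exact Commute.refl _
  by_cases hi : i = 0
  · rw [ζ, if_pos hi]; exact Commute.one_left _
  by_cases hj : j = 0
  · rw [show W.ζ j = 1 from if_pos hj]; exact Commute.one_right _
  show _ = _
  rw [W.ζ_mul hij hi hj, W.ζ_mul (Ne.symm hij) hj hi, W.Zp_symm hij]

/-- The abelian subgroup of flips. -/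
def Zs : Subgroup Q := Subgroup.closure (Set.range W.ζ)

theorem Zp_mem {a b : Ix} (h : a ≠ b) : W.Zp a b ∈ W.Zs := by
  have hm : ∀ j, W.ζ j ∈ W.Zs := fun j => Subgroup.subset_closure ⟨j, rfl⟩
  by_cases ha : a = 0
  · subst ha; rw [← W.ζ_ne h.symm]; exact hm b
  by_cases hb : b = 0
  · subst hb; rw [W.Zp_symm h, ← W.ζ_ne ha]; exact hm a
  · rw [← W.ζ_mul h ha hb]; exact mul_mem (hm a) (hm b)

theorem ψ_norm (π : Perm Ix) {x : Q} (hx : x ∈ W.Zs) : W.ψ π * x * (W.ψ π)⁻¹ ∈ W.Zs := by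
  induction hx using Subgroup.closure_induction with
  | mem x hx =>
    obtain ⟨j, rfl⟩ := hx
    by_cases hj : j = 0
    · rw [ζ, if_pos hj, mul_one, mul_inv_cancel]; exact one_mem _
    · rw [W.ζ_ne hj, Zp, W.Zc_conj, W.Zc_Zp]
      exact W.Zp_mem fun e => ne01 ((π * pp 0 j).injective e)
  | one => rw [mul_one, mul_inv_cancel]; exact one_mem _
  | mul x y _ _ hx hy => rw [← conj_mul]; exact mul_mem hx hy
  | inv x _ hx => rw [← conj_inv]; exact inv_mem hx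

theorem z_eq : W.z = W.ζ 1 * W.ψ (swap 0 1) := by
  rw [W.ζ_ne ne01.symm, ← W.Z0_eq_Zp, Z0, mul_assoc, ← map_mul, swap_mul_self, map_one, mul_one]

theorem form {q : Q} (hq : q ∈ Subgroup.closure (Set.range W.ψ ∪ {W.z})) :
    ∃ x ∈ W.Zs, ∃ σ, q = x * W.ψ σ := by
  induction hq using Subgroup.closure_induction with
  | mem q hq =>
    rcases hq with ⟨σ, rfl⟩ | rfl
    · exact ⟨1, one_mem _, σ, (one_mul _).symm⟩
    · exact ⟨W.ζ 1, Subgroup.subset_closure ⟨1, rfl⟩, _, W.z_eq⟩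
  | one => exact ⟨1, one_mem _, 1, by rw [map_one, mul_one]⟩
  | mul q r _ _ hq hr =>
    obtain ⟨x, hx, σ, rfl⟩ := hq
    obtain ⟨y, hy, τ, rfl⟩ := hr
    exact ⟨x * (W.ψ σ * y * (W.ψ σ)⁻¹), mul_mem hx (W.ψ_norm σ hy), σ * τ, by rw [map_mul]; group⟩
  | inv q _ hq =>
    obtain ⟨x, hx, σ, rfl⟩ := hq
    exact ⟨W.ψ σ⁻¹ * x⁻¹ * (W.ψ σ⁻¹)⁻¹, W.ψ_norm _ (inv_mem hx), σ⁻¹, by rw [map_inv]; group⟩

/-- The product over a list. -/
def zl (L : List Ix) : Q := (L.map W.ζ).prod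

theorem zl_cons (j : Ix) (L : List Ix) : W.zl (j :: L) = W.ζ j * W.zl L := List.prod_cons

theorem zl_perm {L L' : List Ix} (h : L.Perm L') : W.zl L = W.zl L' := by
  refine (h.map W.ζ).prod_eq' (List.pairwise_map.mpr (List.pairwise_of_forall fun i j => W.ζ_comm i j))

theorem Zs_list {x : Q} (hx : x ∈ W.Zs) : ∃ L : List Ix, L.Nodup ∧ 0 ∉ L ∧ x = W.zl L := by
  have step : ∀ (j : Ix) (L : List Ix), L.Nodup → 0 ∉ L →
      ∃ L' : List Ix, L'.Nodup ∧ 0 ∉ L' ∧ W.ζ j * W.zl L = W.zl L' := by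
    intro j L hL h0
    by_cases hj : j = 0
    · exact ⟨L, hL, h0, by rw [ζ, if_pos hj, one_mul]⟩
    by_cases hjL : j ∈ L
    · refine ⟨L.erase j, hL.erase j, fun h => h0 (List.mem_of_mem_erase h), ?_⟩
      rw [W.zl_perm (List.perm_cons_erase hjL), zl_cons, ← mul_assoc, W.ζ_sq, one_mul]
    · exact ⟨j :: L, List.nodup_cons.mpr ⟨hjL, hL⟩, by simp [Ne.symm hj, h0], (W.zl_cons j L).symm⟩
  have hi : ∀ j, (W.ζ j)⁻¹ = W.ζ j := fun j => inv_eq_of_mul_eq_one_right (W.ζ_sq j)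
  induction hx using Subgroup.closure_induction_left with
  | one => exact ⟨[], List.nodup_nil, by simp, rfl⟩
  | mul_left g hg y _ hy =>
    obtain ⟨j, rfl⟩ := hg
    obtain ⟨L, a, b, rfl⟩ := hy
    exact step j L a b
  | inv_mul_cancel g hg y _ hy =>
    obtain ⟨j, rfl⟩ := hg
    obtain ⟨L, a, b, rfl⟩ := hy
    rw [hi]
    exact step j L a b

theorem ρ_Zp {a b : Ix} (h : a ≠ b) (k : Ix) :
    W.ρ (W.Zp a b) (Sum.inl k) = (if k = a ∨ k = b then Sum.inr k else Sum.inl k) ∧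
      W.ρ (W.Zp a b) (Sum.inr k) = (if k = a ∨ k = b then Sum.inl k else Sum.inr k) := by
  have e : W.ρ (W.Zp a b) = sc (pp a b) * (W.ρ W.z * sc (swap 0 1)) * (sc (pp a b))⁻¹ := by
    rw [Zp, Zc, Z0, map_mul, map_mul, map_inv, map_mul, W.ρψ, W.ρψ]
  have hk : k = pp a b ((pp a b)⁻¹ k) := by simp
  have iff : (k = a ∨ k = b) ↔ ((pp a b)⁻¹ k = 0 ∨ (pp a b)⁻¹ k = 1) := by
    constructor
    · rintro (rfl | rfl)
      · exact Or.inl (by rw [Perm.inv_eq_iff_eq, pp_zero h])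
      · exact Or.inr (by rw [Perm.inv_eq_iff_eq, pp_one])
    · rintro (e | e)
      · exact Or.inl (by rw [hk, e, pp_zero h])
      · exact Or.inr (by rw [hk, e, pp_one])
  rw [e, W.ρz]
  set j := (pp a b)⁻¹ k with hj
  have il : (sc (pp a b))⁻¹ (Sum.inl k) = Sum.inl j := rfl
  have ir : (sc (pp a b))⁻¹ (Sum.inr k) = Sum.inr j := rfl
  have base : ∀ i : Ix,
      ((swap (Sum.inl 0) (Sum.inr 1) * swap (Sum.inl 1) (Sum.inr 0) * sc (swap 0 1) : Perm (Ix ⊕ Ix))) (Sum.inl i) =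
        (if i = 0 ∨ i = 1 then Sum.inr i else Sum.inl i) ∧
      ((swap (Sum.inl 0) (Sum.inr 1) * swap (Sum.inl 1) (Sum.inr 0) * sc (swap 0 1) : Perm (Ix ⊕ Ix))) (Sum.inr i) =
        (if i = 0 ∨ i = 1 then Sum.inl i else Sum.inr i) := by
    intro i
    by_cases h0 : i = 0
    · subst h0; simp [sc, swap_apply_def, ne01, ne01.symm]
    by_cases h1 : i = 1
    · subst h1; simp [sc, swap_apply_def, ne01, ne01.symm]
    · simp [sc, swap_apply_def, h0, h1]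
  constructor
  · rw [Perm.mul_apply (sc (pp a b) * _), Perm.mul_apply (sc (pp a b)), il, (base j).1, if_congr iff rfl rfl,
      apply_ite (sc (pp a b))]
    simp [sc, hk]
  · rw [Perm.mul_apply (sc (pp a b) * _), Perm.mul_apply (sc (pp a b)), ir, (base j).2, if_congr iff rfl rfl,
      apply_ite (sc (pp a b))]
    simp [sc, hk]

theorem ρ_ζ {i : Ix} (hi : i ≠ 0) {k : Ix} (hk : k ≠ 0) :
    W.ρ (W.ζ i) (Sum.inl k) = (if k = i then Sum.inr k else Sum.inl k) ∧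
      W.ρ (W.ζ i) (Sum.inr k) = (if k = i then Sum.inl k else Sum.inr k) := by
  have := W.ρ_Zp (Ne.symm hi) k
  rw [← W.ζ_ne hi] at this
  simpa [hk] using this

theorem ρ_zl {L : List Ix} (hL : L.Nodup) (h0 : 0 ∉ L) {k : Ix} (hk : k ≠ 0) :
    W.ρ (W.zl L) (Sum.inl k) = (if k ∈ L then Sum.inr k else Sum.inl k) ∧
      W.ρ (W.zl L) (Sum.inr k) = (if k ∈ L then Sum.inl k else Sum.inr k) := by
  induction L with
  | nil => simp [zl]
  | cons i L ih =>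
    simp only [List.mem_cons, not_or] at h0
    obtain ⟨hiL, hL'⟩ := List.nodup_cons.mp hL
    obtain ⟨a, b⟩ := ih hL' h0.2
    obtain ⟨c, d⟩ := W.ρ_ζ (Ne.symm h0.1) hk
    rw [zl_cons, map_mul, Perm.mul_apply, Perm.mul_apply, a, b]
    by_cases hki : k = i
    · subst hki; simp [hiL, c, d]
    · by_cases hkL : k ∈ L <;> simp [hki, hkL, c, d]

/-- The action on signed indices is faithful. -/
theorem inj {q : Q} (hq : q ∈ Subgroup.closure (Set.range W.ψ ∪ {W.z})) (h : W.ρ q = 1) : q = 1 := by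
  obtain ⟨x, hx, σ, rfl⟩ := W.form hq
  obtain ⟨L, hL, h0, rfl⟩ := W.Zs_list hx
  cases L with
  | cons j L' =>
    have hj : j ≠ 0 := fun e => h0 (by simp [e])
    have := congrArg (fun p : Perm (Ix ⊕ Ix) => p (Sum.inl (σ⁻¹ j))) h
    simp only [map_mul, Perm.mul_apply, Perm.one_apply, W.ρψ] at this
    rw [show sc σ (Sum.inl (σ⁻¹ j)) = Sum.inl j by simp [sc], (W.ρ_zl hL h0 hj).1, if_pos (by simp)] at this
    cases this
  | nil =>
    have e : σ = 1 := Equiv.ext fun k => by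
      have := congrArg (fun p : Perm (Ix ⊕ Ix) => p (Sum.inl k)) h
      simpa [zl, W.ρψ, sc] using this
    simp [zl, e]

end WeylD

end Cfsg.Agent.KSG55.Om
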