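import Cfsg.Agent.KSG55.Om.Model
import Cfsg.Agent.KSG55.Om.WeylAbs

set_option autoImplicit false

/-! The monomial part maps injectively. -/

namespace Cfsg.Agent.KSG55.Om

open Matrix Cfsg.Agent.CharB.PSLMult Cfsg.Agent.KSG55.Lin Cfsg.Agent.ClassMult Cfsg.Agent.UnitaryOrthogonal

variable {F : Type*} [Field F] {m : ℕ}

local notation "SL" => SpecialLinearGroup (Fin (m + 4)) F
local notation "Ix" => Fin (m + 4)

/-- The diagonal elements. -/
def DiagS : Subgroup SL where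
  carrier := {A | ∃ c, Mono A 1 c}
  one_mem' := ⟨_, Mono.one⟩
  mul_mem' := fun {A B} ⟨_, hA⟩ ⟨_, hB⟩ => ⟨_, by simpa using hA.mul hB⟩
  inv_mem' := fun {A} ⟨_, hA⟩ => ⟨_, by simpa using hA.inv⟩

theorem DiagS.dg_mem (p q : Ix) {a : F} (ha : a ≠ 0) : (dg p q ha : SL) ∈ DiagS := ⟨_, dg_mono p q ha⟩

theorem Mono.same {A B : SL} {σ : Equiv.Perm Ix} {c d : Ix → F} (hA : Mono A σ c) (hB : Mono B σ d) :
    A⁻¹ * B ∈ DiagS := ⟨_, by simpa using hA.inv.mul hB⟩

theorem Mono.conj_diag {A : SL} {σ : Equiv.Perm Ix} {c : Ix → F} (hA : Mono A σ c) {d : SL} (hd : d ∈ DiagS) :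
    A * d * A⁻¹ ∈ DiagS := by
  obtain ⟨e, he⟩ := hd
  exact ⟨_, by simpa using (hA.mul he).mul hA.inv⟩

theorem diag_le {K : Subgroup SL} (r : Ix) (h : ∀ k, k ≠ r → ∀ a : F, ∀ ha : a ≠ 0, (dg k r ha : SL) ∈ K) :
    DiagS ≤ K := by
  classical
  suffices key : ∀ (S : Finset Ix), r ∉ S → ∀ (A : SL) (c : Ix → F), Mono A 1 c →
      (∀ k, k ≠ r → k ∉ S → c k = 1) → A ∈ K from
    fun A ⟨c, hA⟩ => key (Finset.univ.erase r) (by simp) A c hA (fun k hk hk' => absurd (by simp [hk]) hk')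
  intro S
  induction S using Finset.induction_on with
  | empty =>
    intro _ A c hA hc
    have hdet : c r = 1 := by
      have e : A.1 = Matrix.diagonal c := Matrix.ext_of_mulVec_single fun k => by
        rw [show A.1 *ᵥ Pi.single k 1 = _ from hA k]
        funext x; by_cases hx : x = k <;> simp [mulVec_diagonal, hx]
      have := A.2
      rw [e, det_diagonal, Finset.prod_eq_single r (fun k _ hk => hc k hk (by simp)) (by simp)] at this
      exact this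
    have : A = 1 := sl_ext fun k => by
      rw [hA k, show (c k) = 1 from if h : k = r then h ▸ hdet else hc k h (by simp), one_smul]
      exact (one_mulVec _).symm
    rw [this]; exact one_mem K
  | @insert a S ha ih =>
    intro hr A c hA hc
    simp only [Finset.mem_insert, not_or] at hr
    have hne := hA.ne_zero a
    have h' := ih hr.2 ((dg a r hne)⁻¹ * A) _ ((dg_mono a r hne).inv.mul hA) (fun k hk hkS => by
      by_cases hka : k = a
      · subst hka; simp [dvec, hk, hne]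
      · simp [dvec, hk, hka, hc k hk (by simp [hka, hkS])])
    simpa using mul_mem (h a (Ne.symm hr.1) _ hne) h'

/-- Rescaling the two root groups of `SL₂`. -/
def dconj (k : Fˣ) : SpecialLinearGroup (Fin 2) F →* SpecialLinearGroup (Fin 2) F where
  toFun M := ⟨!![M.1 0 0, (k : F) * M.1 0 1; M.1 1 0 * ((k⁻¹ : Fˣ) : F), M.1 1 1], by
    rw [det_fin_two_of]
    have := M.2
    rw [det_fin_two] at this
    rw [show (k : F) * M.1 0 1 * (M.1 1 0 * ((k⁻¹ : Fˣ) : F)) = M.1 0 1 * M.1 1 0 * ((k : F) * ((k⁻¹ : Fˣ) : F)) by ring,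
      Units.mul_inv, mul_one, this]⟩
  map_one' := by apply Subtype.ext; simp [Matrix.one_fin_two]
  map_mul' M N := by
    apply Subtype.ext
    ext i j
    show (!![(M.1 * N.1) 0 0, (k : F) * (M.1 * N.1) 0 1; (M.1 * N.1) 1 0 * ((k⁻¹ : Fˣ) : F), (M.1 * N.1) 1 1] :
        Matrix (Fin 2) (Fin 2) F) i j = ((!![M.1 0 0, (k : F) * M.1 0 1; M.1 1 0 * ((k⁻¹ : Fˣ) : F), M.1 1 1] :
        Matrix (Fin 2) (Fin 2) F) * !![N.1 0 0, (k : F) * N.1 0 1; N.1 1 0 * ((k⁻¹ : Fˣ) : F), N.1 1 1]) i j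
    fin_cases i <;> fin_cases j <;> simp [Matrix.mul_apply, Fin.sum_univ_two] <;> field_simp

theorem dconj_coe (k : Fˣ) (M : SpecialLinearGroup (Fin 2) F) :
    (dconj k M).1 = !![M.1 0 0, (k : F) * M.1 0 1; M.1 1 0 * ((k⁻¹ : Fˣ) : F), M.1 1 1] := rfl

theorem dconj_mU (k : Fˣ) (t : F) : dconj k (mU t) = mU ((k : F) * t) := by
  apply Subtype.ext; simp [dconj_coe]

theorem dconj_mL (k : Fˣ) (t : F) : dconj k (mL t) = mL (t * ((k⁻¹ : Fˣ) : F)) := by
  apply Subtype.ext; simp [dconj_coe]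

theorem dconj_mH (k c : Fˣ) : dconj k (mH c) = mH c := by
  apply Subtype.ext; simp [dconj_coe]

theorem e2_mH {p q : Ix} (h : p ≠ q) (c : Fˣ) : e2 h (mH c) = (dg p q c.ne_zero : SL) := by
  apply Subtype.ext
  show 1 + incl F p q * (((mH c).1 - 1) * (incl F p q)ᵀ) = Matrix.diagonal (dvec p q (c : F))
  rw [show (mH c).1 - 1 = Matrix.single (0 : Fin 2) 0 ((c : F) - 1) + Matrix.single 1 1 ((c : F)⁻¹ - 1) by
    ext i j; fin_cases i <;> fin_cases j <;> simp, Matrix.add_mul, Matrix.mul_add, incl_single, incl_single]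
  ext i j
  by_cases hij : i = j
  · subst hij
    by_cases hp : i = p
    · subst hp; simp [dvec, h, h.symm]
    by_cases hq : i = q
    · subst hq; simp [dvec, h, h.symm]
    · simp [dvec, hp, hq, Ne.symm hp, Ne.symm hq]
  · have : ∀ a : Ix, ¬(a = i ∧ a = j) := fun a e => hij (e.1.symm.trans e.2)
    simp [one_apply_ne hij, single_apply, hij, this]

theorem swap3 {a b c : Ix} (hab : a ≠ b) (hac : a ≠ c) :
    Equiv.swap a c = Equiv.swap b c * Equiv.swap b a * Equiv.swap b c := by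
  conv_rhs => rw [show Equiv.swap b c * Equiv.swap b a * Equiv.swap b c =
    Equiv.swap b c * Equiv.swap b a * (Equiv.swap b c)⁻¹ by rw [Equiv.swap_inv],
    ← Equiv.swap_apply_apply, Equiv.swap_apply_left, Equiv.swap_apply_of_ne_of_ne hab hac]
  exact Equiv.swap_comm a c

namespace Data

variable {G : Type*} [Group G] (D : Data F m G) [Finite F]

/-- The torus element of the crossed root. -/
def κH (c : Fˣ) : G := D.κ (mH c)

theorem κ_conj {g : G} {k : Fˣ} (hV : ∀ t, g * D.V01 t * g⁻¹ = D.V01 ((k : F) * t))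
    (hW : ∀ t, g * D.W01 t * g⁻¹ = D.W01 (t * ((k⁻¹ : Fˣ) : F))) (M : SpecialLinearGroup (Fin 2) F) :
    g * D.κ M * g⁻¹ = D.κ (dconj k M) := by
  let f : SpecialLinearGroup (Fin 2) F →* G := (MulAut.conj g).toMonoidHom.comp D.κ
  let f' : SpecialLinearGroup (Fin 2) F →* G := D.κ.comp (dconj k)
  have hU : ∀ t, mU t ∈ f.eqLocus f' := fun t => by
    show g * D.κ (mU t) * g⁻¹ = D.κ (dconj k (mU t))
    rw [dconj_mU, D.κ_mU, D.κ_mU, hV]
  have hL : ∀ t, mL t ∈ f.eqLocus f' := fun t => by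
    show g * D.κ (mL t) * g⁻¹ = D.κ (dconj k (mL t))
    rw [dconj_mL, D.κ_mL, D.κ_mL, hW, neg_mul]
  have : f.eqLocus f' = ⊤ := eq_top_of_mem (by rw [mT_eq]; exact mul_mem (mul_mem (hU 1) (hL (-1))) (hU 1)) hU
  exact (this ▸ Subgroup.mem_top M : M ∈ f.eqLocus f')

theorem mono_blk {A : SL} {σ : Equiv.Perm Ix} {c : Ix → F} (hA : Mono A σ c) {k : Fˣ}
    (hk : (σ 0 = 0 ∧ σ 1 = 1 ∧ (k : F) = c 0 * c 1) ∨ (σ 0 = 1 ∧ σ 1 = 0 ∧ (k : F) = -(c 0 * c 1)))
    (M : SpecialLinearGroup (Fin 2) F) : D.θ A * D.κ M * (D.θ A)⁻¹ = D.κ (dconj k M) := by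
  have hAW : D.θ A = D.famW.θ (τ A) := by show _ = D.θ (τ (τ _)); rw [τ_τ]
  refine D.κ_conj (fun t => ?_) (fun t => ?_) M
  · rw [D.V01_scale, D.V01_scale, show D.θ = D.famV.θ from rfl, D.famV.B_conj, mulVec_smul, hA, hA, smul_smul,
      D.famV.coef]
    rcases hk with ⟨h0, h1, e⟩ | ⟨h0, h1, e⟩
    · rw [h0, h1, e]; congr 2; ring
    · rw [h0, h1, e, D.famV.ij_swap]; congr 2; ring
  · rw [D.W01_scale, D.W01_scale, hAW, D.famW.B_conj, mulVec_smul, τ_mono hA, τ_mono hA, smul_smul,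
      D.famW.coef, Units.val_inv_eq_inv_val]
    have n0 := hA.ne_zero 0; have n1 := hA.ne_zero 1
    rcases hk with ⟨h0, h1, e⟩ | ⟨h0, h1, e⟩
    · rw [h0, h1, e]; congr 2; field_simp
    · rw [h0, h1, e, D.famW.ij_swap]; congr 2; field_simp

theorem diag_κ {d : SL} (hd : d ∈ DiagS) : ∃ k : Fˣ, ∀ M, D.θ d * D.κ M * (D.θ d)⁻¹ = D.κ (dconj k M) := by
  obtain ⟨c, hc⟩ := hd
  exact ⟨Units.mk0 _ (mul_ne_zero (hc.ne_zero 0) (hc.ne_zero 1)), fun M =>
    D.mono_blk hc (Or.inl ⟨rfl, rfl, rfl⟩) M⟩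

theorem κH_comm {d : SL} (hd : d ∈ DiagS) (c : Fˣ) : Commute (D.θ d) (D.κH c) := by
  obtain ⟨k, hk⟩ := D.diag_κ hd
  have := hk (mH c)
  rw [dconj_mH, mul_inv_eq_iff_eq_mul] at this
  exact this

theorem κH_mul (c c' : Fˣ) : D.κH c * D.κH c' = D.κH (c * c') := by
  rw [κH, κH, κH, ← map_mul]
  exact congrArg D.κ (map_mul mHHom c c').symm

/-- The torus. -/
def HT : Subgroup G where
  carrier := {g | ∃ d ∈ DiagS, ∃ c, g = D.θ d * D.κH c}
  one_mem' := ⟨1, one_mem _, 1, by rw [map_one, one_mul, κH, show (mH 1 : SpecialLinearGroup (Fin 2) F) = 1 from map_one mHHom, map_one]⟩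
  mul_mem' := fun {a b} ⟨d, hd, c, ha⟩ ⟨d', hd', c', hb⟩ => ⟨d * d', mul_mem hd hd', c * c', by
    rw [ha, hb, map_mul, ← D.κH_mul, mul_assoc, ← mul_assoc (D.κH c), ← (D.κH_comm hd' c).eq]; group⟩
  inv_mem' := fun {a} ⟨d, hd, c, ha⟩ => ⟨d⁻¹, inv_mem hd, c⁻¹, by
    have e : D.κH c⁻¹ = (D.κH c)⁻¹ := by rw [κH, κH, ← mH_inv, map_inv]
    rw [ha, e, (D.κH_comm hd c).eq, _root_.mul_inv_rev, map_inv]⟩

theorem θ_HT {d : SL} (hd : d ∈ DiagS) : D.θ d ∈ D.HT :=
  ⟨d, hd, 1, by rw [κH, show (mH 1 : SpecialLinearGroup (Fin 2) F) = 1 from map_one mHHom, map_one, mul_one]⟩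

theorem κH_HT (c : Fˣ) : D.κH c ∈ D.HT := ⟨1, one_mem _, c, by rw [map_one, one_mul]⟩

theorem z_dg20 (c : Fˣ) : D.z * D.θ (dg 2 0 c.ne_zero) * D.z⁻¹ = D.θ (dg 2 0 c.ne_zero) * D.κH c := by
  set d : SL := dg 2 0 c.ne_zero
  have h := D.mono_blk (k := c) (dg_mono 2 0 c.ne_zero).inv (Or.inl ⟨by simp, by simp, by
    simp [dvec, ne12, ne01.symm, ne02]⟩) mT
  rw [map_inv, inv_inv, D.κ_mT] at h
  have e : D.κ (dconj c mT) = D.κH c * D.z := by
    rw [κH, ← D.κ_mT, ← map_mul]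
    congr 1
    apply Subtype.ext; simp [dconj_coe]
  rw [e] at h
  calc D.z * D.θ d * D.z⁻¹ = D.θ d * ((D.θ d)⁻¹ * D.z * D.θ d) * D.z⁻¹ := by group
    _ = _ := by rw [h, mul_assoc (D.θ d), mul_inv_cancel_right]

theorem κH_eq (c : Fˣ) : D.κH c = (D.θ (dg 2 0 c.ne_zero))⁻¹ * D.z * D.θ (dg 2 0 c.ne_zero) * D.z⁻¹ := by
  rw [mul_assoc _ D.z, mul_assoc _ (D.z * _), D.z_dg20, inv_mul_cancel_left]

theorem z_diag {d : SL} (hd : d ∈ DiagS) : D.z * D.θ d * D.z⁻¹ ∈ D.HT := by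
  have : DiagS ≤ D.HT.comap ((MulAut.conj D.z).toMonoidHom.comp D.θ) := by
    have fix : ∀ (p q : Ix) (_ : p ≠ q) (_ : SameBlk p q) (a : F) (ha : a ≠ 0),
        (dg p q ha : SL) ∈ D.HT.comap ((MulAut.conj D.z).toMonoidHom.comp D.θ) := fun p q hpq hb a ha => by
      show D.z * D.θ (dg p q ha) * D.z⁻¹ ∈ D.HT
      rw [(D.mem_Kz.mp (D.dg_Kz hpq hb ha)).eq, mul_inv_cancel_right]
      exact D.θ_HT (DiagS.dg_mem p q ha)
    have h20 : ∀ (a : F) (ha : a ≠ 0),
        (dg 2 0 ha : SL) ∈ D.HT.comap ((MulAut.conj D.z).toMonoidHom.comp D.θ) := fun a ha => by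
      show D.z * D.θ (dg 2 0 ha) * D.z⁻¹ ∈ D.HT
      rw [show D.z * D.θ (dg 2 0 ha) * D.z⁻¹ = D.θ (dg 2 0 ha) * D.κH (Units.mk0 a ha) from
        D.z_dg20 (Units.mk0 a ha)]
      exact mul_mem (D.θ_HT (DiagS.dg_mem 2 0 ha)) (D.κH_HT _)
    refine diag_le 2 fun k hk a ha => ?_
    by_cases k0 : k = 0
    · subst k0
      have e : (dg 0 2 ha : SL) = dg 2 0 (inv_ne_zero ha) := sl_ext fun l => by
        rw [dg_mono, dg_mono]; congr 1
        by_cases l0 : l = 0 <;> by_cases l2 : l = 2 <;> simp_all [dvec]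
      rw [e]; exact h20 _ _
    by_cases k1 : k = 1
    · subst k1
      have e : (dg 1 2 ha : SL) = dg 1 0 ha * (dg 2 0 ha)⁻¹ := sl_ext fun l => by
        rw [(dg_mono 1 0 ha).mul (dg_mono 2 0 ha).inv, dg_mono]
        by_cases l0 : l = 0 <;> by_cases l1 : l = 1 <;> by_cases l2 : l = 2 <;>
          simp_all [dvec, ne01, ne02, ne12, ne01.symm, ne02.symm, ne12.symm]
      rw [e]
      exact mul_mem (fix 1 0 ne01.symm (by simp [SameBlk]) a ha) (inv_mem (h20 a ha))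
    exact fix k 2 hk (sameBlk_of_rest k0 k1 ne02.symm ne12.symm) a ha
  exact this hd

/-- Elements normalising the torus. -/
def NT : Subgroup G where
  carrier := {g | (∀ h ∈ D.HT, g * h * g⁻¹ ∈ D.HT) ∧ ∀ h ∈ D.HT, g⁻¹ * h * g ∈ D.HT}
  one_mem' := by constructor <;> intro h hh <;> simpa
  mul_mem' := fun {a b} ha hb => by
    refine ⟨fun h hh => ?_, fun h hh => ?_⟩
    · rw [show a * b * h * (a * b)⁻¹ = a * (b * h * b⁻¹) * a⁻¹ by group]; exact ha.1 _ (hb.1 h hh)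
    · rw [show (a * b)⁻¹ * h * (a * b) = b⁻¹ * (a⁻¹ * h * a) * b by group]; exact hb.2 _ (ha.2 h hh)
  inv_mem' := fun {a} ha => ⟨fun h hh => by simpa using ha.2 h hh, fun h hh => by simpa using ha.1 h hh⟩

/-- Monomial elements conjugating the torus into itself. -/
def Good (A : SL) : Prop := ∀ h ∈ D.HT, D.θ A * h * (D.θ A)⁻¹ ∈ D.HT

theorem good_of_κH {A : SL} {σ : Equiv.Perm Ix} {c : Ix → F} (hA : Mono A σ c)
    (h : ∀ u, D.θ A * D.κH u * (D.θ A)⁻¹ ∈ D.HT) : D.Good A := by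
  rintro _ ⟨d, hd, u, rfl⟩
  rw [← conj_mul, ← map_inv, ← map_mul, ← map_mul, map_inv]
  exact mul_mem (D.θ_HT (hA.conj_diag hd)) (h u)

theorem Good.mul {A B : SL} (hA : D.Good A) (hB : D.Good B) : D.Good (A * B) := fun h hh => by
  rw [map_mul, show D.θ A * D.θ B * h * (D.θ A * D.θ B)⁻¹ = D.θ A * (D.θ B * h * (D.θ B)⁻¹) * (D.θ A)⁻¹ by group]
  exact hA _ (hB h hh)

theorem diag_good {d : SL} (hd : d ∈ DiagS) : D.Good d := fun h hh =>
  mul_mem (mul_mem (D.θ_HT hd) hh) (inv_mem (D.θ_HT hd))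

theorem good_mono {A : SL} {σ : Equiv.Perm Ix} {c : Ix → F} (hA : Mono A σ c) : D.Good A := by
  suffices h : ∃ B : SL, (∃ d, Mono B σ d) ∧ D.Good B by
    obtain ⟨B, ⟨d, hB⟩, hg⟩ := h
    have := Good.mul D hg (D.diag_good (hB.same hA))
    rwa [mul_inv_cancel_left] at this
  have mulS : ∀ {σ τ : Equiv.Perm Ix}, (∃ B : SL, (∃ d, Mono B σ d) ∧ D.Good B) →
      (∃ B : SL, (∃ d, Mono B τ d) ∧ D.Good B) → ∃ B : SL, (∃ d, Mono B (σ * τ) d) ∧ D.Good B :=
    fun ⟨B, ⟨d, hB⟩, g⟩ ⟨C, ⟨e, hC⟩, g'⟩ => ⟨B * C, ⟨_, hB.mul hC⟩, Good.mul D g g'⟩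
  have blk : ∀ {i j : Ix}, i ≠ j → SameBlk i j → ∃ B : SL, (∃ d, Mono B (Equiv.swap i j) d) ∧ D.Good B := by
    intro i j hij hb
    refine ⟨W i j, ⟨_, W_mono hij⟩, D.good_of_κH (W_mono hij) fun u => ?_⟩
    by_cases h0 : Equiv.swap i j 0 = 0
    · have h1 : Equiv.swap i j 1 = 1 := by
        by_cases hi : i = 0 ∨ i = 1
        · have := hb.mp hi
          rcases hi with rfl | rfl <;> rcases this with rfl | rfl <;> simp_all
        · have hj := fun h => hi (hb.mpr h)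
          simp only [not_or] at hi
          exact Equiv.swap_apply_of_ne_of_ne (Ne.symm hi.2) (fun e => hj (Or.inr e.symm))
      rw [κH, D.mono_blk (k := Units.mk0 _ (mul_ne_zero ((W_mono hij).ne_zero 0) ((W_mono hij).ne_zero 1)))
        (W_mono hij) (Or.inl ⟨h0, h1, rfl⟩), dconj_mH]
      exact D.κH_HT u
    · have h1 : Equiv.swap i j 0 = 1 ∧ Equiv.swap i j 1 = 0 := by
        by_cases hi : i = 0 ∨ i = 1
        · have := hb.mp hi
          rcases hi with rfl | rfl <;> rcases this with rfl | rfl <;> simp_all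
        · have hj := fun h => hi (hb.mpr h)
          simp only [not_or] at hi
          exact absurd (Equiv.swap_apply_of_ne_of_ne (Ne.symm hi.1) (fun e => hj (Or.inl e.symm))) h0
      rw [κH, D.mono_blk (k := Units.mk0 (-((fun k => if k = i then (-1 : F) else 1) 0 *
        (fun k => if k = i then (-1 : F) else 1) 1))
          (neg_ne_zero.mpr (mul_ne_zero ((W_mono hij).ne_zero 0) ((W_mono hij).ne_zero 1))))
        (W_mono hij) (Or.inr ⟨h1.1, h1.2, rfl⟩), dconj_mH]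
      exact D.κH_HT u
  have h20 : ∃ B : SL, (∃ d, Mono B (Equiv.swap 2 0) d) ∧ D.Good B := by
    refine ⟨wE, ⟨_, W_mono ne02.symm⟩, D.good_of_κH (W_mono ne02.symm) fun u => ?_⟩
    have e : D.κH u = D.θ wE * (D.z * D.θ (dg 2 0 u.ne_zero) * D.z⁻¹) * (D.θ wE)⁻¹ := by
      rw [← e2_mH ne02.symm u]; rfl
    have hsq : (wE * wE : SL) ∈ DiagS := ⟨_, by
      have := wE_mono.mul (wE_mono (F := F) (m := m))
      rw [Equiv.swap_mul_self] at this
      exact this⟩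
    rw [e, show D.θ wE * (D.θ wE * (D.z * D.θ (dg 2 0 u.ne_zero) * D.z⁻¹) * (D.θ wE)⁻¹) * (D.θ wE)⁻¹ =
      D.θ wE * D.θ wE * (D.z * D.θ (dg 2 0 u.ne_zero) * D.z⁻¹) * (D.θ wE * D.θ wE)⁻¹ by group, ← map_mul]
    exact D.diag_good hsq _ (D.z_diag (DiagS.dg_mem 2 0 u.ne_zero))
  have h01 : ∃ B : SL, (∃ d, Mono B (Equiv.swap 0 1) d) ∧ D.Good B := blk ne01 (by simp [SameBlk])
  have h0 : ∀ {j : Ix}, j ≠ 0 → ∃ B : SL, (∃ d, Mono B (Equiv.swap 0 j) d) ∧ D.Good B := by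
    intro j hj0
    by_cases hj1 : j = 1
    · subst hj1; exact h01
    by_cases hj2 : j = 2
    · subst hj2; rw [Equiv.swap_comm]; exact h20
    have h2j := blk (Ne.symm hj2) (sameBlk_of_rest ne02.symm ne12.symm hj0 hj1)
    rw [swap3 ne02 (Ne.symm hj0)]
    exact mulS (mulS h2j h20) h2j
  induction σ using Equiv.Perm.swap_induction_on generalizing A c with
  | one => exact ⟨1, ⟨_, Mono.one⟩, D.diag_good (one_mem _)⟩
  | swap_mul σ i j hij ih =>
    obtain ⟨B, hB⟩ := exists_mono (K := (⊤ : Subgroup SL)) ∅ (fun _ _ _ _ _ => trivial) σ (by simp)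
    obtain ⟨-, d, hd⟩ := hB
    refine mulS ?_ (ih hd)
    rcases Data.blk_cases i with hi | ⟨hi0, hi1⟩ <;> rcases Data.blk_cases j with hj | ⟨hj0, hj1⟩
    · exact blk hij (by simp [SameBlk, hi, hj])
    · rcases hi with rfl | rfl
      · exact h0 hj0
      · rw [swap3 ne01.symm (Ne.symm hj1)]
        exact mulS (mulS (h0 hj0) h01) (h0 hj0)
    · rcases hj with rfl | rfl
      · rw [Equiv.swap_comm]; exact h0 hi0
      · rw [Equiv.swap_comm, swap3 ne01.symm (Ne.symm hi1)]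
        exact mulS (mulS (h0 hi0) h01) (h0 hi0)
    · exact blk hij (sameBlk_of_rest hi0 hi1 hj0 hj1)

theorem z_good (h : G) (hh : h ∈ D.HT) : D.z * h * D.z⁻¹ ∈ D.HT := by
  obtain ⟨d, hd, u, rfl⟩ := hh
  rw [← conj_mul]
  refine mul_mem (D.z_diag hd) ?_
  rw [κH, ← D.κ_mT, ← map_inv, ← map_mul, ← map_mul, mT_conj, map_inv]
  exact inv_mem (D.κH_HT u)

/-- The monomial subgroup. -/
def NN : Subgroup G := Subgroup.closure ((D.θ '' {A | A ∈ (MonS : Subgroup SL)}) ∪ {D.z})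

theorem θ_NN {A : SL} {σ : Equiv.Perm Ix} {c : Ix → F} (h : Mono A σ c) : D.θ A ∈ D.NN :=
  Subgroup.subset_closure (Or.inl ⟨A, ⟨σ, c, h⟩, rfl⟩)

theorem z_NN : D.z ∈ D.NN := Subgroup.subset_closure (Or.inr rfl)

theorem HT_le : D.HT ≤ D.NN := by
  rintro _ ⟨d, ⟨c, hd⟩, u, rfl⟩
  refine mul_mem (D.θ_NN hd) ?_
  rw [D.κH_eq]
  exact mul_mem (mul_mem (mul_mem (inv_mem (D.θ_NN (dg_mono 2 0 u.ne_zero))) D.z_NN)
    (D.θ_NN (dg_mono 2 0 u.ne_zero))) (inv_mem D.z_NN)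

theorem NN_le : D.NN ≤ D.NT := by
  rw [NN, Subgroup.closure_le]
  rintro _ (⟨A, ⟨σ, c, hA⟩, rfl⟩ | rfl)
  · refine ⟨D.good_mono hA, fun h hh => ?_⟩
    simpa using D.good_mono hA.inv h hh
  · refine ⟨D.z_good, fun h hh => ?_⟩
    rw [D.z_inv, show (D.θ hE)⁻¹ * D.z * h * D.z = (D.θ hE)⁻¹ * (D.z * h * D.z⁻¹) * (D.z * D.z) by group,
      D.rels.sq]
    exact mul_mem (mul_mem (inv_mem (D.θ_HT (DiagS.dg_mem 0 1 _))) (D.z_good h hh)) (D.θ_HT (DiagS.dg_mem 0 1 _))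

instance : (D.HT.subgroupOf D.NN).Normal :=
  ⟨fun h hh g => (D.NN_le g.2).1 h.1 hh⟩

end Data

/-- The signed basis. -/
def eb : Lbl m → PV (m + 4) F
  | .inl k => ((ev k, 0), 0)
  | .inr k => ((0, ev k), 0)

theorem eb_ne_zero (a : Lbl m) : (eb a : PV (m + 4) F) ≠ 0 := by
  rcases a with k | k <;> simp [eb, ev_ne_zero]

theorem eb_smul_inj {a b : Lbl m} {c d : F} (hc : c ≠ 0) (h : c • (eb a : PV (m + 4) F) = d • eb b) : a = b := by
  rcases a with i | i <;> rcases b with j | j <;> simp [eb, Prod.smul_mk] at h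
  · have := congrFun h i
    by_contra hne
    have hij : i ≠ j := fun e => hne (by rw [e])
    simp [Pi.single_apply, hij, hc] at this
  · exact absurd h.1 hc
  · exact absurd h.2 hc
  · have := congrFun h i
    by_contra hne
    have hij : i ≠ j := fun e => hne (by rw [e])
    simp [Pi.single_apply, hij, hc] at this

theorem levP_ebl {A : SL} {σ : Equiv.Perm Ix} {c : Ix → F} (hA : Mono A σ c) (k : Ix) :
    (levP A).1 (eb (.inl k)) = c k • eb (sc σ (.inl k)) := by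
  show (levP A).1 ((ev k, 0), 0) = _
  rw [levP_apply, hA k]
  simp [eb, sc, Prod.smul_mk]

theorem levP_ebr {A : SL} {σ : Equiv.Perm Ix} {c : Ix → F} (hA : Mono A σ c) (k : Ix) :
    (levP A).1 (eb (.inr k)) = (c k)⁻¹ • eb (sc σ (.inr k)) := by
  show (levP A).1 ((0, ev k), 0) = _
  rw [levP_apply, show (A⁻¹).1ᵀ *ᵥ ev k = _ from τ_mono hA k]
  simp [eb, sc, Prod.smul_mk]

/-- The sign of the crossed Weyl element. -/
def zs : Lbl m → F
  | .inl k => if k = 0 then -1 else 1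
  | .inr k => if k = 0 then -1 else 1

theorem zM_eb (a : Lbl m) : (zM (F := F) (m := m)).1 (eb a) = (zs a : F) • eb (zPerm a) := by
  rcases a with k | k
  · show (zM (F := F) (m := m)).1 ((ev k, 0), 0) = (if k = 0 then (-1 : F) else 1) • _
    rw [zM_apply]
    by_cases h0 : k = 0
    · subst h0
      rw [(Data.zPerm_blk (Or.inl rfl)).1, Equiv.swap_apply_left, if_pos rfl]
      refine Prod.ext (Prod.ext ?_ ?_) (Subsingleton.elim _ _) <;> funext x <;>
        simp [eb, zf, Pi.single_apply] <;> (try split_ifs) <;> simp_all [ne01, ne01.symm]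
    by_cases h1 : k = 1
    · subst h1
      rw [(Data.zPerm_blk (Or.inr rfl)).1, Equiv.swap_apply_right, if_neg h0]
      refine Prod.ext (Prod.ext ?_ ?_) (Subsingleton.elim _ _) <;> funext x <;>
        simp [eb, zf, Pi.single_apply] <;> (try split_ifs) <;> simp_all [ne01, ne01.symm]
    · rw [(Data.zPerm_rest h0 h1).1, if_neg h0, one_smul]
      refine Prod.ext (Prod.ext ?_ ?_) (Subsingleton.elim _ _) <;> funext x <;>
        simp [eb, zf, Pi.single_apply] <;> (try split_ifs) <;> simp_all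
  · show (zM (F := F) (m := m)).1 ((0, ev k), 0) = (if k = 0 then (-1 : F) else 1) • _
    rw [zM_apply]
    by_cases h0 : k = 0
    · subst h0
      rw [(Data.zPerm_blk (Or.inl rfl)).2, Equiv.swap_apply_left, if_pos rfl]
      refine Prod.ext (Prod.ext ?_ ?_) (Subsingleton.elim _ _) <;> funext x <;>
        simp [eb, zf, Pi.single_apply] <;> (try split_ifs) <;> simp_all [ne01, ne01.symm]
    by_cases h1 : k = 1
    · subst h1
      rw [(Data.zPerm_blk (Or.inr rfl)).2, Equiv.swap_apply_right, if_neg h0]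
      refine Prod.ext (Prod.ext ?_ ?_) (Subsingleton.elim _ _) <;> funext x <;>
        simp [eb, zf, Pi.single_apply] <;> (try split_ifs) <;> simp_all [ne01, ne01.symm]
    · rw [(Data.zPerm_rest h0 h1).2, if_neg h0, one_smul]
      refine Prod.ext (Prod.ext ?_ ?_) (Subsingleton.elim _ _) <;> funext x <;>
        simp [eb, zf, Pi.single_apply] <;> (try split_ifs) <;> simp_all

namespace Mdl

variable {G : Type*} [Group G] {D : Data F m G} (M : Mdl D) [Finite F]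

/-- The image of `g` permutes the lines of the signed basis. -/
def Perms (g : G) (p : Equiv.Perm (Lbl m)) : Prop := ∀ a, ∃ c : F, (M.φ g).1 (eb a) = c • eb (p a)

theorem Perms.unique {g : G} {p q : Equiv.Perm (Lbl m)} (h : M.Perms g p) (h' : M.Perms g q) : p = q := by
  refine Equiv.ext fun a => ?_
  obtain ⟨c, hc⟩ := h a
  obtain ⟨d, hd⟩ := h' a
  refine eb_smul_inj (fun e => eb_ne_zero (F := F) a ((M.φ g).1.injective ?_)) (hc.symm.trans hd)
  rw [hc, e, zero_smul, map_zero]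

theorem Perms.mul {g g' : G} {p q : Equiv.Perm (Lbl m)} (h : M.Perms g p) (h' : M.Perms g' q) :
    M.Perms (g * g') (p * q) := fun a => by
  obtain ⟨d, hd⟩ := h' a
  obtain ⟨c, hc⟩ := h (q a)
  refine ⟨d * c, ?_⟩
  rw [map_mul, coe_mul_apply, hd, map_smul, hc, smul_smul]; rfl

theorem Perms.one : M.Perms 1 1 := fun a => ⟨1, by rw [map_one, coe_one_apply, one_smul]; rfl⟩

theorem Perms.inv {g : G} {p : Equiv.Perm (Lbl m)} (h : M.Perms g p) : M.Perms g⁻¹ p⁻¹ := fun a => by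
  obtain ⟨c, hc⟩ := h (p⁻¹ a)
  have hc0 : c ≠ 0 := fun e => eb_ne_zero (F := F) (p⁻¹ a) ((M.φ g).1.injective (by rw [hc, e, zero_smul, map_zero]))
  refine ⟨c⁻¹, (M.φ g).1.injective ?_⟩
  rw [← coe_mul_apply, ← map_mul, mul_inv_cancel, map_one, coe_one_apply, map_smul, hc, inv_smul_smul₀ hc0]
  simp

theorem Perms.θ {A : SL} {σ : Equiv.Perm Ix} {c : Ix → F} (hA : Mono A σ c) : M.Perms (D.θ A) (sc σ) := by
  intro a
  rw [M.hθ]
  rcases a with k | k
  exacts [⟨_, levP_ebl hA k⟩, ⟨_, levP_ebr hA k⟩]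

theorem Perms.z : M.Perms D.z zPerm := fun a => ⟨_, by rw [M.hz]; exact zM_eb a⟩

theorem exists_perms {n : G} (hn : n ∈ D.NN) : ∃ p, M.Perms n p := by
  induction hn using Subgroup.closure_induction with
  | mem x hx =>
    rcases hx with ⟨A, ⟨σ, c, hA⟩, rfl⟩ | rfl
    exacts [⟨_, Perms.θ M hA⟩, ⟨_, Perms.z M⟩]
  | one => exact ⟨1, Perms.one M⟩
  | mul x y _ _ hx hy =>
    obtain ⟨p, hp⟩ := hx; obtain ⟨q, hq⟩ := hy
    exact ⟨_, Perms.mul M hp hq⟩
  | inv x _ hx => obtain ⟨p, hp⟩ := hx; exact ⟨_, Perms.inv M hp⟩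

/-- The signed permutation of a monomial element. -/
noncomputable def ρN : D.NN →* Equiv.Perm (Lbl m) :=
  MonoidHom.mk' (fun n => (M.exists_perms n.2).choose) fun a b =>
    Perms.unique M (M.exists_perms (a * b).2).choose_spec
      (Perms.mul M (M.exists_perms a.2).choose_spec (M.exists_perms b.2).choose_spec)

theorem ρN_eq {n : D.NN} {p : Equiv.Perm (Lbl m)} (h : M.Perms n.1 p) : M.ρN n = p :=
  Perms.unique M (M.exists_perms n.2).choose_spec h

theorem φ_HT {h : G} (hh : h ∈ D.HT) (e : M.φ h = 1) : h = 1 := by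
  obtain ⟨d, ⟨c, hd⟩, u, rfl⟩ := hh
  set d20 : SL := dg 2 0 u.ne_zero
  have e' : levP (d * d20⁻¹) * zM * levP d20 = zM := by
    rw [D.κH_eq] at e
    simp only [map_mul, map_inv, M.hθ, M.hz, ← mul_assoc, mul_inv_eq_one] at e
    rw [map_mul, map_inv]
    exact e
  obtain ⟨e2, he2, hdd⟩ : ∃ e2 : Ix → F, (∀ k, e2 k = c k * (dvec 2 0 (u : F) k)⁻¹) ∧ Mono (d * d20⁻¹) 1 e2 :=
    ⟨_, fun k => rfl, fun k => by
      rw [hd.mul (dg_mono 2 0 u.ne_zero).inv k]; simp [mul_comm]⟩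
  have hsc : (sc (1 : Equiv.Perm Ix) : Equiv.Perm (Lbl m)) = 1 := Equiv.ext fun a => by cases a <;> rfl
  have sl : ∀ {a b : F} {l : Lbl m}, a • (eb l : PV (m + 4) F) = b • eb l → a = b := fun {a b l} h =>
    smul_left_injective F (eb_ne_zero l) h
  have fr : ∀ k, k = 0 ∨ k = 1 → dvec 2 0 (u : F) k * (e2 (Equiv.swap 0 1 k))⁻¹ = 1 := fun k hk => by
    have := congrArg (fun g : orth (hypSum (m + 4) (zeroForm F)) => g.1 (eb (.inl k))) e'
    simp only [coe_mul_apply, levP_ebl (A := d20) (dg_mono 2 0 u.ne_zero), hsc, Equiv.Perm.one_apply, map_smul, zM_eb,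
      (Data.zPerm_blk hk).1, levP_ebr hdd, smul_smul] at this
    have := sl this
    have hz : zs (Sum.inl k : Lbl m) ≠ (0 : F) := by unfold zs; dsimp only; split_ifs <;> simp
    refine mul_right_cancel₀ hz ?_
    rw [one_mul]; linear_combination this
  have rest : ∀ k, k ≠ 0 → k ≠ 1 → c k = 1 := fun k h0 h1 => by
    have := congrArg (fun g : orth (hypSum (m + 4) (zeroForm F)) => g.1 (eb (.inl k))) e'
    simp only [coe_mul_apply, levP_ebl (A := d20) (dg_mono 2 0 u.ne_zero), hsc, Equiv.Perm.one_apply, map_smul, zM_eb,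
      (Data.zPerm_rest h0 h1).1, levP_ebl hdd, smul_smul] at this
    have := sl this
    rw [he2, show zs (Sum.inl k : Lbl m) = (1 : F) by simp [zs, h0]] at this
    have hv : dvec 2 0 (u : F) k ≠ 0 := (dg_mono 2 0 u.ne_zero).ne_zero k
    field_simp at this
    exact this
  have c0 : c 0 = (u : F)⁻¹ := by
    have := fr 1 (Or.inr rfl)
    rw [Equiv.swap_apply_right, he2] at this
    simp [dvec, ne02, ne12, ne01.symm] at this
    rw [← mul_inv, inv_eq_one] at this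
    exact eq_inv_of_mul_eq_one_right this
  have c1 : c 1 = (u : F)⁻¹ := by
    have := fr 0 (Or.inl rfl)
    rw [Equiv.swap_apply_left, he2] at this
    simp [dvec, ne02, ne12, ne01.symm] at this
    have n1 := hd.ne_zero 1
    field_simp at this ⊢
    linear_combination -this
  have hdet : c 0 * c 1 = 1 := by
    have e : d.1 = Matrix.diagonal c := Matrix.ext_of_mulVec_single fun k => by
      rw [show d.1 *ᵥ Pi.single k 1 = _ from hd k]
      funext x; by_cases hx : x = k <;> simp [mulVec_diagonal, hx]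
    have := d.2
    rwa [e, det_diagonal, Finset.prod_eq_mul 0 1 ne01 (fun k _ hk => rest k hk.1 hk.2) (by simp) (by simp)] at this
  rw [c0, c1, ← mul_inv, inv_eq_one] at hdet
  rcases mul_self_eq_one_iff.mp hdet with h1 | h1
  · have hu : u = 1 := Units.ext (by simpa using h1)
    have hd1 : d = 1 := sl_ext fun k => by
      show _ = (1 : Matrix _ _ F) *ᵥ _
      rw [hd k, one_mulVec, Equiv.Perm.one_apply]
      by_cases k0 : k = 0
      · subst k0; simp [c0, h1]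
      by_cases k1 : k = 1
      · subst k1; simp [c1, h1]
      · simp [rest k k0 k1]
    rw [hd1, hu, map_one, one_mul, Data.κH, show (mH 1 : SpecialLinearGroup (Fin 2) F) = 1 from map_one mHHom,
      map_one]
  · have hu : u = -1 := Units.ext (by simpa using h1)
    have hd1 : d = dg 0 1 negone_ne := sl_ext fun k => by
      rw [hd k, dg_mono]
      by_cases k0 : k = 0
      · subst k0; simp [c0, h1, dvec]
      by_cases k1 : k = 1
      · subst k1; simp [c1, h1, dvec, ne01.symm]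
      · simp [rest k k0 k1, dvec, k0, k1]
    rw [hd1, hu, Data.κH, ← mT_sq, map_mul, D.κ_mT, D.rels.sq, ← map_mul]
    refine (congrArg D.θ (sl_ext fun k => ?_)).trans (map_one D.θ)
    show _ = (1 : Matrix _ _ F) *ᵥ _
    rw [sl_mulVec_mul, dg_mono, Equiv.Perm.one_apply, mulVec_smul, dg_mono, Equiv.Perm.one_apply, smul_smul,
      one_mulVec]
    by_cases k0 : k = 0
    · subst k0; simp [dvec]
    by_cases k1 : k = 1
    · subst k1; simp [dvec, ne01.symm]
    · simp [dvec, k0, k1]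

/-- The monomial part maps injectively. -/
theorem NN_inj {n : G} (hn : n ∈ D.NN) (e : M.φ n = 1) : n = 1 := by
  classical
  let mk := QuotientGroup.mk' (D.HT.subgroupOf D.NN)
  choose L hL using fun σ : Equiv.Perm Ix =>
    (exists_mono (K := (⊤ : Subgroup SL)) ∅ (fun _ _ _ _ _ => trivial) σ (by simp)).imp fun A h => h.2
  let ψ0 : Equiv.Perm Ix → (D.NN ⧸ D.HT.subgroupOf D.NN) := fun σ =>
    mk ⟨D.θ (L σ), (hL σ).elim fun c hc => D.θ_NN hc⟩
  have ψ0_eq : ∀ {A : SL} {σ : Equiv.Perm Ix} {c : Ix → F} (hA : Mono A σ c),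
      ψ0 σ = mk ⟨D.θ A, D.θ_NN hA⟩ := fun {A σ c} hA => by
    obtain ⟨d, hd⟩ := hL σ
    refine QuotientGroup.eq.mpr ?_
    show (D.θ (L σ))⁻¹ * D.θ A ∈ D.HT
    rw [← map_inv, ← map_mul]
    exact D.θ_HT (hd.same hA)
  let ψ : Equiv.Perm Ix →* (D.NN ⧸ D.HT.subgroupOf D.NN) := MonoidHom.mk' ψ0 fun σ τ => by
    obtain ⟨c, hc⟩ := hL σ
    obtain ⟨d, hd⟩ := hL τ
    rw [ψ0_eq (hc.mul hd), ← map_mul]
    exact congrArg mk (Subtype.ext (map_mul D.θ _ _))
  have ψ_eq : ∀ {A : SL} {σ : Equiv.Perm Ix} {c : Ix → F} (hA : Mono A σ c),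
      ψ σ = mk ⟨D.θ A, D.θ_NN hA⟩ := fun hA => ψ0_eq hA
  have hker : D.HT.subgroupOf D.NN ≤ M.ρN.ker := by
    rintro ⟨x, hx'⟩ hx
    obtain ⟨d, ⟨c, hd⟩, u, rfl⟩ := (hx : x ∈ D.HT)
    rw [MonoidHom.mem_ker]
    refine ρN_eq M ?_
    have hsc : (sc (1 : Equiv.Perm Ix) : Equiv.Perm (Lbl m)) = 1 := Equiv.ext fun a => by cases a <;> rfl
    have pd := Perms.θ M (dg_mono (n := m + 4) 2 0 u.ne_zero)
    have := Perms.mul M (Perms.θ M hd) (Perms.mul M (Perms.mul M (Perms.mul M (Perms.inv M pd) (Perms.z M)) pd)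
      (Perms.inv M (Perms.z M)))
    rw [← D.κH_eq, hsc, one_mul, inv_one, one_mul, mul_one, mul_inv_cancel] at this
    exact this
  let W : WeylD (D.NN ⧸ D.HT.subgroupOf D.NN) m :=
    { ψ := ψ
      z := mk ⟨D.z, D.z_NN⟩
      ρ := QuotientGroup.lift _ M.ρN hker
      sq := by
        rw [← map_mul]
        refine (QuotientGroup.eq_one_iff _).mpr ?_
        show D.z * D.z ∈ D.HT
        rw [D.rels.sq]; exact D.θ_HT (DiagS.dg_mem _ _ _)
      braid := by
        rw [ψ_eq (W_mono ne02.symm), ← map_mul, ← map_mul, ← map_mul, ← map_mul]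
        exact congrArg mk (Subtype.ext D.rels.braid)
      comm := by
        intro σ hσ
        obtain ⟨A, hA, c, hc⟩ : ∃ A ∈ D.Kz, ∃ c, Mono A σ c := by
          rcases hσ with ⟨h0, h1⟩ | rfl
          · exact exists_mono {0, 1} (fun p q _ hp hq => by
              simp only [Finset.mem_insert, Finset.mem_singleton, not_or] at hp hq
              exact D.W_Kz (Data.sameBlk_of_rest hp.1 hp.2 hq.1 hq.2)) σ (by simp [h0, h1])
          · exact ⟨W 0 1, D.W_Kz (by simp [SameBlk]), _, W_mono ne01⟩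
        rw [ψ_eq hc, Commute, SemiconjBy, ← map_mul, ← map_mul]
        exact congrArg mk (Subtype.ext (D.mem_Kz.mp hA).eq)
      ρψ := fun σ => by
        obtain ⟨c, hc⟩ := hL σ
        rw [ψ_eq hc]
        exact ρN_eq M (Perms.θ M hc)
      ρz := ρN_eq M (Perms.z M) }
  have hall : ∀ x (hx : x ∈ D.NN), mk ⟨x, hx⟩ ∈ Subgroup.closure (Set.range W.ψ ∪ {W.z}) := by
    intro x hx
    induction hx using Subgroup.closure_induction with
    | mem x hx =>
      rcases hx with ⟨A, ⟨σ, c, hA⟩, rfl⟩ | rfl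
      · exact Subgroup.subset_closure (Or.inl ⟨σ, ψ_eq hA⟩)
      · exact Subgroup.subset_closure (Or.inr rfl)
    | one => exact one_mem _
    | mul x y hx hy ihx ihy =>
      rw [show mk ⟨x * y, mul_mem hx hy⟩ = mk ⟨x, hx⟩ * mk ⟨y, hy⟩ from map_mul mk ⟨x, hx⟩ ⟨y, hy⟩]
      exact mul_mem ihx ihy
    | inv x hx ihx =>
      rw [show mk ⟨x⁻¹, inv_mem hx⟩ = (mk ⟨x, hx⟩)⁻¹ from map_inv mk ⟨x, hx⟩]
      exact inv_mem ihx
  have h1 : mk ⟨n, hn⟩ = 1 := W.inj (hall n hn) (by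
    show M.ρN ⟨n, hn⟩ = 1
    refine ρN_eq M (fun a => ⟨1, ?_⟩)
    rw [e, coe_one_apply, one_smul]; rfl)
  exact M.φ_HT ((QuotientGroup.eq_one_iff (⟨n, hn⟩ : D.NN)).mp h1) e

end Mdl

end Cfsg.Agent.KSG55.Om
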